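import Cfsg.Agent.Lib.OddFitting.Decomp

/-!
# Normal Hall subgroups inside `M_σ`
-/

set_option autoImplicit false
set_option linter.style.haveILetI false
set_option linter.unusedSectionVars false

open scoped Pointwise commutatorElement

namespace Cfsg.Agent.Lib.OddFitting.HallSub

open Cfsg.Agent.Lib.OddOrder Cfsg.Agent.Lib.OddOrder.MinSimple Cfsg.Agent.Lib.OddTau
  Cfsg.Agent.Lib.OddTau.Basic

universe u

variable {G : Type u} [Group G] [Finite G]

/-- A Hall subgroup of `L` contains the normal subgroups of `L` on the same primes. -/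
theorem le_of_hall {L H Z : Subgroup G} (hH : H ≤ L) (hHall : (Nat.card H).Coprime (H.relIndex L))
    (hZ : Z ≤ L) (hZn : H ≤ Subgroup.normalizer (Z : Set G))
    (hπ : ∀ r : ℕ, r.Prime → r ∣ Nat.card Z → r ∣ Nat.card H) : Z ≤ H := by
  set S := H ⊔ Z with hS
  have hSL : S ≤ L := sup_le hH hZ
  haveI : (Z.subgroupOf S).Normal := (Subgroup.normal_subgroupOf_iff_le_normalizer le_sup_right).2
    (sup_le hZn Subgroup.le_normalizer)
  have h1 : Nat.card S ∣ Nat.card H * Nat.card Z := by
    have h := Hall.card_sup_dvd (H.subgroupOf S) (Z.subgroupOf S)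
    rwa [← Subgroup.subgroupOf_sup le_sup_left le_sup_right, Subgroup.subgroupOf_self,
      Nat.card_congr Subgroup.topEquiv.toEquiv,
      Nat.card_congr (Subgroup.subgroupOfEquivOfLe (le_sup_left : H ≤ S)).toEquiv,
      Nat.card_congr (Subgroup.subgroupOfEquivOfLe (le_sup_right : Z ≤ S)).toEquiv] at h
  have h2 : H.relIndex S = 1 := by
    have hd : H.relIndex S ∣ Nat.card Z := by
      refine Nat.dvd_of_mul_dvd_mul_left (Nat.card_pos (α := H)) ?_
      rwa [Decomp.card_mul_relIndex le_sup_left]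
    have hd2 : H.relIndex S ∣ H.relIndex L :=
      Dvd.intro _ (Subgroup.relIndex_mul_relIndex H S L le_sup_left hSL)
    refine Nat.eq_one_iff_not_exists_prime_dvd.2 fun r hr h => ?_
    exact hr.ne_one (Nat.eq_one_of_dvd_coprimes hHall (hπ r hr (h.trans hd)) (h.trans hd2))
  exact le_sup_right.trans (Subgroup.relIndex_eq_one.1 h2)

/-- A normal Hall subgroup of a normal subgroup is normal. -/
theorem normal_of_hall {M L Z : Subgroup G} (hLM : M ≤ Subgroup.normalizer (L : Set G))
    (hZ : Z ≤ L) (hZn : L ≤ Subgroup.normalizer (Z : Set G))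
    (hHall : (Nat.card Z).Coprime (Z.relIndex L)) : M ≤ Subgroup.normalizer (Z : Set G) := by
  intro m hm
  have hL : MulAut.conj m • L = L := Coprime.conj_smul_eq_self_of_mem_normalizer (hLM hm)
  have hle : MulAut.conj m • Z ≤ L :=
    (Subgroup.pointwise_smul_le_pointwise_smul_iff.2 hZ).trans hL.le
  refine Coprime.mem_normalizer_of_conj_smul_eq (Subgroup.eq_of_le_of_card_ge
    (le_of_hall hZ hHall hle ?_ fun r hr hd => by rwa [Coprime.card_conj_smul] at hd)
    (Coprime.card_conj_smul m Z).ge)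
  intro z hz
  have h1 : m⁻¹ * z * m ∈ Subgroup.normalizer (Z : Set G) := by
    refine hZn ?_
    have h2 := hL.ge (hZ hz)
    exact Coprime.mem_conj_smul.1 h2
  refine Subgroup.mem_normalizer_fintype fun x hx => ?_
  rw [SetLike.mem_coe, Coprime.mem_conj_smul] at hx ⊢
  rw [show m⁻¹ * (z * x * z⁻¹) * m = (m⁻¹ * z * m) * (m⁻¹ * x * m) * (m⁻¹ * z * m)⁻¹ by group]
  exact (Subgroup.mem_normalizer_iff.1 h1 _).1 hx

/-- The `π`-part of a nilpotent subgroup contains all its `π`-subgroups of prime power order. -/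
theorem pgroup_le_piCoreOf {X Y : Subgroup G} {q : ℕ} [Fact q.Prime] (hX : Group.IsNilpotent X)
    (hY : Y ≤ X) (hYp : IsPGroup q Y) {π : Set ℕ} (hq : q ∈ π) : Y ≤ Cfsg.piCoreOf π X := by
  have h1 : Y ≤ Cfsg.pCoreOf q X :=
    Fitting.le_pCoreOf_of_fitting (hY.trans (Fitting.le_fittingOf le_rfl Subgroup.le_normalizer hX)) hYp
  refine h1.trans (le_piCoreOf (CharP.pCoreOf_le _ _) (CharP.le_normalizer_pCoreOf _ _) ?_)
  intro r hr hd
  rwa [Hall.prime_dvd_pgroup Fact.out hr (CharP.isPGroup_pCoreOf _ _) hd]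

/-- Hall subgroups of a nilpotent subgroup are normal in it. -/
theorem normal_of_nilpotent {L H : Subgroup G} (hL : Group.IsNilpotent L) (hH : H ≤ L)
    (hHall : (Nat.card H).Coprime (H.relIndex L)) : L ≤ Subgroup.normalizer (H : Set G) := by
  set π := {r : ℕ | r ∣ Nat.card H} with hπ
  have heq : H = Cfsg.piCoreOf π L := by
    refine le_antisymm (Coprime.le_of_forall_sylow fun q hq => ?_) ?_
    · haveI := Fact.mk hq
      obtain ⟨P⟩ : Nonempty (Sylow q H) := inferInstance
      refine ⟨P, ?_⟩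
      by_cases hd : (P : Subgroup H).map H.subtype = ⊥
      · rw [hd]; exact bot_le
      · exact pgroup_le_piCoreOf hL ((Subgroup.map_subtype_le _).trans hH) (P.2.map _)
          ((SigmaEmbedding.ne_one_of_pgroup (P.2.map _) hd).trans
            (Subgroup.card_dvd_of_le (Subgroup.map_subtype_le _)))
    · exact le_of_hall hH hHall (piCoreOf_le _ _) (hH.trans (piCoreOf_normal _ _))
        (fun r hr hd => piCoreOf_isPiGroup _ _ r hr hd)
  rw [heq]
  exact piCoreOf_normal _ _

/-- A subgroup of index prime to `r` in `L` through the product with a normal subgroup. -/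
theorem exists_sylow_map {r : ℕ} [Fact r.Prime] {L H : Subgroup G} (hH : H ≤ L)
    (hHall : (Nat.card H).Coprime (H.relIndex L)) (hd : r ∣ Nat.card H) :
    ∃ S : Sylow r L, (S : Subgroup L).map L.subtype ≤ H := by
  obtain ⟨P⟩ : Nonempty (Sylow r H) := inferInstance
  obtain ⟨S, hS⟩ := Decomp.exists_sylow_eq ((Subgroup.map_subtype_le _).trans hH)
    (P.2.map H.subtype) fun h => by
      rw [← Subgroup.relIndex_mul_relIndex _ H L (Subgroup.map_subtype_le _) hH,
        OddOrder.Basic.relIndex_map_subtype] at h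
      rcases (Fact.out : r.Prime).dvd_mul.1 h with h | h
      · exact P.not_dvd_index h
      · exact (Fact.out : r.Prime).ne_one (Nat.eq_one_of_dvd_coprimes hHall hd h)
  exact ⟨S, hS.le.trans (Subgroup.map_subtype_le _)⟩

end Cfsg.Agent.Lib.OddFitting.HallSub
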