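import Cfsg.Agent.Lib.OddFitting.Hyps
import Cfsg.Agent.S1353
import Cfsg.Agent.S1354
import Cfsg.Agent.S1429
import Cfsg.Agent.S1430
import Cfsg.Agent.S1431
import Cfsg.Agent.S1351
import Cfsg.Agent.S1360
import Cfsg.Agent.S1366
import Cfsg.Agent.S1368
import Cfsg.Agent.S1373
import Cfsg.Agent.S1374
import Cfsg.Agent.S1375
import Cfsg.Agent.S1432

/-!
# The hypotheses of BG 15 that are proved rows of BG 14
-/

set_option autoImplicit false

namespace Cfsg.Agent.Lib.OddFitting.Hyps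

universe u

variable {G : Type u} [Group G] [Finite G]

theorem nilpotentOfNonKappa (hG : Cfsg.IsMinSimpleOddOrder G) : NilpotentOfNonKappa G :=
  fun M hM h => by
    obtain ⟨q, hq, hd, hσ, hκ⟩ : ∃ q : ℕ, q.Prime ∧ q ∣ Nat.card M ∧ q ∉ Cfsg.sigma M ∧
        q ∉ Cfsg.kappa M := by
      by_contra hc
      exact h fun q hq hd hσ => by_contra fun hκ => hc ⟨q, hq, hd, hσ, hκ⟩
    haveI := Fact.mk hq
    obtain ⟨S⟩ : Nonempty (Sylow q M) := inferInstance
    exact (Cfsg.Agent.S1429.result hG M hM h q hd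
      (fun hm => hm.elim hσ hκ) S).2.2

theorem primeAction (hG : Cfsg.IsMinSimpleOddOrder G) : PrimeAction G :=
  fun M K hM hK hK1 => (Cfsg.Agent.S1430.result hG M hM K hK hK1).1

theorem regularComplement (hG : Cfsg.IsMinSimpleOddOrder G) : RegularComplement G :=
  fun M K hM hK hK1 => (Cfsg.Agent.S1430.result hG M hM K hK hK1).2.1

theorem regularOnU (hG : Cfsg.IsMinSimpleOddOrder G) : RegularOnU G :=
  fun M K U hM hKU => Cfsg.Agent.S1353.result hG M hM K U hKU

theorem starNeBot (hG : Cfsg.IsMinSimpleOddOrder G) : StarNeBot G :=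
  fun M K hM hKc hK => (Cfsg.Agent.S1354.result hG M hM K hKc hK).1

theorem sylowNotInStar (hG : Cfsg.IsMinSimpleOddOrder G) : SylowNotInStar G :=
  fun M K hM hK hK1 p hp hd S =>
    ((Cfsg.Agent.S1431.result hG M hM K hK hK1).2.2.1 p hp hd S).2.2

theorem kappaCyclic (hG : Cfsg.IsMinSimpleOddOrder G) : KappaCyclic G :=
  fun M K hM hK => (Cfsg.Agent.S1351.result hG M hM).2 K hK

theorem starPrime (hG : Cfsg.IsMinSimpleOddOrder G) : StarPrime G :=
  fun M K U hM hKU hK hU => Cfsg.Agent.S1373.result hG M hM K U hKU hK hU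

theorem starCyclic (hG : Cfsg.IsMinSimpleOddOrder G) : StarCyclic G := by
  intro M K U hM hKU hK
  obtain ⟨Ms, ⟨h1, h2, h3⟩, -⟩ := Cfsg.Agent.S1366.result hG M hM K U hKU hK
  haveI := (Cfsg.Agent.S1368.result hG M hM K U hKU hK Ms h1 h2 h3).2
  exact Subgroup.isCyclic_of_le (le_sup_right : _ ≤ K ⊔ _)

theorem centralizingElement (hG : Cfsg.IsMinSimpleOddOrder G) : CentralizingElement G := by
  intro M hM x hx hx1 x' hx' hx'1 hσ
  rcases Cfsg.Agent.S1432.result hG M hM x hx hx1 x' hx' hx'1 hσ with h | h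
  · exact Or.inl h.1
  · exact Or.inr h.1

theorem conjTransitive (hG : Cfsg.IsMinSimpleOddOrder G) : ConjTransitive G := by
  intro M hM x hx hx1 g hg
  obtain ⟨-, R, -, hR, h⟩ := Cfsg.Agent.S1374.result hG M hM x hx hx1
  obtain ⟨r, ⟨hr, he⟩, -⟩ := h g hg
  exact ⟨r, hR.2.1 hr, he⟩

theorem escapeComplement (hG : Cfsg.IsMinSimpleOddOrder G) : EscapeComplement G := by
  intro M N hM hN x hx hx1 hxM hxN
  obtain ⟨L, -, huniq, -, -, -, hc, -⟩ := Cfsg.Agent.S1375.result hG M hM x hx hx1 hxM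
  exact huniq N hN hxN ▸ hc

theorem regularExponent (hG : Cfsg.IsMinSimpleOddOrder G) : RegularExponent G :=
  fun M K U hM hKU => Cfsg.Agent.S1360.result hG M hM K U hKU

end Cfsg.Agent.Lib.OddFitting.Hyps
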