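import Cfsg.Agent.Lib.OddFitting.Meet
import Cfsg.Agent.Lib.OddFitting.Discharge
import Cfsg.Agent.Lib.OddOrder.BG14.SupportRows
import Cfsg.Agent.Lib.OddOrder.BG14.TypePFixedProof

/-!
# The hypotheses of BG 15.7 hold
-/

set_option autoImplicit false

namespace Cfsg.Agent.Lib.OddFitting.Meet

universe u

theorem base {G : Type u} [Group G] [Finite G] (hG : Cfsg.IsMinSimpleOddOrder G) : Base G where
  min := hG
  nonKappa := Hyps.nilpotentOfNonKappa hG
  cyclic := Hyps.kappaCyclic hG
  prime := Hyps.primeAction hG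
  starPrime := Hyps.starPrime hG
  support := OddOrder.BG14.SupportRows.supportTauTwo
    (OddOrder.BG14.TypePFixedProof.typePFixed hG) hG
  escape := Hyps.escapeComplement hG

end Cfsg.Agent.Lib.OddFitting.Meet
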