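import Cfsg.Agent.Lib.OddFitting.Decomp
import Cfsg.Agent.Lib.OddTau.Context

/-!
# BG 15.1 (a): the centralizer in `M` of a Hall subgroup of `M_σ`
-/

set_option autoImplicit false
set_option linter.style.haveILetI false
set_option linter.unusedSectionVars false

open scoped Pointwise commutatorElement

namespace Cfsg.Agent.Lib.OddFitting.CentralizerHall

open Cfsg.Agent.Lib.OddOrder Cfsg.Agent.Lib.OddOrder.MinSimple Cfsg.Agent.Lib.OddTau
  Cfsg.Agent.Lib.OddTau.Basic Cfsg.Agent.Lib.OddFitting.Hyps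

universe u

variable {G : Type u} [Group G] [Finite G] {M : Subgroup G}

theorem exists_hall_ge {π : Set ℕ} {X : Subgroup G} [Group.IsSolvable M] (hXM : X ≤ M)
    (hX : ∀ p : ℕ, p.Prime → p ∣ Nat.card X → p ∈ π) :
    ∃ H : Subgroup G, Cfsg.IsPiHallOf π H M ∧ X ≤ H := by
  obtain ⟨H, hH, hXH⟩ := Hall.exists_isPiHall_ge (π := π) (K := X.subgroupOf M) fun p hp hd =>
    hX p hp (by rwa [Nat.card_congr (Subgroup.subgroupOfEquivOfLe hXM).toEquiv] at hd)
  refine ⟨H.map M.subtype, Hall.Coprime.isPiHallOf_iff.2 ⟨Subgroup.map_subtype_le _, ?_⟩, ?_⟩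
  · rwa [Subgroup.subgroupOf, Subgroup.comap_map_eq_self_of_injective M.subtype_injective]
  · exact (Subgroup.map_subgroupOf_eq_of_le hXM).ge.trans (Subgroup.map_mono hXH)

/-- A Hall `σ(M)'`-subgroup is a complement of `M_σ`. -/
theorem compl_of_hall (hG : Cfsg.IsMinSimpleOddOrder G) (hM : IsCoatom M) {E : Subgroup G}
    (hE : Cfsg.IsPiHallOf {q | q ∉ Cfsg.sigma M} E M) :
    Cfsg.IsComplIn E (Cfsg.sigmaCore M) M := by
  have hσ := SigmaHall.sigmaCore_isPiHallOf hG hM
  have hcop : (Nat.card E).Coprime (Nat.card (Cfsg.sigmaCore M)) :=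
    Nat.coprime_of_dvd fun r hr h1 h2 => hE.2.1 r hr h1 (mem_sigma_of_dvd hr h2)
  refine OddOrder.Basic.isComplIn_of_card hE.1 hσ.1 (OddOrder.Basic.inf_eq_bot_of_coprime hcop)
    (Nat.dvd_antisymm ?_ (hcop.mul_dvd_of_dvd_of_dvd (Subgroup.card_dvd_of_le hE.1)
      (Subgroup.card_dvd_of_le hσ.1)))
  rw [← Decomp.card_mul_relIndex hE.1]
  refine Nat.mul_dvd_mul_left _ ((Nat.coprime_of_dvd fun r hr a b => ?_ :
    (E.relIndex M).Coprime ((Cfsg.sigmaCore M).relIndex M)).dvd_of_dvd_mul_right ?_)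
  · by_cases hs : r ∈ Cfsg.sigma M
    · exact hσ.2.2 r hr hs b
    · exact hE.2.2 r hr hs a
  · rw [Decomp.card_mul_relIndex hσ.1, ← Decomp.card_mul_relIndex hE.1]
    exact dvd_mul_left _ _

theorem exists_compl_ge (hG : Cfsg.IsMinSimpleOddOrder G) (hM : IsCoatom M) {X : Subgroup G}
    (hXM : X ≤ M) (hX : ∀ p : ℕ, p.Prime → p ∣ Nat.card X → p ∉ Cfsg.sigma M) :
    ∃ E : Subgroup G, Cfsg.IsComplIn E (Cfsg.sigmaCore M) M ∧ X ≤ E := by
  haveI := solvable_of_ne_top hG hM.1
  obtain ⟨E, hE, hXE⟩ := exists_hall_ge (π := {q | q ∉ Cfsg.sigma M}) hXM hX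
  exact ⟨E, compl_of_hall hG hM hE, hXE⟩

theorem not_kappa_of_tau2 (hG : Cfsg.IsMinSimpleOddOrder G) (hM : IsCoatom M) {p : ℕ}
    (hp : p ∈ Cfsg.tau2 M) : p ∉ Cfsg.kappa M := by
  haveI := Fact.mk hp.1
  intro hk
  obtain ⟨A, hAM, hA, hAc⟩ := RankTwoPrime.exists_elemAb_sq hp.2.2.1 hp.2.2.2
  have h : Ctx M p A := ⟨hG, hM, hp, hAM, hA, hAc⟩
  obtain ⟨P, hP⟩ := (h.isPGroup.comap_subtype (K := M)).exists_le_sylow
  haveI := (hk.2.2.2 P).1
  refine h.not_isCyclic ?_
  have h2 : IsCyclic (A.subgroupOf M) :=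
    isCyclic_of_injective (Subgroup.inclusion hP) (Subgroup.inclusion_injective hP)
  exact (Subgroup.subgroupOfEquivOfLe hAM).isCyclic.1 h2

/-- `σ(M)'`-elements of prime order centralizing a Hall subgroup of `M_σ` belong to `τ₂(M)`. -/
theorem tau2_of_centralizes (hG : Cfsg.IsMinSimpleOddOrder G) (h32 : CentralizingElement G)
    (hPA : PrimeAction G) (hSN : SylowNotInStar G) (hM : IsCoatom M) {H : Subgroup G}
    (hH : H ≤ Cfsg.sigmaCore M) (hH1 : H ≠ ⊥)
    (hHall : (Nat.card H).Coprime (H.relIndex (Cfsg.sigmaCore M))) {x : G} {q : ℕ} (hq : q.Prime)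
    (hx : x ∈ M) (hxq : orderOf x = q) (hqσ : q ∉ Cfsg.sigma M)
    (hxH : x ∈ Subgroup.centralizer (H : Set G)) : q ∈ Cfsg.tau2 M := by
  obtain ⟨h, hh, hh1⟩ := (Subgroup.bot_or_exists_ne_one H).resolve_left hH1
  have hx1 : x ≠ 1 := fun e => hq.ne_one (by rw [← hxq, e, orderOf_one])
  rcases h32 M hM h (hH hh) hh1 x ⟨hx, Subgroup.mem_centralizer_singleton_iff.2
    (Subgroup.mem_centralizer_iff.1 hxH h hh).symm⟩ hx1 (fun p hp hd => by
      rwa [(Nat.prime_dvd_prime_iff_eq hp hq).1 (hxq ▸ hd)]) with hk | ht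
  · exfalso
    haveI := solvable_of_ne_top hG hM.1
    obtain ⟨K, hK, hxK⟩ := exists_hall_ge (π := Cfsg.kappa M) (Subgroup.zpowers_le.2 hx)
      (fun p hp hd => hk p hp (by rwa [Nat.card_zpowers] at hd))
    have hxK' : x ∈ K := hxK (Subgroup.mem_zpowers x)
    have hK1 : K ≠ ⊥ := fun e => hx1 (Subgroup.mem_bot.1 (e ▸ hxK'))
    have hHs : H ≤ Cfsg.sigmaCore M ⊓ Subgroup.centralizer (K : Set G) := by
      rw [← hPA M K hM hK hK1 x hxK' hx1]
      exact fun y hy => ⟨hH hy, Subgroup.mem_centralizer_singleton_iff.2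
        (Subgroup.mem_centralizer_iff.1 hxH y hy)⟩
    obtain ⟨r, hr, hd⟩ := Nat.exists_prime_and_dvd (mt Subgroup.card_eq_one.1 hH1)
    haveI := Fact.mk hr
    obtain ⟨P⟩ : Nonempty (Sylow r H) := inferInstance
    set P₀ := (P : Subgroup H).map H.subtype with hP₀
    have hP₀H : P₀ ≤ H := Subgroup.map_subtype_le _
    have hnd : ¬ r ∣ (P₀.subgroupOf (Cfsg.sigmaCore M)).index := by
      intro h
      rw [← Subgroup.relIndex, ← Subgroup.relIndex_mul_relIndex P₀ H _ hP₀H hH, hP₀,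
        OddOrder.Basic.relIndex_map_subtype] at h
      rcases hr.dvd_mul.1 h with h | h
      · exact P.not_dvd_index h
      · exact hr.ne_one (Nat.eq_one_of_dvd_coprimes hHall hd h)
    obtain ⟨S, hS⟩ := Decomp.exists_sylow_eq (hP₀H.trans hH) (P.2.map H.subtype) hnd
    refine hSN M K hM hK hK1 r hr (hd.trans (Subgroup.card_dvd_of_le hHs)) S ?_
    rw [hS]
    exact hP₀H.trans hHs
  · exact ht q hq (dvd_of_eq hxq.symm)

/-- BG 15.1 (a). -/
theorem centralizer_hall (hG : Cfsg.IsMinSimpleOddOrder G) (h32 : CentralizingElement G)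
    (hPA : PrimeAction G) (hSN : SylowNotInStar G) (hM : IsCoatom M) {H : Subgroup G}
    (hH : H ≤ Cfsg.sigmaCore M) (hH1 : H ≠ ⊥)
    (hHall : (Nat.card H).Coprime (H.relIndex (Cfsg.sigmaCore M))) :
    ∃ X : Subgroup G, IsCyclic X ∧ (∀ p : ℕ, p.Prime → p ∣ Nat.card X → p ∈ Cfsg.tau2 M) ∧
      M ⊓ Subgroup.centralizer (H : Set G) =
        (Cfsg.sigmaCore M ⊓ Subgroup.centralizer (H : Set G)) ⊔ X := by
  haveI := solvable_of_ne_top hG hM.1
  set C := M ⊓ Subgroup.centralizer (H : Set G) with hC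
  haveI : Group.IsSolvable C := Coprime.isSolvable_of_le inf_le_left
  obtain ⟨X, hXC, hXπ, hXi⟩ := Hall.exists_isPiHallOf {q | q ∉ Cfsg.sigma M} C
  have hXM : X ≤ M := hXC.trans inf_le_left
  have hτ : ∀ p : ℕ, p.Prime → p ∣ Nat.card X → p ∈ Cfsg.tau2 M := fun p hp hd => by
    haveI := Fact.mk hp
    obtain ⟨y, hy⟩ := exists_prime_orderOf_dvd_card' (G := X) p hd
    exact tau2_of_centralizes hG h32 hPA hSN hM hH hH1 hHall hp (hXM y.2)
      (by rw [Subgroup.orderOf_coe, hy]) (hXπ p hp hd) (hXC y.2).2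
  refine ⟨X, ?_, hτ, le_antisymm ?_ (sup_le (inf_le_inf_right _ (sigmaCore_le M)) hXC)⟩
  · obtain ⟨E, hE, hXE⟩ := exists_compl_ge hG hM hXM hXπ
    have hnorm : ∀ (q : ℕ) [Fact q.Prime] (P : Sylow q X), (P : Subgroup X).Normal := by
      intro q _ P
      by_cases hd : q ∣ Nat.card X
      · have hqτ := hτ q Fact.out hd
        by_cases hne : Cfsg.tau2 M = {q}
        · have htop : (P : Subgroup X) = ⊤ := by
            refine Subgroup.index_eq_one.1 (Nat.eq_one_iff_not_exists_prime_dvd.2 fun r hr h => ?_)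
            have hrτ := hτ r hr (h.trans (Subgroup.index_dvd_card _))
            rw [hne, Set.mem_singleton_iff] at hrτ
            exact P.not_dvd_index (hrτ ▸ h)
          rw [htop]; infer_instance
        · obtain ⟨A, hAE, hA⟩ := TauTwoAbelian.exists_ctx hG hM hE hqτ
          obtain ⟨S, hAS⟩ := hA.isPGroup.exists_le_sylow
          obtain ⟨hSE, hES⟩ := TauTwoAbelian.sylow_compl hA hE hAE hAS
            (TauTwoAbelian.isMulCommutative_of_ne hA hE hAE hne S)
          have hPS : (P : Subgroup X).map X.subtype ≤ (S : Subgroup G) :=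
            TauTwoAbelian.eq_of_le_normalizer S (P.2.map _)
              (((Subgroup.map_subtype_le _).trans hXE).trans hES)
          have heq : (S : Subgroup G).subgroupOf X = P := P.is_maximal' S.2.comap_subtype
            fun x hx => hPS (Subgroup.mem_map_of_mem _ hx)
          rw [← heq]
          exact ⟨fun n hn g =>
            (Subgroup.mem_normalizer_iff.1 (hES (hXE g.2)) (n : G)).1 hn⟩
      · have hbot : (P : Subgroup X) = ⊥ := by
          obtain ⟨n, hn⟩ := IsPGroup.iff_card.1 P.2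
          rcases n with _ | n
          · exact Subgroup.card_eq_one.1 (hn.trans (pow_zero q))
          · exact absurd (((dvd_pow_self q n.succ_ne_zero).trans hn.symm.dvd).trans
              (Subgroup.card_subgroup_dvd_card _)) hd
        rw [hbot]; infer_instance
    haveI : Group.IsNilpotent X := (Group.isNilpotent_of_finite_tfae (G := X)).out 3 0 |>.1 hnorm
    refine CyclicSylow.isCyclic_of_sylow_cyclic fun q hq P => ?_
    haveI := Fact.mk hq
    by_cases hP1 : (P : Subgroup X) = ⊥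
    · rw [hP1]; infer_instance
    by_contra hnc
    set P₀ := (P : Subgroup X).map X.subtype with hP₀
    have hd : q ∣ Nat.card X :=
      (SigmaEmbedding.ne_one_of_pgroup P.2 hP1).trans (Subgroup.card_subgroup_dvd_card _)
    have hP₀p : IsPGroup q P₀ := P.2.map _
    have hnc₀ : ¬ IsCyclic P₀ := fun hc => hnc
      ((Subgroup.equivMapOfInjective _ _ X.subtype_injective).isCyclic.2 hc)
    obtain ⟨B, -, hB, hBc⟩ := PGroups.exists_normal_elemAb_sq
      (ne_two_of_dvd hG (hd.trans X.card_subgroup_dvd_card)) hP₀p hnc₀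
    have hBX : B.map P₀.subtype ≤ X := (Subgroup.map_subtype_le _).trans (Subgroup.map_subtype_le _)
    have hA : Ctx M q (B.map P₀.subtype) := ⟨hG, hM, hτ q hq hd, hBX.trans hXM,
      PGroups.elemAb_map P₀.subtype hB,
      (Subgroup.card_map_of_injective P₀.subtype_injective).trans hBc⟩
    exact hH1 (le_bot_iff.1 ((le_inf hH
      (Subgroup.le_centralizer_iff.1 (hBX.trans (hXC.trans inf_le_right)))).trans
        (Context.centralizer_inf_eq_bot hA).le))
  · refine Coprime.le_of_forall_sylow fun q hq => ?_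
    haveI := Fact.mk hq
    by_cases hs : q ∈ Cfsg.sigma M
    · obtain ⟨P⟩ : Nonempty (Sylow q C) := inferInstance
      refine ⟨P, le_trans (le_inf ?_ ?_) le_sup_left⟩
      · exact pgroup_le_sigmaCore hG hM hs (P.2.map _)
          ((Subgroup.map_subtype_le _).trans inf_le_left)
      · exact (Subgroup.map_subtype_le _).trans inf_le_right
    · obtain ⟨Q⟩ : Nonempty (Sylow q X) := inferInstance
      have hQC : (Q : Subgroup X).map X.subtype ≤ C := (Subgroup.map_subtype_le _).trans hXC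
      have hnd : ¬ q ∣ (((Q : Subgroup X).map X.subtype).subgroupOf C).index := by
        intro h
        rw [← Subgroup.relIndex, ← Subgroup.relIndex_mul_relIndex _ X _ (Subgroup.map_subtype_le _)
          hXC, OddOrder.Basic.relIndex_map_subtype] at h
        rcases hq.dvd_mul.1 h with h | h
        · exact Q.not_dvd_index h
        · exact hXi q hq hs h
      obtain ⟨S, hS⟩ := Decomp.exists_sylow_eq hQC (Q.2.map X.subtype) hnd
      refine ⟨S, ?_⟩
      rw [hS]
      exact (Subgroup.map_subtype_le _).trans le_sup_right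

end Cfsg.Agent.Lib.OddFitting.CentralizerHall
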