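import Cfsg.Agent.Lib.OddFitting.Structure
import Cfsg.Agent.Lib.OddFitting.CentralizerHall

/-!
# BG 15.1, 15.2: `M''`, `F(M)`, `M' / M_F` (the content of S1355 and S1356)
-/

set_option autoImplicit false
set_option linter.style.haveILetI false
set_option linter.unusedSectionVars false

open scoped Pointwise commutatorElement

namespace Cfsg.Agent.Lib.OddFitting.Chain

open Cfsg.Agent.Lib.OddOrder Cfsg.Agent.Lib.OddOrder.MinSimple Cfsg.Agent.Lib.OddTau
  Cfsg.Agent.Lib.OddTau.Basic Cfsg.Agent.Lib.OddFitting.Hyps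
  Cfsg.Agent.Lib.OddFitting.NotNilpotent

universe u

variable {G : Type u} [Group G] [Finite G] {M : Subgroup G}

theorem le_normalizer_commutator {X A B : Subgroup G} (hA : X ≤ Subgroup.normalizer (A : Set G))
    (hB : X ≤ Subgroup.normalizer (B : Set G)) :
    X ≤ Subgroup.normalizer ((⁅A, B⁆ : Subgroup G) : Set G) := fun m hm =>
  Subgroup.mem_normalizer_fintype fun x hx => by
    have h1 : ⁅A, B⁆.map (MulAut.conj m).toMonoidHom ≤ ⁅A, B⁆ := by
      rw [Subgroup.map_commutator]
      refine Subgroup.commutator_mono ?_ ?_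
      · rintro _ ⟨y, hy, rfl⟩
        exact (Subgroup.mem_normalizer_iff.1 (hA hm) y).1 hy
      · rintro _ ⟨y, hy, rfl⟩
        exact (Subgroup.mem_normalizer_iff.1 (hB hm) y).1 hy
    exact h1 (Subgroup.mem_map_of_mem _ hx)

theorem derived_normal (M : Subgroup G) :
    M ≤ Subgroup.normalizer ((⁅M, M⁆ : Subgroup G) : Set G) :=
  Coprime.left_le_normalizer_commutator M M

theorem second_derived_normal (M : Subgroup G) :
    M ≤ Subgroup.normalizer ((⁅⁅M, M⁆, ⁅M, M⁆⁆ : Subgroup G) : Set G) :=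
  le_normalizer_commutator (derived_normal M) (derived_normal M)

theorem isNilpotent_sup_of_commute {A B : Subgroup G} (hA : Group.IsNilpotent A)
    (hB : Group.IsNilpotent B) (h : A ≤ Subgroup.centralizer (B : Set G)) :
    Group.IsNilpotent ↥(A ⊔ B) := by
  refine Cores.isNilpotent_of_le (K := Cfsg.fittingOf (A ⊔ B)) (sup_le ?_ ?_)
    (Cores.fittingOf_isNilpotent _)
  · exact Fitting.le_fittingOf le_sup_left (sup_le Subgroup.le_normalizer
      ((Subgroup.le_centralizer_iff.1 h).trans (Subgroup.centralizer_le_normalizer _))) hA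
  · exact Fitting.le_fittingOf le_sup_right (sup_le
      (h.trans (Subgroup.centralizer_le_normalizer _)) Subgroup.le_normalizer) hB

theorem exists_setup (hG : Cfsg.IsMinSimpleOddOrder G) (h29 : NilpotentOfNonKappa G)
    (hKC : KappaCyclic G) (hPA : PrimeAction G) (hSP : StarPrime G) (hM : IsCoatom M)
    (hn : ¬ Group.IsNilpotent (Cfsg.sigmaCore M)) : ∃ K : Subgroup G, Setup M K := by
  haveI := solvable_of_ne_top hG hM.1
  obtain ⟨K, hK⟩ := Hall.exists_isPiHallOf (Cfsg.kappa M) M
  exact ⟨K, hG, hM, hn, hK, hKC M K hM hK, h29, hPA, hSP⟩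

theorem isNilpotent_map_mk {M : Type u} [Group M] [Finite M] {N X Y : Subgroup M} [N.Normal]
    (hX : X ≤ Y ⊔ N) (hY : Group.IsNilpotent Y) :
    Group.IsNilpotent ↥(X.map (QuotientGroup.mk' N)) := by
  refine Cores.isNilpotent_of_le (K := Y.map (QuotientGroup.mk' N)) ?_ (Cores.isNilpotent_map _ hY)
  refine (Subgroup.map_mono hX).trans ?_
  rw [Subgroup.map_sup, QuotientGroup.map_mk'_self, sup_bot_eq]

/-- BG 15.1 (S1355). -/
theorem fitting_hall_chain (hG : Cfsg.IsMinSimpleOddOrder G) (h29 : NilpotentOfNonKappa G)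
    (hKC : KappaCyclic G) (hPA : PrimeAction G) (hSP : StarPrime G) (hM : IsCoatom M) :
    Cfsg.fittingHallOf M ≠ ⊥ ∧ Cfsg.fittingHallOf M ≤ Cfsg.sigmaCore M ∧
      Cfsg.sigmaCore M ≤ ⁅M, M⁆ ∧ ⁅M, M⁆ < M ∧
      Group.IsNilpotent ↥((commutator ↥M).map (QuotientGroup.mk' (Cfsg.fittingHall ↥M))) := by
  refine ⟨?_, Decomp.fittingHallOf_le_sigmaCore hG hM, BetaCore.sigmaCore_le_derived hG hM,
    Decomp.derived_lt hG hM, ?_⟩
  · by_cases hn : Group.IsNilpotent (Cfsg.sigmaCore M)
    · rw [Decomp.fittingHallOf_eq_of_isNilpotent hG hM hn]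
      exact Decomp.sigmaCore_ne_bot hG hM
    · obtain ⟨K, S⟩ := exists_setup hG h29 hKC hPA hSP hM hn
      exact fun e => S.sylow_ne_bot (le_bot_iff.1 (e ▸ S.sylow_le_fittingHall))
  · suffices h : ∃ Y : Subgroup G, Y ≤ M ∧ Group.IsNilpotent Y ∧
        ⁅M, M⁆ ≤ Y ⊔ Cfsg.fittingHallOf M by
      obtain ⟨Y, hYM, hY, hle⟩ := h
      refine isNilpotent_map_mk (Y := Y.subgroupOf M) ?_ ?_
      · rw [← Subgroup.map_le_map_iff_of_injective M.subtype_injective,
          Subgroup.map_subtype_commutator, Subgroup.map_sup, Subgroup.map_subgroupOf_eq_of_le hYM]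
        exact hle
      · haveI := hY
        exact Group.nilpotent_of_mulEquiv (Subgroup.subgroupOfEquivOfLe hYM).symm
    by_cases hn : Group.IsNilpotent (Cfsg.sigmaCore M)
    · obtain ⟨E, hE⟩ := MaximalBasics.exists_compl hG hM
      exact ⟨⁅E, E⁆, (MaximalBasics.derived_le_self E).trans hE.1,
        SigmaCompl.isNilpotent_derived hG hM hE,
        Decomp.fittingHallOf_eq_of_isNilpotent hG hM hn ▸ SigmaCompl.derived_le hE⟩
    · obtain ⟨K, S⟩ := exists_setup hG h29 hKC hPA hSP hM hn
      obtain ⟨D, hD, hKD⟩ := Chief.exists_invariant_compl S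
      refine ⟨D, hD.2.1.trans (sigmaCore_le M), (Chief.props_invariant S hD hKD).nilpotent, ?_⟩
      rw [← S.derived_eq, ← OddOrder.Basic.isComplIn_sup hD]
      exact sup_le (S.sylow_le_fittingHall.trans le_sup_right) le_sup_left

/-- `M'' ≤ F(M)`. -/
theorem second_derived_le_fitting (hG : Cfsg.IsMinSimpleOddOrder G) (h29 : NilpotentOfNonKappa G)
    (hKC : KappaCyclic G) (hPA : PrimeAction G) (hSP : StarPrime G) (hM : IsCoatom M) :
    ⁅⁅M, M⁆, ⁅M, M⁆⁆ ≤ Cfsg.fittingOf M := by
  have hM'' : ⁅⁅M, M⁆, ⁅M, M⁆⁆ ≤ M :=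
    (Subgroup.commutator_mono (MaximalBasics.derived_le_self M)
      (MaximalBasics.derived_le_self M)).trans (MaximalBasics.derived_le_self M)
  refine Fitting.le_fittingOf hM'' (second_derived_normal M) ?_
  by_cases hn : Group.IsNilpotent (Cfsg.sigmaCore M)
  · obtain ⟨E, hE⟩ := MaximalBasics.exists_compl hG hM
    have hE'E : ⁅E, E⁆ ≤ E := MaximalBasics.derived_le_self E
    have hab : IsMulCommutative ↥⁅E, E⁆ := TauTwoAbelian.isMulCommutative_of_sigma' hG hM
      (hE'E.trans hE.1) (SigmaCompl.isNilpotent_derived hG hM hE)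
      fun q hq hd => TauTwoAbelian.not_sigma_of_dvd hG hM hE hq
        (hd.trans (Subgroup.card_dvd_of_le hE'E))
    have h2 := MaximalBasics.derived_le_of_sup (L := Cfsg.sigmaCore M ⊔ ⁅E, E⁆) le_sup_left
      (sup_le Subgroup.le_normalizer ((hE'E.trans hE.1).trans (le_normalizer_sigmaCore M)))
      le_sup_right rfl
    rw [Subgroup.commutator_eq_bot_iff_le_centralizer.2
      (Subgroup.le_centralizer_iff_isMulCommutative.2 hab), sup_bot_eq] at h2
    exact Cores.isNilpotent_of_le ((Subgroup.commutator_mono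
      ((SigmaCompl.derived_le hE).trans (sup_comm _ _).le)
      ((SigmaCompl.derived_le hE).trans (sup_comm _ _).le)).trans h2) hn
  · obtain ⟨K, S⟩ := exists_setup hG h29 hKC hPA hSP hM hn
    obtain ⟨D, hD, hKD⟩ := Chief.exists_invariant_compl S
    have P := Chief.props_invariant S hD hKD
    haveI := Fact.mk S.star_prime
    have h2 := MaximalBasics.derived_le_of_sup (L := Cfsg.sigmaCore M) hD.1
      ((sigmaCore_le M).trans S.sylow_normal) hD.2.1 (OddOrder.Basic.isComplIn_sup hD)
    rw [← S.derived_eq]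
    refine Cores.isNilpotent_of_le h2 (isNilpotent_sup_of_commute
      (CharP.isPGroup_pCoreOf _ _).isNilpotent ?_ (Subgroup.le_centralizer_iff.1 P.derived))
    exact Cores.isNilpotent_of_le (MaximalBasics.derived_le_self D) P.nilpotent

/-- `M ∩ C(M_F)` is nilpotent. -/
theorem isNilpotent_centralizer (hG : Cfsg.IsMinSimpleOddOrder G) (h29 : NilpotentOfNonKappa G)
    (hKC : KappaCyclic G) (hPA : PrimeAction G) (hSP : StarPrime G) (h32 : CentralizingElement G)
    (hSN : SylowNotInStar G) (hM : IsCoatom M) :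
    Group.IsNilpotent ↥(M ⊓ Subgroup.centralizer (Cfsg.fittingHallOf M : Set G)) := by
  by_cases hn : Group.IsNilpotent (Cfsg.sigmaCore M)
  · have e := Decomp.fittingHallOf_eq_of_isNilpotent hG hM hn
    rw [e]
    obtain ⟨X, hX, -, hC⟩ := CentralizerHall.centralizer_hall hG h32 hPA hSN hM le_rfl
      (Decomp.sigmaCore_ne_bot hG hM) (by rw [Subgroup.relIndex_self]; exact Nat.coprime_one_right _)
    rw [hC]
    haveI := hX
    refine isNilpotent_sup_of_commute (Cores.isNilpotent_of_le inf_le_left hn) ?_ ?_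
    · letI : CommGroup X := IsCyclic.commGroup
      infer_instance
    · intro c hc
      refine Subgroup.mem_centralizer_iff.2 fun x hx => ?_
      have hxC : x ∈ M ⊓ Subgroup.centralizer (Cfsg.sigmaCore M : Set G) :=
        hC.ge (Subgroup.mem_sup_right hx)
      exact (Subgroup.mem_centralizer_iff.1 hxC.2 c hc.1).symm
  · obtain ⟨K, S⟩ := exists_setup hG h29 hKC hPA hSP hM hn
    haveI := Fact.mk S.star_prime
    obtain ⟨D, hD, hKD⟩ := Chief.exists_invariant_compl S
    have P := Chief.props_invariant S hD hKD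
    set C := M ⊓ Subgroup.centralizer (Cfsg.fittingHallOf M : Set G) with hC
    have hCM : C ≤ M := inf_le_left
    have hCn : M ≤ Subgroup.normalizer (C : Set G) :=
      Coprime.le_normalizer_inf Subgroup.le_normalizer
        ((OddOrder.Basic.fittingHallOf_normal M).trans
          (Fitting.normalizer_le_normalizer_centralizer _))
    have hCQ : C ≤ Subgroup.centralizer (coreQ M K : Set G) :=
      inf_le_right.trans (Subgroup.centralizer_le (SetLike.coe_subset_coe.2 S.sylow_le_fittingHall))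
    have hCs : C ≤ Cfsg.sigmaCore M := by
      by_contra hns
      haveI := Fact.mk P.prime
      set p := Nat.card K with hp
      have hpC : p ∣ Nat.card C := by
        by_contra hd
        refine hns fun c hc => ?_
        obtain ⟨k, hk, s, hs, rfl⟩ := S.compl.2.2.2 c (hCM hc)
        haveI : ((Cfsg.sigmaCore M).subgroupOf M).Normal :=
          (Subgroup.normal_subgroupOf_iff_le_normalizer (sigmaCore_le M)).2 (le_normalizer_sigmaCore M)
        have h1 : Quot.proj M (Cfsg.sigmaCore M) ⟨k * s, hCM hc⟩ = 1 := by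
          rw [← orderOf_eq_one_iff]
          refine Nat.eq_one_of_dvd_coprimes ((Nat.Prime.coprime_iff_not_dvd P.prime).2 hd) ?_
            ((orderOf_map_dvd _ _).trans (by
              rw [Subgroup.orderOf_mk]; exact Subgroup.orderOf_dvd_natCard _ hc))
          refine (orderOf_dvd_natCard _).trans (dvd_of_eq ?_)
          rw [← Subgroup.index_eq_card, ← Subgroup.relIndex,
            OddOrder.Basic.isComplIn_relIndex (OddOrder.Basic.isComplIn_symm S.compl)]
        exact Quot.proj_eq_one.1 h1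
      obtain ⟨c, hc⟩ := exists_prime_orderOf_dvd_card' (G := C) p hpC
      have hco : orderOf (c : G) = p := by rw [Subgroup.orderOf_coe, hc]
      obtain ⟨m, hm, e⟩ := Coprime.exists_conj_eq_of_coprime
        (A := K) (B := Subgroup.zpowers (c : G)) (K := Cfsg.sigmaCore M)
        (S.hall.1.trans (le_normalizer_sigmaCore M)) (Decomp.coprime_kappa S.hall)
        (Or.inr (isSolvable_sigmaCore hG hM))
        (by rw [OddOrder.Basic.isComplIn_sup S.compl]; exact Subgroup.zpowers_le.2 (hCM c.2))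
        (by rw [Nat.card_zpowers, hco])
      have hKC' : K ≤ C := by
        intro k hk
        have h1 : MulAut.conj m • k ∈ C := by
          refine Subgroup.zpowers_le.2 c.2 ?_
          rw [← e]
          exact Subgroup.smul_mem_pointwise_smul _ _ _ hk
        simpa using (Subgroup.mem_normalizer_iff.1 (hCn (sigmaCore_le M hm)) k).2 (by simpa using h1)
      have hQs : coreQ M K ≤ kStar M K := le_inf S.sylow_le_sigma
        (Subgroup.le_centralizer_iff.1 (hKC'.trans hCQ))
      have h2 := Subgroup.card_le_of_le hQs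
      rw [P.card] at h2
      have h3 : Nat.card (kStar M K) < Nat.card (kStar M K) ^ Nat.card K :=
        lt_self_pow₀ S.star_prime.one_lt P.prime.one_lt
      exact absurd h2 (not_le.2 (lt_of_lt_of_le h3 (Nat.le_mul_of_pos_left _ Nat.card_pos)))
    haveI hQn : ((coreQ M K).subgroupOf M).Normal :=
      (Subgroup.normal_subgroupOf_iff_le_normalizer S.sylow_le).2 S.sylow_normal
    haveI : Group.IsNilpotent (Quot.img M (coreQ M K) C) :=
      Cores.isNilpotent_of_le (Quot.img_mono hCs) (S.isNilpotent_img S.sylow_le_sigma S.star_le_sylow)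
    refine Subgroup.isNilpotent_of_ker_le_center (Quot.toImg (N := coreQ M K) hCM) ?_
    intro x hx
    have hxQ : (x : G) ∈ coreQ M K :=
      (Quot.proj_eq_one (M := M) (x := Subgroup.inclusion hCM x)).1
        (congrArg Subtype.val (MonoidHom.mem_ker.1 hx))
    exact Subgroup.mem_center_iff.2 fun y => Subtype.ext
      (Subgroup.mem_centralizer_iff.1 (hCQ y.2) x hxQ).symm

/-- `F(M) = (M ∩ C(M_F)) M_F`. -/
theorem fitting_eq (hG : Cfsg.IsMinSimpleOddOrder G) (h29 : NilpotentOfNonKappa G)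
    (hKC : KappaCyclic G) (hPA : PrimeAction G) (hSP : StarPrime G) (h32 : CentralizingElement G)
    (hSN : SylowNotInStar G) (hM : IsCoatom M) :
    Cfsg.fittingOf M =
      (M ⊓ Subgroup.centralizer (Cfsg.fittingHallOf M : Set G)) ⊔ Cfsg.fittingHallOf M := by
  set H := Cfsg.fittingHallOf M with hH
  have hHn := OddOrder.Basic.fittingHallOf_normal M
  refine le_antisymm (fun x hx => OddLocal.DerivedFitting.mem_of_primePow_parts fun q hq y hy hyk => ?_)
    (sup_le (Fitting.le_fittingOf inf_le_left (Coprime.le_normalizer_inf Subgroup.le_normalizer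
        (hHn.trans (Fitting.normalizer_le_normalizer_centralizer _)))
        (isNilpotent_centralizer hG h29 hKC hPA hSP h32 hSN hM))
      (OddOrder.Basic.fittingHallOf_le_fittingOf M))
  haveI := Fact.mk hq
  obtain ⟨k, hk⟩ := hyk
  have hyO := Fitting.mem_pCoreOf_of_pow (Subgroup.zpowers_le.2 hx hy) hk
  set O := Cfsg.pCoreOf q M with hO
  have hOM : O ≤ M := CharP.pCoreOf_le _ _
  have hOp : IsPGroup q O := CharP.isPGroup_pCoreOf _ _
  by_cases hd : q ∣ Nat.card H
  · refine Subgroup.mem_sup_right ?_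
    haveI : (H.subgroupOf M).Normal :=
      (Subgroup.normal_subgroupOf_iff_le_normalizer (OddOrder.Basic.fittingHallOf_le M)).2 hHn
    refine (Quot.proj_eq_one (M := M) (x := ⟨y, hOM hyO⟩)).1 (orderOf_eq_one_iff.1 ?_)
    refine Nat.eq_one_of_dvd_coprimes (OddOrder.Basic.fittingHallOf_coprime M) ?_
      ((orderOf_dvd_natCard _).trans (Subgroup.index_eq_card _).symm.dvd)
    refine (orderOf_map_dvd _ _).trans ?_
    rw [Subgroup.orderOf_mk]
    rw [hk]
    have hle : q ^ k ∣ Nat.card M :=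
      hk ▸ (O.orderOf_dvd_natCard hyO).trans (Subgroup.card_dvd_of_le hOM)
    rw [← Decomp.card_mul_relIndex (OddOrder.Basic.fittingHallOf_le M)] at hle
    refine Nat.Coprime.dvd_of_dvd_mul_right (Nat.Coprime.pow_left k ?_) hle
    exact (Nat.Prime.coprime_iff_not_dvd hq).2 fun h =>
      hq.ne_one (Nat.eq_one_of_dvd_coprimes (OddOrder.Basic.fittingHallOf_coprime M) hd h)
  · refine Subgroup.mem_sup_left ⟨hOM hyO, Subgroup.le_centralizer_iff.1
      (show H ≤ Subgroup.centralizer (O : Set G) from ?_) hyO⟩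
    refine OddOrder.Basic.le_centralizer_of_nilpotent (Cores.fittingOf_isNilpotent M)
      (OddOrder.Basic.fittingHallOf_le_fittingOf M) (Fitting.pCoreOf_le_fittingOf q M) ?_
    obtain ⟨n, hn⟩ := IsPGroup.iff_card.1 hOp
    rw [hn]
    exact ((Nat.Prime.coprime_iff_not_dvd hq).2 hd).symm.pow_right n

/-- `F(M) ≤ M'` when `κ(M)` is not empty. -/
theorem fitting_le_derived (hG : Cfsg.IsMinSimpleOddOrder G) (hKC : KappaCyclic G)
    (hRC : RegularComplement G)
    (hM : IsCoatom M) (hne : (Cfsg.kappa M).Nonempty) : Cfsg.fittingOf M ≤ ⁅M, M⁆ := by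
  obtain ⟨-, hYτ, hF⟩ := SigmaPrimeFitting.spec hG hM
  set π := {q : ℕ | q.Prime ∧ q ∉ Cfsg.sigma M} with hπ
  set Y := Cfsg.piCoreOf π (Cfsg.fittingOf M) with hY
  have hσ := BetaCore.sigmaCore_le_derived hG hM
  rw [hF]
  refine sup_le ((Cores.fittingOf_le _).trans hσ) ?_
  haveI := solvable_of_ne_top hG hM.1
  obtain ⟨K, hK⟩ := Hall.exists_isPiHallOf (Cfsg.kappa M) M
  obtain ⟨p, hp⟩ := hne
  have hK1 : K ≠ ⊥ := by
    intro e
    have h := hK.2.2 p hp.1 hp
    rw [e, Subgroup.relIndex_bot_left] at h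
    exact h hp.2.1
  have hYM : Y ≤ M := (piCoreOf_le _ _).trans (Cores.fittingOf_le M)
  have hYn : M ≤ Subgroup.normalizer (Y : Set G) :=
    (OddOrder.Basic.fittingOf_normal M).trans (CharP.normalizer_le_normalizer_map_char _)
  obtain ⟨U, -, hU, hKU, hfix⟩ := hRC M K hM hK hK1
  have hYπ : ∀ q : ℕ, q.Prime → q ∣ Nat.card Y →
      q ∈ {q : ℕ | q.Prime ∧ q ∉ Cfsg.kappa M ∧ q ∉ Cfsg.sigma M} := fun q hq hd =>
    ⟨hq, CentralizerHall.not_kappa_of_tau2 hG hM (hYτ q hq hd), (hYτ q hq hd).2.1⟩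
  have hYU : Y ≤ U := by
    haveI : (Y.subgroupOf M).Normal := (Subgroup.normal_subgroupOf_iff_le_normalizer hYM).2 hYn
    have h1 := (Hall.Coprime.isPiHallOf_iff.1 hU).2
    have h2 : U.subgroupOf M = (Y.subgroupOf M) ⊔ U.subgroupOf M :=
      Hall.isPiHall_eq_of_le h1 (fun q hq hd =>
        (hq.dvd_mul.1 (hd.trans (sup_comm (Y.subgroupOf M) (U.subgroupOf M) ▸
          Hall.card_sup_dvd (U.subgroupOf M) (Y.subgroupOf M)))).elim (h1.1 q hq)
          (fun h => hYπ q hq (h.trans (dvd_of_eq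
            (Nat.card_congr (Subgroup.subgroupOfEquivOfLe hYM).toEquiv))))) le_sup_right
    exact fun y hy => (h2.ge (Subgroup.mem_sup_left (show (⟨y, hYM hy⟩ : M) ∈ Y.subgroupOf M from hy)) :)
  obtain ⟨k, hk, hk1⟩ := (Subgroup.bot_or_exists_ne_one K).resolve_left hK1
  have hcop : (Nat.card K).Coprime (Nat.card Y) := Nat.coprime_of_dvd fun q hq a b =>
    (hYπ q hq b).2.1 (hK.2.1 q hq a)
  have hfixY : Y ⊓ Subgroup.centralizer (K : Set G) = ⊥ := le_bot_iff.1
    (le_of_le_of_eq (inf_le_inf hYU (Subgroup.centralizer_le (Set.singleton_subset_iff.2 hk)))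
      (hfix k hk hk1))
  haveI := hKC M K hM hK
  have h3 := Coprime.commutator_sup_centralizer (hK.1.trans hYn) hcop (Or.inl inferInstance)
  rw [hfixY, sup_bot_eq] at h3
  exact h3.ge.trans (Subgroup.commutator_mono hYM hK.1)

end Cfsg.Agent.Lib.OddFitting.Chain
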