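import Cfsg.Agent.Lib.OddFitting.NotNilpotent
import Cfsg.Agent.S1446

/-!
# BG 15.2: the chief factor `Q / Q₀`
-/

set_option autoImplicit false
set_option linter.style.haveILetI false
set_option linter.unusedSectionVars false

open scoped Pointwise commutatorElement

namespace Cfsg.Agent.Lib.OddFitting.Chief

open Cfsg.Agent.Lib.OddOrder Cfsg.Agent.Lib.OddOrder.MinSimple Cfsg.Agent.Lib.OddTau
  Cfsg.Agent.Lib.OddTau.Basic Cfsg.Agent.Lib.OddFitting.NotNilpotent

universe u

variable {G : Type u} [Group G] [Finite G]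

theorem commutator_self_le (X : Subgroup G) : ⁅X, X⁆ ≤ X :=
  MaximalBasics.derived_le_self X

/-- In a `p`-group `[A, Q] B < A` for normal subgroups `B < A`. -/
theorem commutator_sup_ne {p : ℕ} [Fact p.Prime] {Q A B : Subgroup G} (hQ : IsPGroup p Q)
    (hBA : B < A) (hA : A ≤ Q) (_hAn : Q ≤ Subgroup.normalizer (A : Set G))
    (hBn : Q ≤ Subgroup.normalizer (B : Set G)) : ⁅A, Q⁆ ⊔ B ≠ A := by
  intro he
  have hBQ : B ≤ Q := hBA.le.trans hA
  haveI : (B.subgroupOf Q).Normal := (Subgroup.normal_subgroupOf_iff_le_normalizer hBQ).2 hBn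
  haveI := hQ.isNilpotent
  haveI : Group.IsNilpotent (Q ⧸ B.subgroupOf Q) :=
    Group.nilpotent_of_surjective _ (QuotientGroup.mk'_surjective _)
  have hc : ⁅Quot.img Q B A, ⊤⁆ = Quot.img Q B A := by
    have h1 := congrArg (Quot.img Q B) he
    rw [Quot.img_sup ((Subgroup.commutator_mono hA le_rfl).trans (commutator_self_le Q)) hBQ,
      Quot.img_self hBQ, sup_bot_eq, Quot.img_commutator hA le_rfl, Quot.img_top] at h1
    exact h1
  have hall : ∀ n, Quot.img Q B A ≤ Subgroup.lowerCentralSeries (⊤ : Subgroup (Q ⧸ B.subgroupOf Q)) n := by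
    intro n
    induction n with
    | zero => simp
    | succ n ih => exact hc ▸ Subgroup.commutator_mono ih le_rfl
  obtain ⟨n, hn⟩ := Subgroup.nilpotent_iff_lowerCentralSeries.1 ‹Group.IsNilpotent (Q ⧸ B.subgroupOf Q)›
  exact hBA.not_ge ((Quot.img_eq_bot_iff hA).1 (le_bot_iff.1 (hn ▸ hall n)))

variable {M K : Subgroup G}

theorem isNilpotent_of_disjoint (S : Setup M K) {D : Subgroup G} (hD : D ≤ Cfsg.sigmaCore M)
    (hd : D ⊓ coreQ M K = ⊥) : Group.IsNilpotent D := by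
  haveI : ((coreQ M K).subgroupOf M).Normal :=
    (Subgroup.normal_subgroupOf_iff_le_normalizer S.sylow_le).2 S.sylow_normal
  haveI := S.isNilpotent_img (N := coreQ M K) S.sylow_le_sigma S.star_le_sylow
  haveI : Group.IsNilpotent (Quot.img M (coreQ M K) D) :=
    Cores.isNilpotent_of_le (Quot.img_mono hD) inferInstance
  exact Group.nilpotent_of_mulEquiv (MulEquiv.ofBijective (Quot.toImg (hD.trans (sigmaCore_le M)))
    ⟨Quot.toImg_injective _ hd, Quot.toImg_surjective _⟩).symm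

theorem mem_beta (S : Setup M K) : Nat.card (kStar M K) ∈ Cfsg.beta M := by
  haveI := Fact.mk S.star_prime
  set q := Nat.card (kStar M K)
  by_contra hb
  have hd : q ∣ Nat.card M :=
    Subgroup.card_dvd_of_le (inf_le_left.trans (sigmaCore_le M))
  obtain ⟨-, ⟨P, N, hN, hNP⟩, -⟩ :=
    (Cfsg.Agent.S1414.result S.min M S.max).2.2.2.2 q S.star_prime hd hb
  have hQP : Cfsg.pCore q ↥(Cfsg.sigmaCore M) ≤ P := Cores.pCore_le_sylow P
  have heq : (P : Subgroup ↥(Cfsg.sigmaCore M)) = Cfsg.pCore q ↥(Cfsg.sigmaCore M) := by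
    refine le_antisymm ?_ hQP
    have h := S.sylow_hall
    rw [coreQ, Cfsg.pCoreOf, OddOrder.Basic.relIndex_map_subtype] at h
    let T : Sylow q ↥(Cfsg.sigmaCore M) := (Cores.pCore_isPGroup q).toSylow h
    exact (T.is_maximal' P.2 (by rw [IsPGroup.toSylow_coe]; exact hQP)).le.trans
      (by rw [IsPGroup.toSylow_coe])
  haveI : (P : Subgroup ↥(Cfsg.sigmaCore M)).Normal := heq ▸ inferInstance
  haveI := hN
  have hNn : Group.IsNilpotent N := by
    have h := isNilpotent_of_disjoint S (D := N.map (Cfsg.sigmaCore M).subtype)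
      (Subgroup.map_subtype_le _) (by
        rw [coreQ, Cfsg.pCoreOf, ← heq, ← Subgroup.map_inf _ _ _ (Cfsg.sigmaCore M).subtype_injective,
          hNP.disjoint.eq_bot, Subgroup.map_bot])
    haveI := h
    exact Group.nilpotent_of_mulEquiv
      (Subgroup.equivMapOfInjective N _ (Cfsg.sigmaCore M).subtype_injective).symm
  refine S.notNil ?_
  have h := Cores.isNilpotent_sup hNn P.2.isNilpotent
  rw [hNP.sup_eq_top] at h
  exact Group.nilpotent_of_mulEquiv Subgroup.topEquiv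

theorem exists_invariant_compl (S : Setup M K) :
    ∃ D : Subgroup G, Cfsg.IsComplIn (coreQ M K) D (Cfsg.sigmaCore M) ∧
      K ≤ Subgroup.normalizer (D : Set G) := by
  haveI := Fact.mk S.star_prime
  set q := Nat.card (kStar M K)
  obtain ⟨D, ⟨hD, hDπ, hDi⟩, hKD⟩ := Hall.Coprime.exists_invariant
    (S.hall.1.trans (le_normalizer_sigmaCore M)) (Decomp.coprime_kappa S.hall)
    (isSolvable_sigmaCore S.min S.max) {r : ℕ | r ≠ q}
  refine ⟨D, OddOrder.Basic.isComplIn_of_card S.sylow_le_sigma hD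
    (OddOrder.Basic.inf_eq_bot_of_coprime ?_) ?_, hKD⟩
  · refine Nat.coprime_of_dvd fun r hr a b => ?_
    exact hDπ r hr b (Hall.prime_dvd_pgroup S.star_prime hr (CharP.isPGroup_pCoreOf _ _) a)
  · have hcQD : (Nat.card (coreQ M K)).Coprime (Nat.card D) := Nat.coprime_of_dvd fun r hr a b =>
      hDπ r hr b (Hall.prime_dvd_pgroup S.star_prime hr (CharP.isPGroup_pCoreOf _ _) a)
    refine Nat.dvd_antisymm ?_ (hcQD.mul_dvd_of_dvd_of_dvd
      (Subgroup.card_dvd_of_le S.sylow_le_sigma) (Subgroup.card_dvd_of_le hD))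
    rw [← Decomp.card_mul_relIndex S.sylow_le_sigma]
    refine Nat.mul_dvd_mul_left _ ?_
    refine Nat.Coprime.dvd_of_dvd_mul_right (Nat.coprime_of_dvd fun r hr a b => ?_)
      (k := (coreQ M K).relIndex (Cfsg.sigmaCore M)) (n := D.relIndex (Cfsg.sigmaCore M)) ?_
    · by_cases h : r = q
      · exact S.sylow_hall (by rw [h] at a; exact a)
      · exact hDi r hr h b
    · rw [Decomp.card_mul_relIndex hD, ← Decomp.card_mul_relIndex S.sylow_le_sigma]
      exact dvd_mul_left _ _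

/-- What BG 15.2 says about one complement `D` of `Q`. -/
structure Props (M K D : Subgroup G) : Prop where
  nilpotent : Group.IsNilpotent D
  normal : M ≤ Subgroup.normalizer
    ((coreQ M K ⊓ Subgroup.centralizer (D : Set G) : Subgroup G) : Set G)
  lt : coreQ M K ⊓ Subgroup.centralizer (D : Set G) < coreQ M K
  card : Nat.card (coreQ M K) = Nat.card ↥(coreQ M K ⊓ Subgroup.centralizer (D : Set G)) *
    Nat.card (kStar M K) ^ Nat.card K
  pow_mem : ∀ a ∈ coreQ M K, a ^ Nat.card (kStar M K) ∈ Subgroup.centralizer (D : Set G)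
  comm_mem : ∀ a ∈ coreQ M K, ∀ b ∈ coreQ M K,
    a * b * a⁻¹ * b⁻¹ ∈ Subgroup.centralizer (D : Set G)
  chief : ∀ N : Subgroup G, coreQ M K ⊓ Subgroup.centralizer (D : Set G) < N → N < coreQ M K →
    ¬ M ≤ Subgroup.normalizer (N : Set G)
  derived : ⁅D, D⁆ ≤ Subgroup.centralizer (coreQ M K : Set G)
  prime : (Nat.card K).Prime

/-- BG 15.2 for a complement normalized by `K`. -/
theorem props_invariant (S : Setup M K) {D : Subgroup G}
    (hD : Cfsg.IsComplIn (coreQ M K) D (Cfsg.sigmaCore M))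
    (hKD : K ≤ Subgroup.normalizer (D : Set G)) : Props M K D := by
  haveI := Fact.mk S.star_prime
  set q := Nat.card (kStar M K) with hq
  set Q := coreQ M K with hQ
  have hQM : Q ≤ M := S.sylow_le
  have hDs : D ≤ Cfsg.sigmaCore M := hD.2.1
  have hDM : D ≤ M := hDs.trans (sigmaCore_le M)
  have hKM : K ≤ M := S.hall.1
  have hMeq : Q ⊔ D ⊔ K = M := by
    rw [OddOrder.Basic.isComplIn_sup hD, sup_comm, OddOrder.Basic.isComplIn_sup S.compl]
  have hQp : IsPGroup q Q := CharP.isPGroup_pCoreOf _ _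
  have hQnM := S.sylow_normal
  have hDnil : Group.IsNilpotent D := isNilpotent_of_disjoint S hDs (by rw [inf_comm]; exact hD.2.2.1)
  have hQC : ¬ D ≤ Subgroup.centralizer (Q : Set G) := by
    intro hc
    refine S.notNil ?_
    have e := OddOrder.Basic.isComplIn_sup hD
    have hDn : Cfsg.sigmaCore M ≤ Subgroup.normalizer (D : Set G) :=
      e ▸ sup_le ((Subgroup.le_centralizer_iff.1 hc).trans (Subgroup.centralizer_le_normalizer _))
        Subgroup.le_normalizer
    have hQn : Cfsg.sigmaCore M ≤ Subgroup.normalizer (Q : Set G) := (sigmaCore_le M).trans hQnM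
    refine Cores.isNilpotent_of_le (K := Cfsg.fittingOf (Cfsg.sigmaCore M)) ?_
      (Cores.fittingOf_isNilpotent _)
    calc Cfsg.sigmaCore M = Q ⊔ D := e.symm
      _ ≤ _ := sup_le (Fitting.le_fittingOf hD.1 hQn hQp.isNilpotent)
        (Fitting.le_fittingOf hDs hDn hDnil)
  have hcopQD : (Nat.card D).Coprime (Nat.card Q) := by
    refine (Nat.coprime_of_dvd fun r hr a b => ?_).symm
    obtain rfl := Hall.prime_dvd_pgroup S.star_prime hr hQp a
    refine S.sylow_hall ?_
    rw [OddOrder.Basic.isComplIn_relIndex hD]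
    exact b
  have hcK : (Nat.card K).Coprime (Nat.card (Cfsg.sigmaCore M)) := Decomp.coprime_kappa S.hall
  -- the largest normal subgroup centralized by `D`
  obtain ⟨N₀, hN₀, hN₀max⟩ := (Set.toFinite {N : Subgroup G | N ≤ Q ∧
      M ≤ Subgroup.normalizer (N : Set G) ∧ D ≤ Subgroup.centralizer (N : Set G)}).exists_maximal
    ⟨⊥, bot_le, fun m _ => Subgroup.mem_normalizer_iff.2 fun x => by simp,
      fun x _ => Subgroup.mem_centralizer_iff.2 fun y hy => by simp [Subgroup.mem_bot.1 hy]⟩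
  obtain ⟨hN₀Q, hN₀M, hDN₀⟩ := hN₀
  have hN₀lt : N₀ < Q := lt_of_le_of_ne hN₀Q fun e => hQC (e ▸ hDN₀)
  obtain ⟨A, hA, hAmin⟩ := (Set.toFinite {N : Subgroup G | N₀ < N ∧ N ≤ Q ∧
      M ≤ Subgroup.normalizer (N : Set G)}).exists_minimal ⟨Q, hN₀lt, le_rfl, hQnM⟩
  obtain ⟨hN₀A, hAQ, hAM⟩ := hA
  have hbetween : ∀ N : Subgroup G, N₀ ≤ N → N ≤ A → M ≤ Subgroup.normalizer (N : Set G) →
      N = N₀ ∨ N = A := fun N h1 h2 h3 => or_iff_not_imp_left.2 fun hne =>
    le_antisymm h2 (hAmin ⟨lt_of_le_of_ne h1 (Ne.symm hne), h2.trans hAQ, h3⟩ h2)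
  have hN₀leM : N₀ ≤ M := hN₀Q.trans hQM
  have hAleM : A ≤ M := hAQ.trans hQM
  haveI : (N₀.subgroupOf M).Normal := (Subgroup.normal_subgroupOf_iff_le_normalizer hN₀leM).2 hN₀M
  set π := Quot.proj M N₀
  set V := Quot.img M N₀ A with hV
  have hV1 : V ≠ ⊥ := fun e => hN₀A.not_ge ((Quot.img_eq_bot_iff hAleM).1 e)
  have hAQc : ⁅A, Q⁆ ≤ N₀ := by
    have hle : ⁅A, Q⁆ ⊔ N₀ ≤ A := sup_le
      (Coprime.commutator_le_of_le_normalizer (hQM.trans hAM)) hN₀A.le
    have hn : M ≤ Subgroup.normalizer ((⁅A, Q⁆ ⊔ N₀ : Subgroup G) : Set G) :=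
      Coprime.le_normalizer_sup (fun m hm => Subgroup.mem_normalizer_fintype fun x hx => by
        have h1 : ⁅A, Q⁆.map (MulAut.conj m).toMonoidHom ≤ ⁅A, Q⁆ := by
          rw [Subgroup.map_commutator]
          refine Subgroup.commutator_mono ?_ ?_
          · rintro _ ⟨y, hy, rfl⟩
            exact (Subgroup.mem_normalizer_iff.1 (hAM hm) y).1 hy
          · rintro _ ⟨y, hy, rfl⟩
            exact (Subgroup.mem_normalizer_iff.1 (hQnM hm) y).1 hy
        exact h1 (Subgroup.mem_map_of_mem _ hx)) hN₀M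
    rcases hbetween _ le_sup_right hle hn with h | h
    · exact le_sup_left.trans h.le
    · exact absurd h (commutator_sup_ne hQp hN₀A hAQ (hQM.trans hAM) (hQM.trans hN₀M))
  have hQV : Quot.img M N₀ Q ≤ Subgroup.centralizer (V : Set _) :=
    (Quot.le_centralizer_img_iff hAleM hQM).2 hAQc
  -- `C_V(D) = 1`
  have hCV : V ⊓ Subgroup.centralizer (Quot.img M N₀ D : Set _) = ⊥ := by
    set W := V ⊓ Subgroup.centralizer (Quot.img M N₀ D : Set _) with hW
    haveI : W.Normal := by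
      rw [← Subgroup.normalizer_eq_top_iff, ← top_le_iff, ← Quot.img_top (M := M) (N := N₀)]
      have hDD : ∀ X : Subgroup G, X ≤ Subgroup.normalizer (D : Set G) → X ≤ M →
          Quot.img M N₀ X ≤ Subgroup.normalizer (W : Set _) := fun X hX hXM =>
        Coprime.le_normalizer_inf (Quot.le_normalizer_img (hXM.trans hAM))
          ((Quot.le_normalizer_img hX).trans (Fitting.normalizer_le_normalizer_centralizer _))
      calc Quot.img M N₀ M = Quot.img M N₀ Q ⊔ Quot.img M N₀ D ⊔ Quot.img M N₀ K := by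
            rw [← Quot.img_sup hQM hDM, ← Quot.img_sup (sup_le hQM hDM) hKM, hMeq]
        _ ≤ _ := sup_le (sup_le ?_ (hDD D Subgroup.le_normalizer hDM)) (hDD K hKD hKM)
      exact (hQV.trans (Subgroup.centralizer_le (inf_le_left : W ≤ V))).trans
        (Subgroup.centralizer_le_normalizer _)
    have hWn : M ≤ Subgroup.normalizer (((W.comap π).map M.subtype : Subgroup G) : Set G) :=
      OddOrder.Basic.le_normalizer_map_subtype M _
    have hWA : (W.comap π).map M.subtype ≤ A := by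
      rintro _ ⟨x, hx, rfl⟩
      exact (Quot.mem_img_iff hN₀A.le).1 hx.1
    have hN₀W : N₀ ≤ (W.comap π).map M.subtype := fun x hx =>
      ⟨⟨x, hN₀leM hx⟩, by
        rw [SetLike.mem_coe, Subgroup.mem_comap, Quot.proj_eq_one.2 hx]; exact one_mem W, rfl⟩
    rcases hbetween _ hN₀W hWA hWn with h | h
    · refine le_bot_iff.1 fun z hz => ?_
      obtain ⟨x, rfl⟩ := QuotientGroup.mk'_surjective _ z
      exact Subgroup.mem_bot.2 (Quot.proj_eq_one.2 (h ▸ Subgroup.mem_map_of_mem M.subtype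
        (show x ∈ W.comap π from hz)))
    · refine absurd (hN₀max ⟨hAQ, hAM, ?_⟩ hN₀A.le) hN₀A.not_ge
      refine Coprime.le_centralizer_of_series (N := N₀)
        (hcopQD.coprime_dvd_right (Subgroup.card_dvd_of_le hN₀Q)) ?_
        (Subgroup.commutator_eq_bot_iff_le_centralizer.2 (Subgroup.le_centralizer_iff.1 hDN₀))
      refine (Quot.le_centralizer_img_iff hAleM hDM).1 (Subgroup.le_centralizer_iff.1 ?_)
      rintro _ ⟨x, hx, rfl⟩
      obtain ⟨y, hy, e⟩ : (x : G) ∈ (W.comap π).map M.subtype := h.symm ▸ hx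
      obtain rfl : y = x := Subtype.ext e
      exact hy.2
  -- the action of `DK` on `V`
  obtain ⟨hD1, hK1⟩ : D ≠ ⊥ ∧ K ≠ ⊥ :=
    ⟨fun e => hQC (e ▸ bot_le), S.K_ne_bot⟩
  have hDN : D ⊓ N₀ = ⊥ := le_bot_iff.1 (le_trans (le_inf (inf_le_right.trans hN₀Q) inf_le_left)
    hD.2.2.1.le)
  have hKN : K ⊓ N₀ = ⊥ := OddOrder.Basic.inf_eq_bot_of_coprime
    (hcK.coprime_dvd_right (Subgroup.card_dvd_of_le (hN₀Q.trans S.sylow_le_sigma)))
  have hcardD := Quot.card_img_of_disjoint (N := N₀) hDM hDN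
  have hcardK := Quot.card_img_of_disjoint (N := N₀) hKM hKN
  have hKDc : (Nat.card K).Coprime (Nat.card D) :=
    hcK.coprime_dvd_right (Subgroup.card_dvd_of_le hDs)
  have hfix : ∀ k ∈ K, k ≠ 1 → A ⊓ Subgroup.centralizer (Subgroup.zpowers k : Set G) =
      A ⊓ kStar M K := by
    intro k hk hk1
    rw [Subgroup.zpowers_eq_closure, Subgroup.centralizer_closure, ← S.fixed_eq_star hk hk1,
      ← inf_assoc, inf_eq_left.2 (hAQ.trans S.sylow_le_sigma)]
  haveI : Group.IsSolvable (M ⧸ N₀.subgroupOf M) :=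
    haveI := solvable_of_ne_top S.min S.max.1
    Group.isSolvable_of_surjective (QuotientGroup.mk'_surjective _)
  set DV := Quot.img M N₀ D with hDV
  set KV := Quot.img M N₀ K with hKV
  have hKcopN : (Nat.card K).Coprime (Nat.card N₀) :=
    hcK.coprime_dvd_right (Subgroup.card_dvd_of_le (hN₀Q.trans S.sylow_le_sigma))
  have hCVK : V ⊓ Subgroup.centralizer (KV : Set _) = Quot.img M N₀ (A ⊓ kStar M K) := by
    haveI := S.cyclic
    rw [Quot.img_inf_centralizer hN₀leM hN₀A.le hKM hKcopN (Or.inl inferInstance)]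
    refine congrArg _ (le_antisymm (fun x hx => ⟨hx.1, ⟨(hAQ.trans S.sylow_le_sigma) hx.1, hx.2⟩⟩)
      (inf_le_inf_left _ inf_le_right))
  have h46 := Cfsg.Agent.S1446.result (X := M ⧸ N₀.subgroupOf M) DV KV V ?_ ?_ ?_
    (Quot.le_normalizer_img hKD) ?_ inferInstance ?_ hV1
    (Quot.isNilpotent_img hAleM (hQp.to_le hAQ).isNilpotent)
    (Quot.le_normalizer_img (hDM.trans hAM)) (Quot.le_normalizer_img (hKM.trans hAM)) ?_ hCV ?_
  rotate_left
  · exact fun e => hD1 (Subgroup.card_eq_one.1 (hcardD ▸ Subgroup.card_eq_one.2 e))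
  · exact fun e => hK1 (Subgroup.card_eq_one.1 (hcardK ▸ Subgroup.card_eq_one.2 e))
  · exact OddOrder.Basic.inf_eq_bot_of_coprime (by rw [hcardD, hcardK]; exact hKDc.symm)
  · rintro _ ⟨k, hk, rfl⟩ hk1
    refine le_bot_iff.1 ?_
    rintro _ ⟨⟨d, hd, rfl⟩, hc⟩
    have hdk : (d : G) * k * (d : G)⁻¹ * (k : G)⁻¹ ∈ D ⊓ N₀ := by
      refine ⟨?_, (Quot.proj_eq_one (M := M) (N := N₀) (x := d * k * d⁻¹ * k⁻¹)).1 ?_⟩
      · rw [show (d : G) * k * (d : G)⁻¹ * (k : G)⁻¹ = d * ((k : G) * (d : G)⁻¹ * (k : G)⁻¹) by group]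
        exact D.mul_mem hd ((Subgroup.mem_normalizer_iff.1 (hKD hk) _).1 (D.inv_mem hd))
      · rw [map_mul, map_mul, map_mul, map_inv, map_inv,
          Subgroup.mem_centralizer_singleton_iff.1 hc, mul_inv_cancel_right, mul_inv_cancel]
    rw [hDN, Subgroup.mem_bot, ← commutatorElement_def,
      commutatorElement_eq_one_iff_mul_comm] at hdk
    have hk1' : (k : G) ≠ 1 := fun e =>
      hk1 (by rw [show k = 1 from Subtype.ext e, map_one])
    have hd' : (d : G) ∈ kStar M K := S.fixed_eq_star hk hk1' ▸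
      ⟨hDs hd, Subgroup.mem_centralizer_singleton_iff.2 hdk⟩
    have hd0 : (d : G) ∈ Q ⊓ D := ⟨S.star_le_sylow hd', hd⟩
    rw [hD.2.2.1, Subgroup.mem_bot] at hd0
    rw [Subgroup.mem_bot, show d = 1 from Subtype.ext hd0, map_one]
  · exact ((odd_card S.min M).of_dvd_nat (Subgroup.card_quotient_dvd_card _)).of_dvd_nat
      (Subgroup.card_subgroup_dvd_card _)
  · rw [sup_comm, Coprime.card_sup_of_disjoint (Quot.le_normalizer_img hKD)
      (Subgroup.disjoint_of_coprime_natCard (by rw [hcardK, hcardD]; exact hKDc)), hcardK, hcardD]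
    refine ((hcK.coprime_dvd_right (Subgroup.card_dvd_of_le S.sylow_le_sigma)).mul_left
      hcopQD).coprime_dvd_right ?_
    exact (Quot.card_img_dvd hAleM).trans (Subgroup.card_dvd_of_le hAQ)
  · rintro _ ⟨k, hk, rfl⟩ hk1
    have hk1' : (k : G) ≠ 1 := fun e =>
      hk1 (by rw [show k = 1 from Subtype.ext e, map_one])
    rw [← Quot.centralizer_img_zpowers k, hCVK, Quot.img_inf_centralizer hN₀leM hN₀A.le
      (Subgroup.zpowers_le.2 k.2)
      (hKcopN.coprime_dvd_left (Subgroup.card_dvd_of_le (Subgroup.zpowers_le.2 hk)))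
      (Or.inl (Coprime.isSolvable_zpowers _)), hfix k hk hk1']
  obtain ⟨hKp, hVcard, hder⟩ := h46
  rw [hcardK] at hKp hVcard
  rw [hCVK] at hVcard hder
  have hAs : A ≤ Cfsg.sigmaCore M := hAQ.trans S.sylow_le_sigma
  have hc1 : Nat.card ↥(Quot.img M N₀ (A ⊓ kStar M K)) ≠ 1 := fun e => hV1
    (Subgroup.card_eq_one.1 (by rw [hVcard, e, one_pow]))
  have hstarA : kStar M K ≤ A := by
    rcases S.star_prime.eq_one_or_self_of_dvd _
      (Subgroup.card_dvd_of_le (inf_le_right : A ⊓ kStar M K ≤ _)) with h | h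
    · exact absurd (Nat.dvd_one.1 (h ▸ Quot.card_img_dvd (inf_le_left.trans hAleM))) hc1
    · exact (Subgroup.eq_of_le_of_card_ge inf_le_right h.ge).ge.trans inf_le_left
  have hcq : Nat.card ↥(Quot.img M N₀ (A ⊓ kStar M K)) = q :=
    (S.star_prime.eq_one_or_self_of_dvd _ ((Quot.card_img_dvd (inf_le_left.trans hAleM)).trans
      (Subgroup.card_dvd_of_le inf_le_right))).resolve_left hc1
  have hDA : ⁅D, D⁆ ≤ Subgroup.centralizer (A : Set G) := by
    have h1 : ⁅A, ⁅D, D⁆⁆ ≤ N₀ := by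
      refine (Quot.le_centralizer_img_iff hAleM
        ((commutator_self_le D).trans hDM)).1 ?_
      rw [Quot.img_commutator hDM hDM]
      refine hder ?_
      exact isCyclic_of_prime_card (hp := ⟨S.star_prime⟩) hcq
    exact Coprime.le_centralizer_of_series
      ((hcopQD.coprime_dvd_left (Subgroup.card_dvd_of_le (commutator_self_le D))).coprime_dvd_right
        (Subgroup.card_dvd_of_le hN₀Q)) h1
      (Subgroup.commutator_eq_bot_iff_le_centralizer.2
        (Subgroup.le_centralizer_iff.1 ((commutator_self_le D).trans hDN₀)))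
  -- `Q = A C_Q(D)`
  haveI : (A.subgroupOf M).Normal := (Subgroup.normal_subgroupOf_iff_le_normalizer hAleM).2 hAM
  have hQD : ⁅Q, D⁆ ≤ A := by
    refine (Quot.le_centralizer_img_iff hQM hDM).1 ?_
    refine OddOrder.Basic.le_centralizer_of_nilpotent (S.isNilpotent_img hAs hstarA)
      (Quot.img_mono hDs) (Quot.img_mono S.sylow_le_sigma) ?_
    exact (hcopQD.coprime_dvd_left (Quot.card_img_dvd hDM)).coprime_dvd_right
      (Quot.card_img_dvd hQM)
  set Q₀ := Q ⊓ Subgroup.centralizer (D : Set G) with hQ₀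
  have hdec : ∀ x ∈ Q, ∃ v ∈ A, ∃ c ∈ Q₀, x = v * c := by
    intro x hx
    obtain ⟨n, hn, hc⟩ := Coprime.exists_fixed_mul (A := D) (hDM.trans hAM)
      (hcopQD.coprime_dvd_right (Subgroup.card_dvd_of_le hAQ))
      (Or.inr (Coprime.isSolvable_of_isPGroup (hQp.to_le hAQ))) (k := x) fun d hd => by
        refine hQD ?_
        rw [Subgroup.commutator_comm]
        exact Subgroup.commutator_mem_commutator hd hx
    exact ⟨n⁻¹, inv_mem hn, n * x, ⟨mul_mem (hAQ hn) hx, hc⟩, by group⟩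
  have hN₀Q₀ : N₀ ≤ Q₀ := le_inf hN₀Q (Subgroup.le_centralizer_iff.1 hDN₀)
  have hQ₀M : M ≤ Subgroup.normalizer (Q₀ : Set G) := by
    refine hMeq.symm.le.trans (sup_le (sup_le (fun x hx => ?_) ?_) ?_)
    · obtain ⟨v, hv, c, hc, rfl⟩ := hdec x hx
      refine mul_mem (Subgroup.mem_normalizer_fintype fun y hy => ?_) (Subgroup.le_normalizer hc)
      have h : v * y * v⁻¹ * y⁻¹ ∈ Q₀ :=
        hN₀Q₀ (hAQc (Subgroup.commutator_mem_commutator hv hy.1))
      rw [show v * y * v⁻¹ = v * y * v⁻¹ * y⁻¹ * y by group]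
      exact mul_mem h hy
    · exact Coprime.le_normalizer_inf (hDM.trans hQnM)
        (Subgroup.le_normalizer.trans (Fitting.normalizer_le_normalizer_centralizer D))
    · exact Coprime.le_normalizer_inf (hKM.trans hQnM)
        (hKD.trans (Fitting.normalizer_le_normalizer_centralizer D))
  have hQ₀eq : Q₀ = N₀ := le_antisymm
    (hN₀max ⟨inf_le_left, hQ₀M, Subgroup.le_centralizer_iff.1 inf_le_right⟩ hN₀Q₀) hN₀Q₀
  have hAeq : A = Q := by
    refine le_antisymm hAQ fun x hx => ?_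
    obtain ⟨v, hv, c, hc, rfl⟩ := hdec x hx
    exact mul_mem hv (hN₀A.le (hQ₀eq ▸ hc))
  rw [hAeq] at hAQc hV hDA
  have hVn : V.Normal := Quot.normal_img hAM
  haveI := hVn
  have hVmin : ∀ W : Subgroup (M ⧸ N₀.subgroupOf M), W.Normal → W ≤ V → W = ⊥ ∨ W = V := by
    intro W hW hWV
    haveI := hW
    have h1 : (W.comap π).map M.subtype ≤ A := by
      rintro _ ⟨x, hx, rfl⟩
      exact (Quot.mem_img_iff hN₀A.le).1 (hAeq.symm ▸ (hV ▸ hWV hx : _ ∈ Quot.img M N₀ Q))
    rcases hbetween ((W.comap π).map M.subtype) (fun x hx => ⟨⟨x, hN₀leM hx⟩, by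
        rw [SetLike.mem_coe, Subgroup.mem_comap, Quot.proj_eq_one.2 hx]; exact one_mem W, rfl⟩) h1
      (OddOrder.Basic.le_normalizer_map_subtype M _) with h | h
    · left
      refine le_bot_iff.1 fun z hz => ?_
      obtain ⟨x, rfl⟩ := QuotientGroup.mk'_surjective _ z
      exact Subgroup.mem_bot.2 (Quot.proj_eq_one.2 (h ▸ Subgroup.mem_map_of_mem M.subtype
        (show x ∈ W.comap π from hz)))
    · right
      refine le_antisymm hWV ?_
      rw [hV, ← hAeq]
      rintro _ ⟨x, hx, rfl⟩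
      obtain ⟨y, hy, e⟩ : (x : G) ∈ (W.comap π).map M.subtype := h.symm ▸ hx
      obtain rfl : y = x := Subtype.ext e
      exact hy
  obtain ⟨hVab, r, hr, hrV⟩ := Cores.MinNormal.elementary_of_solvable hV1 hVmin
  have hrq : r = q := by
    obtain ⟨z, hz, hz1⟩ := (Subgroup.bot_or_exists_ne_one _).resolve_left hV1
    haveI := Fact.mk hr
    have ho := orderOf_eq_prime (hrV z hz) hz1
    have hd : r ∣ q ^ Nat.card K := by
      rw [← hcq, ← hVcard, ← ho]
      exact Subgroup.orderOf_dvd_natCard _ hz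
    exact (Nat.prime_dvd_prime_iff_eq hr S.star_prime).1 (hr.dvd_of_dvd_pow hd)
  refine ⟨hDnil, hQ₀M, (show Q₀ < Q from hQ₀eq.symm ▸ hN₀lt), ?_, fun a ha => ?_, fun a ha b hb => ?_, fun N h1 h2 h3 => ?_,
    ?_, hKp⟩
  · rw [← hQ₀, hQ₀eq, ← Decomp.card_mul_relIndex hN₀Q]
    congr 1
    rw [← Quot.card_img (M := M) (N := N₀) hQM, ← hV, hVcard, hcq]
  · have h : a ^ r ∈ N₀ := (Quot.proj_eq_one (M := M) (N := N₀) (x := ⟨a, hQM ha⟩ ^ r)).1 (by
      rw [map_pow]
      exact hrV _ (hV.symm ▸ Quot.mem_img_of_mem (x := ⟨a, hQM ha⟩) ha))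
    rw [← hq, ← hrq]
    exact (hN₀Q₀ h).2
  · exact (hN₀Q₀ (hAQc (Subgroup.commutator_mem_commutator ha hb))).2
  · rw [← hQ₀, hQ₀eq] at h1
    have h4 : A ≤ N := hAmin ⟨h1, h2.le, h3⟩ (show N ≤ A by rw [hAeq]; exact h2.le)
    rw [hAeq] at h4
    exact h2.not_ge h4
  · exact hDA

/-- BG 15.2 for any complement. -/
theorem props (S : Setup M K) {D : Subgroup G}
    (hD : Cfsg.IsComplIn (coreQ M K) D (Cfsg.sigmaCore M)) : Props M K D := by
  obtain ⟨D₁, hD₁, hKD⟩ := exists_invariant_compl S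
  have P := props_invariant S hD₁ hKD
  have hcard : Nat.card D = Nat.card D₁ := Nat.eq_of_mul_eq_mul_left
    (Nat.card_pos (α := coreQ M K))
    ((OddOrder.Basic.isComplIn_card hD).trans (OddOrder.Basic.isComplIn_card hD₁).symm)
  haveI := Fact.mk S.star_prime
  have hcop : (Nat.card D₁).Coprime (Nat.card (coreQ M K)) := by
    refine (Nat.coprime_of_dvd fun r hr a b => ?_).symm
    obtain rfl := Hall.prime_dvd_pgroup S.star_prime hr (CharP.isPGroup_pCoreOf _ _) a
    refine S.sylow_hall ?_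
    rw [OddOrder.Basic.isComplIn_relIndex hD₁]
    exact b
  obtain ⟨x, hx, rfl⟩ := Coprime.exists_conj_eq_of_coprime
    (hD₁.2.1.trans ((sigmaCore_le M).trans S.sylow_normal)) hcop
    (Or.inr (Coprime.isSolvable_of_isPGroup (CharP.isPGroup_pCoreOf _ _)))
    (B := D) (by rw [sup_comm, OddOrder.Basic.isComplIn_sup hD₁]; exact hD.2.1) hcard
  have hxM : x ∈ M := S.sylow_le hx
  set f := MulAut.conj x
  have hfQ : f • coreQ M K = coreQ M K :=
    Coprime.conj_smul_eq_self_of_mem_normalizer (S.sylow_normal hxM)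
  have hcent : ∀ H : Subgroup G,
      Subgroup.centralizer ((f • H : Subgroup G) : Set G) = f • Subgroup.centralizer (H : Set G) := by
    intro H
    ext y
    rw [Coprime.mem_conj_smul, Subgroup.mem_centralizer_iff, Subgroup.mem_centralizer_iff]
    constructor
    · intro h z hz
      have h1 := h (x * z * x⁻¹) (Coprime.mem_conj_smul.2 (by simpa [mul_assoc] using hz))
      calc z * (x⁻¹ * y * x) = x⁻¹ * ((x * z * x⁻¹) * y) * x := by group
        _ = _ := by rw [h1]; group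
    · intro h z hz
      have h1 := h _ (Coprime.mem_conj_smul.1 hz)
      calc z * y = x * ((x⁻¹ * z * x) * (x⁻¹ * y * x)) * x⁻¹ := by group
        _ = _ := by rw [h1]; group
  have hQ₀ : coreQ M K ⊓ Subgroup.centralizer ((f • D₁ : Subgroup G) : Set G) =
      coreQ M K ⊓ Subgroup.centralizer (D₁ : Set G) := by
    rw [hcent]
    conv_lhs => rw [← hfQ]
    rw [← Subgroup.smul_inf]
    exact Coprime.conj_smul_eq_self_of_mem_normalizer (P.normal hxM)
  refine ⟨?_, ?_, ?_, ?_, fun a ha => ?_, fun a ha b hb => ?_, fun N => ?_, ?_, P.prime⟩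
  · haveI := P.nilpotent
    exact Group.nilpotent_of_mulEquiv (Subgroup.equivSMul f D₁)
  · rw [hQ₀]; exact P.normal
  · rw [hQ₀]; exact P.lt
  · rw [hQ₀]; exact P.card
  · exact (hQ₀.ge (⟨(coreQ M K).pow_mem ha _, P.pow_mem a ha⟩ :
      a ^ _ ∈ coreQ M K ⊓ Subgroup.centralizer (D₁ : Set G))).2
  · exact (hQ₀.ge (⟨(coreQ M K).mul_mem ((coreQ M K).mul_mem ((coreQ M K).mul_mem ha hb)
      ((coreQ M K).inv_mem ha)) ((coreQ M K).inv_mem hb), P.comm_mem a ha b hb⟩ :
      a * b * a⁻¹ * b⁻¹ ∈ coreQ M K ⊓ Subgroup.centralizer (D₁ : Set G))).2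
  · rw [hQ₀]; exact P.chief N
  · rw [← hfQ, hcent]
    have h := Subgroup.map_commutator D₁ D₁ f.toMonoidHom
    exact h.ge.trans (Subgroup.map_mono P.derived)

end Cfsg.Agent.Lib.OddFitting.Chief
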