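import Cfsg.Prelude.Def_OddOrderLocal

/-!
# What BG 15 takes from BG 14

Definitions only.  Each proposition is a consequence (usually a conjunct) of the frozen row named in
its docstring; `… hG` discharges it once that row is proved.
-/

set_option autoImplicit false

namespace Cfsg.Agent.Lib.OddFitting.Hyps

universe u

/-- S1429: if `M_σ` is not nilpotent, every prime outside `σ(M)` lies in `κ(M)`. -/
def NilpotentOfNonKappa (G : Type u) [Group G] : Prop :=
  ∀ M : Subgroup G, IsCoatom M →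
    ¬ (∀ q : ℕ, q.Prime → q ∣ Nat.card M → q ∉ Cfsg.sigma M → q ∈ Cfsg.kappa M) →
    Group.IsNilpotent (Cfsg.sigmaCore M)

/-- S1351: Hall `κ(M)`-subgroups are cyclic. -/
def KappaCyclic (G : Type u) [Group G] : Prop :=
  ∀ M K : Subgroup G, IsCoatom M → Cfsg.IsPiHallOf (Cfsg.kappa M) K M → IsCyclic K

/-- S1430, first clause: `K` acts in prime manner on `M_σ`. -/
def PrimeAction (G : Type u) [Group G] : Prop :=
  ∀ M K : Subgroup G, IsCoatom M → Cfsg.IsPiHallOf (Cfsg.kappa M) K M → K ≠ ⊥ →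
    ∀ k ∈ K, k ≠ 1 → Cfsg.sigmaCore M ⊓ Subgroup.centralizer ({k} : Set G) =
      Cfsg.sigmaCore M ⊓ Subgroup.centralizer (K : Set G)

/-- S1430, second clause. -/
def RegularComplement (G : Type u) [Group G] : Prop :=
  ∀ M K : Subgroup G, IsCoatom M → Cfsg.IsPiHallOf (Cfsg.kappa M) K M → K ≠ ⊥ →
    ∃ U : Subgroup G, IsMulCommutative U ∧
      Cfsg.IsPiHallOf {q | q.Prime ∧ q ∉ Cfsg.kappa M ∧ q ∉ Cfsg.sigma M} U M ∧
      K ≤ Subgroup.normalizer (U : Set G) ∧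
      ∀ k ∈ K, k ≠ 1 → U ⊓ Subgroup.centralizer ({k} : Set G) = ⊥

/-- S1353: `K` acts without fixed points on `U`. -/
def RegularOnU (G : Type u) [Group G] : Prop :=
  ∀ M K U : Subgroup G, IsCoatom M → Cfsg.IsSigmaDecomposition M K U →
    ∀ k ∈ K, k ≠ 1 → U ⊓ Subgroup.centralizer ({k} : Set G) = ⊥

/-- S1373: `K*` has prime order when `U = 1`. -/
def StarPrime (G : Type u) [Group G] : Prop :=
  ∀ M K U : Subgroup G, IsCoatom M → Cfsg.IsSigmaDecomposition M K U → K ≠ ⊥ → U = ⊥ →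
    (Nat.card ↥(Cfsg.sigmaCore M ⊓ Subgroup.centralizer (K : Set G))).Prime

/-- S1354, first clause. -/
def StarNeBot (G : Type u) [Group G] : Prop :=
  ∀ M K : Subgroup G, IsCoatom M → IsCyclic K → Cfsg.IsPiHallOf (Cfsg.kappa M) K M →
    Cfsg.sigmaCore M ⊓ Subgroup.centralizer (K : Set G) ≠ ⊥

/-- S1366 and S1368: `K*` is cyclic. -/
def StarCyclic (G : Type u) [Group G] : Prop :=
  ∀ M K U : Subgroup G, IsCoatom M → Cfsg.IsSigmaDecomposition M K U → K ≠ ⊥ →
    IsCyclic ↥(Cfsg.sigmaCore M ⊓ Subgroup.centralizer (K : Set G))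

/-- S1431, third clause: no Sylow subgroup of `M_σ` lies in `K*`. -/
def SylowNotInStar (G : Type u) [Group G] : Prop :=
  ∀ M K : Subgroup G, IsCoatom M → Cfsg.IsPiHallOf (Cfsg.kappa M) K M → K ≠ ⊥ →
    ∀ p : ℕ, p.Prime →
      p ∣ Nat.card ↥(Cfsg.sigmaCore M ⊓ Subgroup.centralizer (K : Set G)) →
      ∀ S : Sylow p ↥(Cfsg.sigmaCore M),
        ¬ (S : Subgroup ↥(Cfsg.sigmaCore M)).map (Cfsg.sigmaCore M).subtype ≤
          Cfsg.sigmaCore M ⊓ Subgroup.centralizer (K : Set G)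

/-- S1432: `σ(M)'`-elements commuting with a non-identity element of `M_σ`. -/
def CentralizingElement (G : Type u) [Group G] : Prop :=
  ∀ M : Subgroup G, IsCoatom M → ∀ x ∈ Cfsg.sigmaCore M, x ≠ 1 →
    ∀ x' ∈ M ⊓ Subgroup.centralizer ({x} : Set G), x' ≠ 1 →
      (∀ p : ℕ, p.Prime → p ∣ orderOf x' → p ∉ Cfsg.sigma M) →
      (∀ p : ℕ, p.Prime → p ∣ orderOf x' → p ∈ Cfsg.kappa M) ∨
        (∀ p : ℕ, p.Prime → p ∣ orderOf x' → p ∈ Cfsg.tau2 M)

/-- S1374: `C(x)` is transitive on the conjugates of `M` that contain `x`. -/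
def ConjTransitive (G : Type u) [Group G] : Prop :=
  ∀ M : Subgroup G, IsCoatom M → ∀ x ∈ Cfsg.sigmaCore M, x ≠ 1 → ∀ g : G,
    x ∈ M.map (MulAut.conj g).toMonoidHom →
    ∃ r ∈ Subgroup.centralizer ({x} : Set G),
      M.map (MulAut.conj r).toMonoidHom = M.map (MulAut.conj g).toMonoidHom

/-- S1375: the maximal subgroup over a centralizer that escapes from `M`. -/
def EscapeComplement (G : Type u) [Group G] : Prop :=
  ∀ M N : Subgroup G, IsCoatom M → IsCoatom N → ∀ x ∈ Cfsg.sigmaCore M, x ≠ 1 →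
    ¬ Subgroup.centralizer ({x} : Set G) ≤ M → Subgroup.centralizer ({x} : Set G) ≤ N →
    Cfsg.IsComplIn (M ⊓ N) (Cfsg.sigmaCore N) N

/-- S1360: a regular subgroup of `U` of the exponent of `U`. -/
def RegularExponent (G : Type u) [Group G] : Prop :=
  ∀ M K U : Subgroup G, IsCoatom M → Cfsg.IsSigmaDecomposition M K U →
    ∃ U₀ : Subgroup G, U₀ ≤ U ∧ Monoid.exponent U₀ = Monoid.exponent U ∧
      ∀ u ∈ U₀, u ∈ Cfsg.sigmaHat M → u = 1

end Cfsg.Agent.Lib.OddFitting.Hyps
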