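import Cfsg.Agent.Lib.OddFitting.Quot
import Cfsg.Agent.Lib.OddFitting.Hyps
import Cfsg.Agent.Lib.OddTau.SigmaPrimeFitting
import Cfsg.Agent.Lib.OddOrder.MaximalBasics

/-!
# BG 15: `M_F`, `M_σ` and the factorisation `M = K U M_σ`
-/

set_option autoImplicit false
set_option linter.style.haveILetI false
set_option linter.unusedSectionVars false

open scoped Pointwise commutatorElement

namespace Cfsg.Agent.Lib.OddFitting.Decomp

open Cfsg.Agent.Lib.OddOrder Cfsg.Agent.Lib.OddOrder.MinSimple Cfsg.Agent.Lib.OddTau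
  Cfsg.Agent.Lib.OddTau.Basic

universe u

variable {G : Type u} [Group G] [Finite G] {M : Subgroup G}

theorem card_mul_relIndex {X Y : Subgroup G} (h : X ≤ Y) :
    Nat.card X * X.relIndex Y = Nat.card Y := by
  have h1 := Subgroup.relIndex_mul_relIndex (⊥ : Subgroup G) X Y bot_le h
  rwa [Subgroup.relIndex_bot_left, Subgroup.relIndex_bot_left] at h1

theorem derived_lt (hG : Cfsg.IsMinSimpleOddOrder G) (hM : IsCoatom M) : ⁅M, M⁆ < M := by
  haveI := solvable_of_ne_top hG hM.1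
  haveI : Nontrivial M := (Subgroup.nontrivial_iff_ne_bot M).2 (coatom_ne_bot hG hM)
  refine lt_of_le_of_ne (MaximalBasics.derived_le_self M) fun e => ?_
  have h := Group.IsSolvable.commutator_lt_top_of_nontrivial M
  refine h.ne (Subgroup.map_injective M.subtype_injective ?_)
  rw [Subgroup.map_subtype_commutator, ← MonoidHom.range_eq_map, Subgroup.range_subtype, e]

theorem sigmaCore_ne_bot (hG : Cfsg.IsMinSimpleOddOrder G) (hM : IsCoatom M) :
    Cfsg.sigmaCore M ≠ ⊥ := by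
  obtain ⟨q, hq, hqσ, hd⟩ := Exceptional.exists_sigma_prime hG hM
  intro e
  have h := (SigmaHall.sigmaCore_isPiHallOf hG hM).2.2 q hq.out hqσ
  rw [e, Subgroup.relIndex_bot_left] at h
  exact h hd

/-- A `q`-subgroup of `C` of index prime to `q` comes from a Sylow subgroup of `C`. -/
theorem exists_sylow_eq {q : ℕ} [Fact q.Prime] {Q C : Subgroup G} (hQC : Q ≤ C) (hQ : IsPGroup q Q)
    (hnd : ¬ q ∣ Q.relIndex C) : ∃ S : Sylow q C, (S : Subgroup C).map C.subtype = Q :=
  ⟨((hQ.comap_subtype (K := C)).toSylow hnd), Subgroup.map_subgroupOf_eq_of_le hQC⟩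

/-- `M_F ≤ M_σ`. -/
theorem fittingHallOf_le_sigmaCore (hG : Cfsg.IsMinSimpleOddOrder G) (hM : IsCoatom M) :
    Cfsg.fittingHallOf M ≤ Cfsg.sigmaCore M := by
  set F := Cfsg.fittingHallOf M with hF
  have hFM : F ≤ M := OddOrder.Basic.fittingHallOf_le M
  refine Coprime.le_of_forall_sylow fun q hq => ?_
  haveI := Fact.mk hq
  obtain ⟨P⟩ : Nonempty (Sylow q F) := inferInstance
  refine ⟨P, ?_⟩
  set P₀ := (P : Subgroup F).map F.subtype with hP₀
  by_cases h1 : P₀ = ⊥
  · rw [h1]; exact bot_le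
  have hPM : P₀ ≤ M := (Subgroup.map_subtype_le _).trans hFM
  haveI := OddOrder.Basic.fittingHallOf_isNilpotent M
  haveI : (P : Subgroup F).Normal :=
    Sylow.normal_of_normalizerCondition Group.normalizerCondition_of_isNilpotent P
  haveI := Sylow.characteristic_of_normal P ‹_›
  have hMP : M ≤ Subgroup.normalizer (P₀ : Set G) :=
    (OddOrder.Basic.fittingHallOf_normal M).trans (CharP.normalizer_le_normalizer_map_char _)
  have hN : Subgroup.normalizer (P₀ : Set G) ≤ M :=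
    (normalizer_eq_of_coatom hG hM hPM h1 hMP).le
  have hdF : q ∣ Nat.card F := (SigmaEmbedding.ne_one_of_pgroup (P.2.map F.subtype) h1).trans
    (Subgroup.card_dvd_of_le (Subgroup.map_subtype_le _))
  have hd : ¬ q ∣ (P₀.subgroupOf M).index := by
    intro h
    rw [← Subgroup.relIndex, ← Subgroup.relIndex_mul_relIndex P₀ F M (Subgroup.map_subtype_le _) hFM,
      hP₀, OddOrder.Basic.relIndex_map_subtype] at h
    rcases hq.dvd_mul.1 h with h | h
    · exact P.not_dvd_index h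
    · exact hq.ne_one (Nat.eq_one_of_dvd_coprimes (OddOrder.Basic.fittingHallOf_coprime M) hdF h)
  have hPp : IsPGroup q (P₀.subgroupOf M) := (P.2.map F.subtype).comap_subtype
  have hqσ : q ∈ Cfsg.sigma M := by
    refine ⟨hq, hdF.trans (Subgroup.card_dvd_of_le hFM), hPp.toSylow hd, ?_⟩
    rw [IsPGroup.toSylow_coe, Subgroup.map_subgroupOf_eq_of_le hPM]
    exact hN
  exact pgroup_le_sigmaCore hG hM hqσ (P.2.map F.subtype) hPM

theorem fittingHallOf_eq_of_isNilpotent (hG : Cfsg.IsMinSimpleOddOrder G) (hM : IsCoatom M)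
    (h : Group.IsNilpotent (Cfsg.sigmaCore M)) : Cfsg.fittingHallOf M = Cfsg.sigmaCore M := by
  refine le_antisymm (fittingHallOf_le_sigmaCore hG hM)
    (OddOrder.Basic.le_fittingHallOf (sigmaCore_le M) (le_normalizer_sigmaCore M) h
      (Nat.coprime_of_dvd fun q hq a b => ?_))
  exact (SigmaHall.sigmaCore_isPiHallOf hG hM).2.2 q hq (mem_sigma_of_dvd hq a) b

section Decomposition

variable {K U : Subgroup G}

theorem K_le (h : Cfsg.IsSigmaDecomposition M K U) : K ≤ M := h.hall.1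

theorem U_le (h : Cfsg.IsSigmaDecomposition M K U) : U ≤ M := h.compl.1

theorem coprime_kappa {K : Subgroup G} (hK : Cfsg.IsPiHallOf (Cfsg.kappa M) K M) :
    (Nat.card K).Coprime (Nat.card (Cfsg.sigmaCore M)) :=
  Nat.coprime_of_dvd fun q hq a b => (hK.2.1 q hq a).2.2.1 (mem_sigma_of_dvd hq b)

theorem K_inf_sigma {K : Subgroup G} (hK : Cfsg.IsPiHallOf (Cfsg.kappa M) K M) :
    K ⊓ Cfsg.sigmaCore M = ⊥ :=
  OddOrder.Basic.inf_eq_bot_of_coprime (coprime_kappa hK)

theorem card_K_sup (h : Cfsg.IsSigmaDecomposition M K U) :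
    Nat.card ↥(K ⊔ Cfsg.sigmaCore M) = Nat.card K * Nat.card (Cfsg.sigmaCore M) :=
  Coprime.card_sup_of_disjoint ((K_le h).trans (le_normalizer_sigmaCore M))
    (disjoint_iff.2 (K_inf_sigma h.hall))

theorem card_eq (h : Cfsg.IsSigmaDecomposition M K U) :
    Nat.card U * (Nat.card K * Nat.card (Cfsg.sigmaCore M)) = Nat.card M := by
  rw [← card_K_sup h, OddOrder.Basic.isComplIn_card h.compl]

theorem U_prime (hG : Cfsg.IsMinSimpleOddOrder G) (hM : IsCoatom M)
    (h : Cfsg.IsSigmaDecomposition M K U) {q : ℕ} (hq : q.Prime) (hd : q ∣ Nat.card U) :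
    q ∉ Cfsg.sigma M ∧ q ∉ Cfsg.kappa M := by
  refine ⟨fun hs => ?_, fun hk => ?_⟩
  · refine (SigmaHall.sigmaCore_isPiHallOf hG hM).2.2 q hq hs ?_
    refine hd.trans (Dvd.intro (Nat.card K) ?_)
    refine Nat.eq_of_mul_eq_mul_left (Nat.card_pos (α := Cfsg.sigmaCore M)) ?_
    rw [card_mul_relIndex (sigmaCore_le M), ← card_eq h]; ring
  · refine h.hall.2.2 q hq hk (hd.trans (Dvd.intro (Nat.card (Cfsg.sigmaCore M)) ?_))
    refine Nat.eq_of_mul_eq_mul_left (Nat.card_pos (α := K)) ?_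
    rw [card_mul_relIndex (K_le h), ← card_eq h]; ring

theorem coprime_K_U (hG : Cfsg.IsMinSimpleOddOrder G) (hM : IsCoatom M)
    (h : Cfsg.IsSigmaDecomposition M K U) : (Nat.card K).Coprime (Nat.card U) :=
  Nat.coprime_of_dvd fun q hq a b => (U_prime hG hM h hq b).2 (h.hall.2.1 q hq a)

theorem coprime_U_sigma (hG : Cfsg.IsMinSimpleOddOrder G) (hM : IsCoatom M)
    (h : Cfsg.IsSigmaDecomposition M K U) :
    (Nat.card U).Coprime (Nat.card (Cfsg.sigmaCore M)) :=
  Nat.coprime_of_dvd fun q hq a b => (U_prime hG hM h hq a).1 (mem_sigma_of_dvd hq b)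

theorem U_sup_K_compl (hG : Cfsg.IsMinSimpleOddOrder G) (hM : IsCoatom M)
    (h : Cfsg.IsSigmaDecomposition M K U) :
    Cfsg.IsComplIn (U ⊔ K) (Cfsg.sigmaCore M) M := by
  have hcard : Nat.card ↥(K ⊔ U) = Nat.card K * Nat.card U :=
    Coprime.card_sup_of_disjoint h.normal
      (disjoint_iff.2 (OddOrder.Basic.inf_eq_bot_of_coprime (coprime_K_U hG hM h)))
  rw [sup_comm]
  refine OddOrder.Basic.isComplIn_of_card (sup_le (K_le h) (U_le h)) (sigmaCore_le M)
    (OddOrder.Basic.inf_eq_bot_of_coprime ?_) ?_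
  · rw [hcard]
    exact (coprime_kappa h.hall).mul_left (coprime_U_sigma hG hM h)
  · rw [hcard, ← card_eq h]; ring

theorem le_normalizer_U_sup (h : Cfsg.IsSigmaDecomposition M K U) :
    M ≤ Subgroup.normalizer ((U ⊔ Cfsg.sigmaCore M : Subgroup G) : Set G) := by
  refine le_of_eq_of_le (OddOrder.Basic.isComplIn_sup h.compl).symm ?_
  exact sup_le (le_sup_left.trans Subgroup.le_normalizer) (sup_le
    (Coprime.le_normalizer_sup h.normal ((K_le h).trans (le_normalizer_sigmaCore M)))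
    (le_sup_right.trans Subgroup.le_normalizer))

theorem derived_le_U_sup (h : Cfsg.IsSigmaDecomposition M K U) :
    ⁅M, M⁆ ≤ U ⊔ Cfsg.sigmaCore M := by
  haveI := h.cyclic
  have h1 := MaximalBasics.derived_le_of_sup (sup_le (U_le h) (sigmaCore_le M))
    (le_normalizer_U_sup h) (K_le h)
    (by rw [sup_assoc, sup_comm (Cfsg.sigmaCore M) K, OddOrder.Basic.isComplIn_sup h.compl])
  rwa [Subgroup.commutator_eq_bot_iff_le_centralizer.2
    (Subgroup.le_centralizer_iff_isMulCommutative (K := K).2 inferInstance), sup_bot_eq] at h1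

/-- A Hall `κ(M)`-subgroup that complements `M_σ` gives a factorisation with `U = 1`. -/
theorem decomposition_bot {K : Subgroup G} (hc : IsCyclic K)
    (hK : Cfsg.IsPiHallOf (Cfsg.kappa M) K M) (hs : Cfsg.IsComplIn K (Cfsg.sigmaCore M) M) :
    Cfsg.IsSigmaDecomposition M K ⊥ := by
  refine ⟨hc, hK, ⟨bot_le, sup_le hs.1 hs.2.1, bot_inf_eq _, fun m hm =>
    ⟨1, one_mem _, m, (OddOrder.Basic.isComplIn_sup hs).symm ▸ hm, (one_mul m).symm⟩⟩, ?_⟩
  intro k _
  rw [Subgroup.mem_normalizer_iff]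
  intro x
  simp

end Decomposition

end Cfsg.Agent.Lib.OddFitting.Decomp
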