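import Cfsg.Agent.Lib.OddFitting.Chain
import Cfsg.Agent.Lib.OddFitting.HallSub
import Cfsg.Agent.S1378

/-!
# BG 15: fusion in Hall subgroups (the content of S1438 and S1384)
-/

set_option autoImplicit false
set_option linter.style.haveILetI false
set_option linter.unusedSectionVars false

open scoped Pointwise commutatorElement

namespace Cfsg.Agent.Lib.OddFitting.Fusion

open Cfsg.Agent.Lib.OddOrder Cfsg.Agent.Lib.OddOrder.MinSimple Cfsg.Agent.Lib.OddTau
  Cfsg.Agent.Lib.OddTau.Basic Cfsg.Agent.Lib.OddFitting.Hyps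
  Cfsg.Agent.Lib.OddFitting.NotNilpotent

universe u

variable {G : Type u} [Group G] [Finite G] {M : Subgroup G}

/-- A Hall subgroup of `M_σ` is normal in `M` or has a normal complement in `M_σ`, normal in `M`. -/
theorem normal_or_complement (hG : Cfsg.IsMinSimpleOddOrder G) (h29 : NilpotentOfNonKappa G)
    (hKC : KappaCyclic G) (hPA : PrimeAction G) (hSP : StarPrime G) (hM : IsCoatom M)
    {H : Subgroup G} (hH : H ≤ Cfsg.sigmaCore M)
    (hHall : (Nat.card H).Coprime (H.relIndex (Cfsg.sigmaCore M))) :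
    M ≤ Subgroup.normalizer (H : Set G) ∨
      ∃ Z : Subgroup G, Z ≤ Cfsg.sigmaCore M ∧ M ≤ Subgroup.normalizer (Z : Set G) ∧
        (Nat.card H).Coprime (Nat.card Z) ∧ Cfsg.sigmaCore M ≤ Z ⊔ H := by
  set L := Cfsg.sigmaCore M with hL
  have hLn := le_normalizer_sigmaCore M
  by_cases hn : Group.IsNilpotent L
  · exact Or.inl (HallSub.normal_of_hall hLn hH (HallSub.normal_of_nilpotent hn hH hHall) hHall)
  obtain ⟨K, S⟩ := Chain.exists_setup hG h29 hKC hPA hSP hM hn
  haveI := Fact.mk S.star_prime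
  set q := Nat.card (kStar M K) with hq
  set Q := coreQ M K with hQ
  have hQp : IsPGroup q Q := CharP.isPGroup_pCoreOf _ _
  obtain ⟨D, hD, hKD⟩ := Chief.exists_invariant_compl S
  have P := Chief.props_invariant S hD hKD
  have hQL : L ≤ Subgroup.normalizer (Q : Set G) := (sigmaCore_le M).trans S.sylow_normal
  have hLe : Q ⊔ D = L := OddOrder.Basic.isComplIn_sup hD
  by_cases hqH : q ∣ Nat.card H
  · have hQH : Q ≤ H := HallSub.le_of_hall hH hHall hD.1 (hH.trans hQL) fun r hr hd => by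
      rwa [Hall.prime_dvd_pgroup S.star_prime hr hQp hd]
    have hHD : Cfsg.IsComplIn Q (H ⊓ D) H := OddOrder.Basic.isComplIn_of_le hD hQH hH
    have hHD1 : (Nat.card ↥(H ⊓ D)).Coprime ((H ⊓ D).relIndex D) := by
      refine (hHall.coprime_dvd_left (Subgroup.card_dvd_of_le inf_le_left)).coprime_dvd_right ?_
      refine dvd_of_eq (Nat.eq_of_mul_eq_mul_left (Nat.card_pos (α := H)) ?_)
      rw [Decomp.card_mul_relIndex hH, ← OddOrder.Basic.isComplIn_card hHD, mul_assoc,
        Decomp.card_mul_relIndex inf_le_right, OddOrder.Basic.isComplIn_card hD]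
    have hn1 : D ≤ Subgroup.normalizer ((H ⊓ D : Subgroup G) : Set G) :=
      HallSub.normal_of_nilpotent P.nilpotent inf_le_right hHD1
    refine Or.inl (HallSub.normal_of_hall hLn hH (hLe.ge.trans (sup_le
      (hQH.trans Subgroup.le_normalizer) ?_)) hHall)
    have h2 := Coprime.le_normalizer_sup (hD.2.1.trans hQL) hn1
    rwa [OddOrder.Basic.isComplIn_sup hHD] at h2
  · right
    set π := {r : ℕ | ¬ r ∣ Nat.card H} with hπ
    set D₂ := Cfsg.piCoreOf π D with hD₂
    set Z := Q ⊔ D₂ with hZ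
    have hD₂L : D₂ ≤ L := (piCoreOf_le _ _).trans hD.2.1
    have hZL : Z ≤ L := sup_le hD.1 hD₂L
    have hZn : L ≤ Subgroup.normalizer (Z : Set G) := hLe.ge.trans (sup_le
      (le_sup_left.trans Subgroup.le_normalizer)
      (Coprime.le_normalizer_sup (hD.2.1.trans hQL) (piCoreOf_normal π D)))
    have hcard : Nat.card Z ∣ Nat.card Q * Nat.card D₂ := by
      rw [hZ, sup_comm, Coprime.card_sup_of_disjoint (hD₂L.trans hQL) (disjoint_iff.2
        (le_bot_iff.1 ((inf_le_inf_right Q (piCoreOf_le π D)).trans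
          (inf_comm Q D ▸ hD.2.2.1).le))), mul_comm]
    have hZπ : ∀ r : ℕ, r.Prime → r ∣ Nat.card Z → ¬ r ∣ Nat.card H := fun r hr hd =>
      (hr.dvd_mul.1 (hd.trans hcard)).elim
        (fun h => by rwa [Hall.prime_dvd_pgroup S.star_prime hr hQp h])
        (fun h => piCoreOf_isPiGroup π D r hr h)
    have hcop : (Nat.card H).Coprime (Nat.card Z) :=
      Nat.coprime_of_dvd fun r hr a b => hZπ r hr b a
    have hsyl : ∀ r : ℕ, r.Prime → ¬ r ∣ Nat.card H → ¬ r ∣ Z.relIndex L := by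
      intro r hr hrH hd
      haveI := Fact.mk hr
      by_cases hrq : r = q
      · refine S.sylow_hall ?_
        rw [← hq, ← hrq]
        exact hd.trans (Dvd.intro_left _ (Subgroup.relIndex_mul_relIndex Q Z L le_sup_left hZL))
      · obtain ⟨R⟩ : Nonempty (Sylow r D) := inferInstance
        set R₀ := (R : Subgroup D).map D.subtype with hR₀
        have hRZ : R₀ ≤ Z := (HallSub.pgroup_le_piCoreOf P.nilpotent (Subgroup.map_subtype_le _)
          (R.2.map _) (show r ∈ π from hrH)).trans le_sup_right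
        have h1 : r ∣ R₀.relIndex L :=
          hd.trans (Dvd.intro_left _ (Subgroup.relIndex_mul_relIndex R₀ Z L hRZ hZL))
        rw [← Subgroup.relIndex_mul_relIndex R₀ D L (Subgroup.map_subtype_le _) hD.2.1, hR₀,
          OddOrder.Basic.relIndex_map_subtype] at h1
        rcases hr.dvd_mul.1 h1 with h | h
        · exact R.not_dvd_index h
        · rw [OddOrder.Basic.isComplIn_relIndex (OddOrder.Basic.isComplIn_symm hD)] at h
          exact hrq (Hall.prime_dvd_pgroup S.star_prime hr hQp h)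
    refine ⟨Z, hZL, HallSub.normal_of_hall hLn hZL hZn
      (Nat.coprime_of_dvd fun r hr a b => hsyl r hr (hZπ r hr a) b), hcop, ?_⟩
    refine Coprime.le_of_forall_sylow fun r hr => ?_
    haveI := Fact.mk hr
    by_cases hd : r ∣ Nat.card H
    · obtain ⟨T, hT⟩ := HallSub.exists_sylow_map hH hHall hd
      exact ⟨T, hT.trans le_sup_right⟩
    · obtain ⟨R⟩ : Nonempty (Sylow r Z) := inferInstance
      obtain ⟨T, hT⟩ := Decomp.exists_sylow_eq ((Subgroup.map_subtype_le _).trans hZL)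
        (R.2.map Z.subtype) fun h => by
          rw [← Subgroup.relIndex_mul_relIndex _ Z L (Subgroup.map_subtype_le _) hZL,
            OddOrder.Basic.relIndex_map_subtype] at h
          rcases hr.dvd_mul.1 h with h | h
          · exact R.not_dvd_index h
          · exact hsyl r hr hd h
      exact ⟨T, hT.le.trans ((Subgroup.map_subtype_le _).trans le_sup_left)⟩

/-- BG 15.1 (b). -/
theorem fusion (hG : Cfsg.IsMinSimpleOddOrder G) (h29 : NilpotentOfNonKappa G)
    (hKC : KappaCyclic G) (hPA : PrimeAction G) (hSP : StarPrime G) (hCT : ConjTransitive G)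
    (hM : IsCoatom M) {H : Subgroup G} (hH : H ≤ Cfsg.sigmaCore M)
    (hHall : (Nat.card H).Coprime (H.relIndex (Cfsg.sigmaCore M))) :
    ∀ x ∈ H, ∀ g : G, g * x * g⁻¹ ∈ H →
      ∃ n ∈ M ⊓ Subgroup.normalizer (H : Set G), n * x * n⁻¹ = g * x * g⁻¹ := by
  intro x hx g hg
  by_cases hx1 : x = 1
  · subst hx1
    exact ⟨1, one_mem _, by simp⟩
  -- first conjugate inside `M`
  obtain ⟨r, hr, hrM⟩ := hCT M hM x (hH hx) hx1 g⁻¹
    ⟨g * x * g⁻¹, sigmaCore_le M (hH hg), by simp [mul_assoc]⟩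
  have hm : g * r ∈ M := by
    rw [← normalizer_coatom hG hM]
    refine Coprime.mem_normalizer_of_conj_smul_eq ?_
    rw [Coprime.conj_smul_mul, Coprime.conj_smul_eq_map r M, hrM, ← Coprime.conj_smul_eq_map,
      ← Coprime.conj_smul_mul, mul_inv_cancel, map_one, one_smul]
  have hmx : g * r * x * (g * r)⁻¹ = g * x * g⁻¹ := by
    rw [show g * r * x * (g * r)⁻¹ = g * (r * x) * r⁻¹ * g⁻¹ by group,
      ← (Subgroup.mem_centralizer_singleton_iff.1 hr).symm]
    group
  set m := g * r with hmdef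
  rcases normal_or_complement hG h29 hKC hPA hSP hM hH hHall with hn | ⟨Z, hZL, hZn, hcop, hsup⟩
  · exact ⟨m, ⟨hm, hn hm⟩, hmx⟩
  set L := Cfsg.sigmaCore M with hL
  have hmL : MulAut.conj m • L = L :=
    Coprime.conj_smul_eq_self_of_mem_normalizer (le_normalizer_sigmaCore M hm)
  have hHZn : H ≤ Subgroup.normalizer (Z : Set G) := hH.trans ((sigmaCore_le M).trans hZn)
  obtain ⟨z, hz, hconj⟩ := Coprime.exists_conj_eq_of_coprime
    (A := H) (B := MulAut.conj m • H) hHZn hcop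
    (Or.inr (haveI := isSolvable_sigmaCore hG hM; Coprime.isSolvable_of_le hZL))
    (((Subgroup.pointwise_smul_le_pointwise_smul_iff.2 hH).trans hmL.le).trans
      (hsup.trans (sup_comm _ _).le)) (Coprime.card_conj_smul m H)
  have hn : z⁻¹ * m ∈ Subgroup.normalizer (H : Set G) := by
    refine Coprime.mem_normalizer_of_conj_smul_eq ?_
    rw [Coprime.conj_smul_mul, ← hconj, ← Coprime.conj_smul_mul, inv_mul_cancel, map_one, one_smul]
  have hzM : z ∈ M := sigmaCore_le M (hZL hz)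
  refine ⟨z⁻¹ * m, ⟨M.mul_mem (M.inv_mem hzM) hm, hn⟩, ?_⟩
  set x' := z⁻¹ * m * x * (z⁻¹ * m)⁻¹ with hx'
  have hx'H : x' ∈ H := (Subgroup.mem_normalizer_iff.1 hn x).1 hx
  have hy : z * x' * z⁻¹ = g * x * g⁻¹ := by rw [hx', ← hmx]; group
  have h1 : z * x' * z⁻¹ * x'⁻¹ ∈ H ⊓ Z := by
    refine ⟨H.mul_mem (hy ▸ hg) (H.inv_mem hx'H), ?_⟩
    rw [show z * x' * z⁻¹ * x'⁻¹ = z * (x' * z⁻¹ * x'⁻¹) by group]
    exact Z.mul_mem hz ((Subgroup.mem_normalizer_iff.1 (hHZn hx'H) _).1 (Z.inv_mem hz))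
  rw [OddOrder.Basic.inf_eq_bot_of_coprime hcop, Subgroup.mem_bot, mul_inv_eq_one, hy] at h1
  exact h1.symm

/-- A nilpotent Hall subgroup of `G` lies in some `M_σ`. -/
theorem exists_sigmaCore_ge (hG : Cfsg.IsMinSimpleOddOrder G) (h32 : CentralizingElement G)
    (hPA : PrimeAction G) (hSN : SylowNotInStar G) {H : Subgroup G} (hHn : Group.IsNilpotent H)
    (hHall : (Nat.card H).Coprime H.index) (hH1 : H ≠ ⊥) :
    ∃ M : Subgroup G, IsCoatom M ∧ H ≤ Cfsg.sigmaCore M := by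
  obtain ⟨p, hp, hpd⟩ := Nat.exists_prime_and_dvd (mt Subgroup.card_eq_one.1 hH1)
  haveI := Fact.mk hp
  have hsylG : ∀ (r : ℕ) [Fact r.Prime] (P : Sylow r H), r ∣ Nat.card H →
      ¬ r ∣ ((P : Subgroup H).map H.subtype).index := by
    intro r hr P hd h
    rw [← Subgroup.relIndex_mul_index (Subgroup.map_subtype_le _ :
      (P : Subgroup H).map H.subtype ≤ H), OddOrder.Basic.relIndex_map_subtype] at h
    rcases (Fact.out : r.Prime).dvd_mul.1 h with h | h
    · exact P.not_dvd_index h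
    · exact (Fact.out : r.Prime).ne_one (Nat.eq_one_of_dvd_coprimes hHall hd h)
  obtain ⟨P⟩ : Nonempty (Sylow p H) := inferInstance
  set P₀ := (P : Subgroup H).map H.subtype with hP₀
  let PG : Sylow p G := (P.2.map H.subtype).toSylow (hsylG p P hpd)
  obtain ⟨M₁, hM₁, hpM₁⟩ := (Cfsg.Agent.S1378.result hG).1 p hp
    (hpd.trans H.card_subgroup_dvd_card)
  obtain ⟨T, -, hTM, hTN⟩ := Sigma.exists_sylow_ge hpM₁ (IsPGroup.of_bot (p := p)) bot_le
  obtain ⟨g, hg⟩ := MulAction.exists_smul_eq G T PG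
  set M := MulAut.conj g • M₁ with hMdef
  have hM : IsCoatom M := (MulAut.conj g).mapSubgroup.isCoatom_iff _ |>.2 hM₁
  have hP₀eq : P₀ = MulAut.conj g • (T : Subgroup G) := by
    rw [← Sylow.coe_subgroup_smul, hg]
    rfl
  have hN : Subgroup.normalizer (P₀ : Set G) ≤ M := by
    intro x hx
    rw [hMdef, Coprime.mem_conj_smul]
    refine hTN (Coprime.mem_normalizer_of_conj_smul_eq ?_)
    have h := Coprime.conj_smul_eq_self_of_mem_normalizer hx
    rw [hP₀eq] at h
    rw [Coprime.conj_smul_mul, Coprime.conj_smul_mul, h,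
      ← Coprime.conj_smul_mul, inv_mul_cancel, map_one, one_smul]
  haveI := hHn
  haveI hPn : (P : Subgroup H).Normal :=
    Sylow.normal_of_normalizerCondition Group.normalizerCondition_of_isNilpotent P
  haveI := Sylow.characteristic_of_normal P hPn
  have hHM : H ≤ M :=
    (Subgroup.le_normalizer.trans (CharP.normalizer_le_normalizer_map_char _)).trans hN
  have hP₀H : P₀ ≤ H := Subgroup.map_subtype_le _
  have hP₀1 : P₀ ≠ ⊥ := fun e => by
    have h := hsylG p P hpd
    rw [← hP₀, e, Subgroup.index_bot] at h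
    exact h (hpd.trans H.card_subgroup_dvd_card)
  have hpσ : p ∈ Cfsg.sigma M := by
    obtain ⟨S, hS⟩ := Decomp.exists_sylow_eq (hP₀H.trans hHM) (P.2.map H.subtype)
      (fun h => hsylG p P hpd (h.trans (Dvd.intro _ (Subgroup.relIndex_mul_index (hP₀H.trans hHM)))))
    exact ⟨hp, hpd.trans (Subgroup.card_dvd_of_le hHM), S, hS.symm ▸ hN⟩
  refine ⟨M, hM, Coprime.le_of_forall_sylow fun r hr => ?_⟩
  haveI := Fact.mk hr
  obtain ⟨R⟩ : Nonempty (Sylow r H) := inferInstance
  refine ⟨R, ?_⟩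
  set R₀ := (R : Subgroup H).map H.subtype with hR₀
  by_cases hR1 : R₀ = ⊥
  · rw [hR1]; exact bot_le
  have hR₀H : R₀ ≤ H := Subgroup.map_subtype_le _
  have hrd : r ∣ Nat.card H :=
    (SigmaEmbedding.ne_one_of_pgroup (R.2.map H.subtype) hR1).trans (Subgroup.card_dvd_of_le hR₀H)
  have hP₀s : P₀ ≤ Cfsg.sigmaCore M :=
    pgroup_le_sigmaCore hG hM hpσ (P.2.map _) (hP₀H.trans hHM)
  have hP₀Hall : (Nat.card P₀).Coprime (P₀.relIndex (Cfsg.sigmaCore M)) := by
    obtain ⟨n, hn⟩ := IsPGroup.iff_card.1 (P.2.map H.subtype)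
    rw [hn]
    refine Nat.Coprime.pow_left n ((Nat.Prime.coprime_iff_not_dvd hp).2 fun h => hsylG p P hpd ?_)
    exact h.trans (Dvd.intro _ (Subgroup.relIndex_mul_index hP₀s))
  suffices hrσ : r ∈ Cfsg.sigma M from
    pgroup_le_sigmaCore hG hM hrσ (R.2.map _) (hR₀H.trans hHM)
  by_contra hrσ
  have hrp : r ≠ p := fun e => hrσ (e ▸ hpσ)
  have hcen : P₀ ≤ Subgroup.centralizer (R₀ : Set G) :=
    OddOrder.Basic.le_centralizer_of_nilpotent hHn hP₀H hR₀H
      (Fitting.coprime_card hrp.symm (P.2.map _) (R.2.map _))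
  obtain ⟨y, hy⟩ := exists_prime_orderOf_dvd_card' (G := R₀) r
    (SigmaEmbedding.ne_one_of_pgroup (R.2.map H.subtype) hR1)
  have hrτ := CentralizerHall.tau2_of_centralizes hG h32 hPA hSN hM hP₀s hP₀1 hP₀Hall hr
    (hHM (hR₀H y.2)) (by rw [Subgroup.orderOf_coe, hy]) hrσ
    (Subgroup.le_centralizer_iff.1 hcen y.2)
  obtain ⟨A, hAM, hA, hAc⟩ := RankTwoPrime.exists_elemAb_sq hrτ.2.2.1 hrτ.2.2.2
  have hActx : Ctx M r A := ⟨hG, hM, hrτ, hAM, hA, hAc⟩
  obtain ⟨S, hS⟩ := Decomp.exists_sylow_eq (hR₀H.trans hHM) (R.2.map H.subtype)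
    (fun h => hsylG r R hrd (h.trans (Dvd.intro _ (Subgroup.relIndex_mul_index (hR₀H.trans hHM)))))
  obtain ⟨T', hT'⟩ := (hActx.isPGroup.comap_subtype (K := M)).exists_le_sylow
  obtain ⟨m, hm⟩ := MulAction.exists_smul_eq M T' S
  have hAR : A.map (MulAut.conj (m : G)).toMonoidHom ≤ R₀ := by
    rintro _ ⟨a, ha, rfl⟩
    rw [← hS]
    refine ⟨m * ⟨a, hAM ha⟩ * m⁻¹, ?_, rfl⟩
    rw [← hm, Sylow.coe_subgroup_smul, SetLike.mem_coe, Coprime.mem_conj_smul]
    simp only [mul_assoc, inv_mul_cancel_left, inv_mul_cancel, mul_one]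
    exact hT' ha
  exact hP₀1 (le_bot_iff.1 ((le_inf hP₀s (hcen.trans (Subgroup.centralizer_le
    (SetLike.coe_subset_coe.2 hAR)))).trans
      (Context.centralizer_inf_eq_bot (Exceptional.ctx_conj hActx
        (hAR.trans (hR₀H.trans hHM)))).le))

/-- S1384. -/
theorem nilpotent_hall_fusion (hG : Cfsg.IsMinSimpleOddOrder G) (h29 : NilpotentOfNonKappa G)
    (hKC : KappaCyclic G) (hPA : PrimeAction G) (hSP : StarPrime G) (hCT : ConjTransitive G)
    (h32 : CentralizingElement G) (hSN : SylowNotInStar G) {H : Subgroup G}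
    (hHn : Group.IsNilpotent H) (hHall : (Nat.card H).Coprime H.index) :
    ∀ x ∈ H, ∀ g : G, g * x * g⁻¹ ∈ H →
      ∃ n ∈ Subgroup.normalizer (H : Set G), n * x * n⁻¹ = g * x * g⁻¹ := by
  intro x hx g hg
  by_cases hH1 : H = ⊥
  · subst hH1
    rw [Subgroup.mem_bot] at hx
    subst hx
    exact ⟨1, one_mem _, by simp⟩
  obtain ⟨M, hM, hle⟩ := exists_sigmaCore_ge hG h32 hPA hSN hHn hHall hH1
  obtain ⟨n, hn, e⟩ := fusion hG h29 hKC hPA hSP hCT hM hle
    (hHall.coprime_dvd_right (Dvd.intro _ (Subgroup.relIndex_mul_index hle))) x hx g hg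
  exact ⟨n, hn.2, e⟩

end Cfsg.Agent.Lib.OddFitting.Fusion
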