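import Cfsg.Agent.Lib.OddFitting.Chief
import Cfsg.Agent.Lib.OddFitting.HallSub
import Cfsg.Agent.Lib.OddFitting.Chain
import Cfsg.Agent.Lib.OddOrder.Interface.BG14
import Cfsg.Agent.Lib.FiniteGroupStructure.ConjAbelian

/-!
# BG 15.7: a conjugate of `F(M)` meeting `F(M)`
-/

set_option autoImplicit false
set_option linter.style.haveILetI false
set_option linter.unusedSectionVars false

open scoped Pointwise commutatorElement

namespace Cfsg.Agent.Lib.OddFitting.Meet

open Cfsg.Agent.Lib.OddOrder Cfsg.Agent.Lib.OddOrder.MinSimple Cfsg.Agent.Lib.OddTau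
  Cfsg.Agent.Lib.OddTau.Basic Cfsg.Agent.Lib.OddFitting.Hyps
  Cfsg.Agent.Lib.OddFitting.NotNilpotent Cfsg.Agent.Lib.OddOrder.Interface.BG14

universe u

variable {G : Type u} [Group G] [Finite G] {M : Subgroup G} {g : G}

/-- What the proof of BG 15.7 takes from BG 14. -/
structure Base (G : Type u) [Group G] [Finite G] : Prop where
  min : Cfsg.IsMinSimpleOddOrder G
  nonKappa : NilpotentOfNonKappa G
  cyclic : KappaCyclic G
  prime : PrimeAction G
  starPrime : StarPrime G
  support : SupportTauTwo G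
  escape : EscapeComplement G

/-- `F(M) ∩ F(M)ᵍ`. -/
abbrev meet (M : Subgroup G) (g : G) : Subgroup G :=
  Cfsg.fittingOf M ⊓ (Cfsg.fittingOf M).map (MulAut.conj g).toMonoidHom

/-- The hypothesis of BG 15.7. -/
structure NonTI (M : Subgroup G) (g : G) : Prop where
  base : Base G
  max : IsCoatom M
  out : g ∉ M
  ne : meet M g ≠ ⊥

theorem meet_le_fitting : meet M g ≤ Cfsg.fittingOf M := inf_le_left

theorem conj_mem {x : G} (hx : x ∈ meet M g) : g⁻¹ * x * g ∈ Cfsg.fittingOf M := by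
  obtain ⟨y, hy, e⟩ := hx.2
  rw [← e]
  simpa [mul_assoc] using hy

namespace NonTI

variable (h : NonTI M g)

include h

theorem mem_sigma {p : ℕ} (hp : p.Prime) (hd : p ∣ Nat.card (meet M g)) : p ∈ Cfsg.sigma M := by
  haveI := Fact.mk hp
  have hG := h.base.min
  have hM := h.max
  by_contra hpσ
  obtain ⟨hYc, -, -⟩ := SigmaPrimeFitting.spec hG hM
  set π := {q : ℕ | q.Prime ∧ q ∉ Cfsg.sigma M} with hπ
  set Y := Cfsg.piCoreOf π (Cfsg.fittingOf M) with hY
  obtain ⟨x, hx⟩ := exists_prime_orderOf_dvd_card' (G := meet M g) p hd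
  have hxo : orderOf (x : G) = p := by rw [Subgroup.orderOf_coe, hx]
  have hFn := Cores.fittingOf_isNilpotent M
  have hY' : ∀ y ∈ Cfsg.fittingOf M, orderOf y = p → Subgroup.zpowers y ≤ Y := fun y hy hyo =>
    HallSub.pgroup_le_piCoreOf hFn (Subgroup.zpowers_le.2 hy)
      (IsPGroup.of_card (n := 1) (by rw [Nat.card_zpowers, hyo, pow_one]))
      (show p ∈ π from ⟨hp, hpσ⟩)
  set x' := g⁻¹ * (x : G) * g with hx'
  have hxo' : orderOf x' = p := by
    rw [← hxo]
    exact orderOf_injective (MulAut.conj g⁻¹).toMonoidHom (MulAut.conj g⁻¹).injective (x : G) |>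
      fun e => by simpa [hx', mul_assoc] using e
  haveI := hYc
  have hZeq : Subgroup.zpowers x' = Subgroup.zpowers (x : G) :=
    Cyclic.eq_of_card_eq_of_isCyclic (W := Y) (hY' x' (conj_mem x.2) hxo')
      (hY' x (meet_le_fitting x.2) hxo) (by rw [Nat.card_zpowers, Nat.card_zpowers, hxo, hxo'])
  set Z := Subgroup.zpowers (x : G) with hZ
  have hZ1 : Z ≠ ⊥ := fun e => hp.ne_one (by
    rw [← hxo, Subgroup.zpowers_eq_bot.1 e, orderOf_one])
  have hYM : Y ≤ M := (piCoreOf_le _ _).trans (Cores.fittingOf_le M)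
  have hYn : M ≤ Subgroup.normalizer (Y : Set G) :=
    (OddOrder.Basic.fittingOf_normal M).trans (CharP.normalizer_le_normalizer_map_char _)
  have hZY : Z ≤ Y := hY' x (meet_le_fitting x.2) hxo
  have hZn : M ≤ Subgroup.normalizer (Z : Set G) := fun m hm =>
    Coprime.mem_normalizer_of_conj_smul_eq (Cyclic.eq_of_card_eq_of_isCyclic (W := Y)
      ((Subgroup.pointwise_smul_le_pointwise_smul_iff.2 hZY).trans
        (Coprime.conj_smul_eq_self_of_mem_normalizer (hYn hm)).le) hZY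
      (Coprime.card_conj_smul m Z))
  refine h.out ((normalizer_eq_of_coatom hG hM (hZY.trans hYM) hZ1 hZn).le ?_)
  have hg' : g⁻¹ ∈ Subgroup.normalizer (Z : Set G) := by
    refine Coprime.mem_normalizer_of_conj_smul_eq ?_
    rw [Coprime.conj_smul_eq_map, hZ, MonoidHom.map_zpowers]
    refine (?_ : _ = Subgroup.zpowers x').trans hZeq
    simp [hx', mul_assoc]
  simpa using inv_mem hg'

theorem meet_le_sigma : meet M g ≤ Cfsg.sigmaCore M := by
  refine Coprime.le_of_forall_sylow fun q hq => ?_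
  haveI := Fact.mk hq
  obtain ⟨P⟩ : Nonempty (Sylow q (meet M g)) := inferInstance
  refine ⟨P, ?_⟩
  by_cases hP : (P : Subgroup (meet M g)).map (meet M g).subtype = ⊥
  · rw [hP]; exact bot_le
  exact pgroup_le_sigmaCore h.base.min h.max
    (h.mem_sigma hq ((SigmaEmbedding.ne_one_of_pgroup (P.2.map _) hP).trans
      (Subgroup.card_dvd_of_le (Subgroup.map_subtype_le _))))
    (P.2.map _) ((Subgroup.map_subtype_le _).trans (meet_le_fitting.trans (Cores.fittingOf_le M)))

theorem meet_le_inf : meet M g ≤ Cfsg.sigmaCore M ⊓ M.map (MulAut.conj g).toMonoidHom :=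
  le_inf h.meet_le_sigma (inf_le_right.trans (Subgroup.map_mono (Cores.fittingOf_le M)))

theorem meet_props :
    IsCyclic (meet M g) ∧ (∀ p : ℕ, p.Prime → p ∣ Nat.card (meet M g) → p ∉ Cfsg.beta M) ∧
      meet M g ⊓ ⁅Cfsg.sigmaCore M, Cfsg.sigmaCore M⁆ = ⊥ := by
  obtain ⟨E, hE⟩ := MaximalBasics.exists_compl h.base.min h.max
  obtain ⟨hc, hb, hd⟩ := (Cfsg.Agent.S1426.result h.base.min M h.max E hE).2.2 g h.out
  haveI := hc
  exact ⟨Subgroup.isCyclic_of_le h.meet_le_inf,
    fun p hp hpd => hb p hp (hpd.trans (Subgroup.card_dvd_of_le h.meet_le_inf)),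
    le_bot_iff.1 ((inf_le_inf_right _ h.meet_le_inf).trans hd.le)⟩

end NonTI

/-- An element of prime order of `F(M) ∩ F(M)ᵍ` with the maximal subgroup over its centralizer. -/
structure Escape (M : Subgroup G) (g : G) (p : ℕ) (x : G) (N : Subgroup G) : Prop where
  mem : x ∈ meet M g
  order : orderOf x = p
  max : IsCoatom N
  le : Subgroup.centralizer ({x} : Set G) ≤ N
  not_le : ¬ Subgroup.centralizer ({x} : Set G) ≤ M
  tau : p ∈ Cfsg.tau2 N
  compl : Cfsg.IsComplIn (M ⊓ N) (Cfsg.sigmaCore N) N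

namespace NonTI

variable (h : NonTI M g)

include h

theorem exists_escape_of_mem {p : ℕ} (hp : p.Prime) {x : G} (hx : x ∈ meet M g)
    (hxo : orderOf x = p) : ∃ N : Subgroup G, Escape M g p x N := by
  haveI := Fact.mk hp
  have hG := h.base.min
  have hM := h.max
  have hx1 : x ≠ 1 := fun e => hp.ne_one (by rw [← hxo, e, orderOf_one])
  set X := Subgroup.zpowers x with hX
  have hXp : IsPGroup p X := IsPGroup.of_card (n := 1) (by rw [Nat.card_zpowers, hxo, pow_one])
  have hX1 : X ≠ ⊥ := fun e => hx1 (Subgroup.zpowers_eq_bot.1 e)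
  have hxs := h.meet_le_sigma hx
  have hnot : ¬ Subgroup.centralizer ({x} : Set G) ≤ M := by
    intro hC
    obtain ⟨m, hm, c, hc, hgc⟩ := Sigma.fusion hG hM
      (h.mem_sigma hp (hxo ▸ Subgroup.orderOf_dvd_natCard _ hx)) _ X rfl hXp hX1
      (Subgroup.zpowers_le.2 (sigmaCore_le M hxs)) g⁻¹ (by
      rw [hX, MonoidHom.map_zpowers, Subgroup.zpowers_le]
      exact Cores.fittingOf_le M (by simpa [mul_assoc] using conj_mem hx))
    refine h.out (inv_mem_iff.1 (hgc ▸ mul_mem hm (hC ?_)))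
    rw [hX, Subgroup.zpowers_eq_closure, Subgroup.centralizer_closure] at hc
    exact hc
  obtain ⟨N, hN, hle⟩ := exists_coatom_ge hG (centralizer_singleton_ne_top hG hx1)
  exact ⟨N, hx, hxo, hN, hle, hnot,
    (h.base.support M N hM hN x hxs hx1 hnot hle).1 p hp (dvd_of_eq hxo.symm),
    h.base.escape M N hM hN x hxs hx1 hnot hle⟩

theorem exists_escape : ∃ (p : ℕ) (x : G) (N : Subgroup G), p.Prime ∧ Escape M g p x N := by
  obtain ⟨p, hp, hd⟩ := Nat.exists_prime_and_dvd (mt Subgroup.card_eq_one.1 h.ne)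
  haveI := Fact.mk hp
  obtain ⟨x, hx⟩ := exists_prime_orderOf_dvd_card' (G := meet M g) p hd
  obtain ⟨N, hN⟩ := h.exists_escape_of_mem hp x.2 (by rw [Subgroup.orderOf_coe, hx])
  exact ⟨p, x, N, hp, hN⟩

variable {p : ℕ} {x : G} {N : Subgroup G} (e : Escape M g p x N)

include e

theorem not_sigma_N {r : ℕ} (hr : r.Prime) {Y : Subgroup G} (hY : Y ≤ M ⊓ N)
    (hd : r ∣ Nat.card Y) : r ∉ Cfsg.sigma N :=
  TauTwoAbelian.not_sigma_of_dvd h.base.min e.max e.compl hr (hd.trans (Subgroup.card_dvd_of_le hY))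

theorem prankLE_N {r : ℕ} (hr : r.Prime) {Y : Subgroup G} (hY : Y ≤ M ⊓ N)
    (hd : r ∣ Nat.card Y) : Cfsg.PRankLE r 2 N := by
  by_contra hn
  exact h.not_sigma_N e hr hY hd (AlphaCore.alpha_subset_sigma h.base.min e.max ⟨hr, hn⟩)

theorem le_meet_N {Y : Subgroup G} (hYM : Y ≤ M)
    (hY : Y ≤ Subgroup.centralizer ({x} : Set G)) : Y ≤ M ⊓ N :=
  le_inf hYM (hY.trans e.le)

theorem comm_of_nilpotent {Y : Subgroup G} (hY : Y ≤ M ⊓ N) (hYn : Group.IsNilpotent Y) :
    IsMulCommutative Y :=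
  TauTwoAbelian.isMulCommutative_of_sigma' h.base.min e.max (hY.trans inf_le_right) hYn
    fun _ hr hd => h.not_sigma_N e hr hY hd

/-- `M_σ` is nilpotent. -/
theorem isNilpotent_sigmaCore (hp : p.Prime) : Group.IsNilpotent (Cfsg.sigmaCore M) := by
  by_contra hn
  have hG := h.base.min
  have hM := h.max
  obtain ⟨K, S⟩ :=
    Chain.exists_setup hG h.base.nonKappa h.base.cyclic h.base.prime h.base.starPrime hM hn
  haveI := Fact.mk S.star_prime
  haveI := Fact.mk hp
  set q := Nat.card (kStar M K) with hq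
  set Q := coreQ M K with hQ
  have hQp : IsPGroup q Q := CharP.isPGroup_pCoreOf _ _
  have hqβ := Chief.mem_beta S
  have hqp : q ≠ p := fun e' => h.meet_props.2.1 p hp
    (e.order ▸ Subgroup.orderOf_dvd_natCard _ e.mem) (e' ▸ hqβ)
  have hQF : Q ≤ Cfsg.fittingOf M :=
    S.sylow_le_fittingHall.trans (OddOrder.Basic.fittingHallOf_le_fittingOf M)
  have hQC : Q ≤ Subgroup.centralizer ({x} : Set G) := by
    have hc := OddOrder.Basic.le_centralizer_of_nilpotent (Cores.fittingOf_isNilpotent M)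
      hQF (Subgroup.zpowers_le.2 e.mem.1)
      (Fitting.coprime_card hqp hQp
        (IsPGroup.of_card (p := p) (n := 1) (by rw [Nat.card_zpowers, e.order, pow_one])))
    rwa [Subgroup.zpowers_eq_closure, Subgroup.centralizer_closure] at hc
  have hQN : Q ≤ M ⊓ N := h.le_meet_N e S.sylow_le hQC
  have hrN := h.prankLE_N e S.star_prime hQN (Subgroup.card_dvd_of_le S.star_le_sylow)
  refine hqβ.1.2 (Rank.prankLE_subgroup_iff.2 fun E hE he => ?_)
  obtain ⟨P, hP⟩ := ((PGroups.elemAb_isPGroup he).comap_subtype (K := M)).exists_le_sylow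
  obtain ⟨T, hT⟩ := Decomp.exists_sylow_eq S.sylow_le hQp fun hd => by
    rw [← Subgroup.relIndex_mul_relIndex _ _ _ S.sylow_le_sigma (sigmaCore_le M)] at hd
    rcases S.star_prime.dvd_mul.1 hd with h1 | h1
    · exact S.sylow_hall h1
    · exact (SigmaHall.sigmaCore_isPiHallOf hG hM).2.2 _ S.star_prime
        (AlphaCore.alpha_subset_sigma hG hM hqβ.1) h1
  obtain ⟨m, hm⟩ := MulAction.exists_smul_eq M P T
  have hEQ : E.map (MulAut.conj (m : G)).toMonoidHom ≤ Q := by
    rintro _ ⟨a, ha, rfl⟩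
    rw [hQ, ← hT]
    refine ⟨m * ⟨a, hE ha⟩ * m⁻¹, ?_, rfl⟩
    rw [← hm, Sylow.coe_subgroup_smul, SetLike.mem_coe, Coprime.mem_conj_smul]
    simp only [mul_assoc, inv_mul_cancel_left, inv_mul_cancel, mul_one]
    exact hP ha
  have h2 := Rank.prankLE_subgroup_iff.1 hrN _ (hEQ.trans (hQN.trans inf_le_right))
    (PGroups.elemAb_conj _ he)
  rwa [Subgroup.card_map_of_injective (MulAut.conj (m : G)).injective] at h2

end NonTI

end Cfsg.Agent.Lib.OddFitting.Meet
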