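import Cfsg.Agent.Lib.OddFitting.MeetExponent
import Cfsg.Agent.Lib.OddOrder.SylowNormalizer
import Cfsg.Agent.Lib.OddLocal.NarrowBig
import Cfsg.Agent.Lib.OddLocal.NarrowStructure
import Cfsg.Agent.S1426

/-!
# BG 15.7, third case: `O_p(M_F)` of order `p ^ 3` and `|K| ∣ p + 1`
-/

set_option autoImplicit false
set_option linter.style.haveILetI false
set_option linter.unusedSectionVars false

open scoped Pointwise commutatorElement

namespace Cfsg.Agent.Lib.OddFitting.Meet

open Cfsg.Agent.Lib.OddOrder Cfsg.Agent.Lib.OddOrder.MinSimple Cfsg.Agent.Lib.OddTau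
  Cfsg.Agent.Lib.OddTau.Basic Cfsg.Agent.Lib.OddFitting.Hyps
  Cfsg.Agent.Lib.OddFitting.NotNilpotent Cfsg.Agent.Lib.OddOrder.Interface.BG14

universe u

variable {G : Type u} [Group G] [Finite G]

omit [Finite G] in
theorem conj_iterate {W : Subgroup G} {k y w : G} {a : ℕ} (hk : ∀ v ∈ W, Commute k v)
    (hy : ∀ v ∈ W, Commute y v) (hw : w ∈ W) (h : k * y * k⁻¹ = y ^ a * w) :
    ∀ n : ℕ, ∃ v ∈ W, k ^ n * y * (k ^ n)⁻¹ = y ^ a ^ n * v := by
  intro n
  induction n with
  | zero => exact ⟨1, one_mem W, by simp⟩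
  | succ n ih =>
    obtain ⟨v, hv, hn⟩ := ih
    refine ⟨w ^ a ^ n * v, mul_mem (pow_mem hw _) hv, ?_⟩
    calc k ^ (n + 1) * y * (k ^ (n + 1))⁻¹ = k * (k ^ n * y * (k ^ n)⁻¹) * k⁻¹ := by
          rw [pow_succ']; group
      _ = (k * y ^ a ^ n * k⁻¹) * (k * v * k⁻¹) := by rw [hn]; group
      _ = y ^ a ^ (n + 1) * (w ^ a ^ n * v) := by
          rw [(hk v hv).eq, mul_inv_cancel_right, ← conj_pow, h,
            ((hy w hw).pow_left a).mul_pow, ← pow_mul, mul_assoc, ← pow_succ']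

omit [Finite G] in
theorem commutator_pow {y y' : G} (hy : Commute y ⁅y, y'⁆) (hy' : Commute y' ⁅y, y'⁆) (a b : ℕ) :
    ⁅y ^ a, y' ^ b⁆ = ⁅y, y'⁆ ^ (a * b) := by
  set c := ⁅y, y'⁆ with hc
  have h1 : y * y' ^ b * y⁻¹ = c ^ b * y' ^ b := by
    have e : y * y' * y⁻¹ = c * y' := by rw [hc, commutatorElement_def]; group
    rw [← conj_pow, e, hy'.symm.mul_pow]
  have h2 : ∀ n : ℕ, y ^ n * y' ^ b * (y ^ n)⁻¹ = c ^ (n * b) * y' ^ b := by
    intro n
    induction n with
    | zero => simp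
    | succ n ih =>
      calc y ^ (n + 1) * y' ^ b * (y ^ (n + 1))⁻¹ = y * (y ^ n * y' ^ b * (y ^ n)⁻¹) * y⁻¹ := by
            rw [pow_succ']; group
        _ = (y * c ^ (n * b) * y⁻¹) * (y * y' ^ b * y⁻¹) := by rw [ih]; group
        _ = _ := by
            rw [(hy.pow_right _).eq, mul_inv_cancel_right, h1, ← mul_assoc, ← pow_add, Nat.succ_mul]
  rw [commutatorElement_def, h2 a, mul_inv_cancel_right]

/-- An element of order prime to `p` that fixes `y` modulo `W` fixes `y`. -/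
theorem pow_eq_one_of_shift {K W : Subgroup G} {y : G} {p : ℕ}
    (hcop : (Nat.card K).Coprime p) (hK : ∀ k ∈ K, ∀ v ∈ W, Commute k v)
    (hWp : ∀ v ∈ W, v ^ p = 1)
    (hfix : ∀ k ∈ K, Commute k y → k = 1) {b : G} (hb : b ∈ K) {v : G} (hv : v ∈ W)
    (h : b * y * b⁻¹ = y * v) : b = 1 := by
  have h1 : ∀ n : ℕ, b ^ n * y * (b ^ n)⁻¹ = y * v ^ n := by
    intro n
    induction n with
    | zero => simp
    | succ n ih =>
      calc b ^ (n + 1) * y * (b ^ (n + 1))⁻¹ = b * (b ^ n * y * (b ^ n)⁻¹) * b⁻¹ := by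
            rw [pow_succ']; group
        _ = (b * y * b⁻¹) * (b * v ^ n * b⁻¹) := by rw [ih]; group
        _ = _ := by
            rw [h, ((hK b hb v hv).pow_right n).eq, mul_inv_cancel_right, mul_assoc, ← pow_succ']
  have h2 : b ^ p = 1 := hfix _ (pow_mem hb _) (by
    have := h1 p
    rw [hWp v hv, mul_one] at this
    exact mul_inv_eq_iff_eq_mul.1 this)
  rw [← orderOf_eq_one_iff]
  exact Nat.eq_one_of_dvd_coprimes hcop (Subgroup.orderOf_dvd_natCard _ hb)
    (orderOf_dvd_of_pow_eq_one h2)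

namespace NonTI

variable {M : Subgroup G} {g : G} (h : NonTI M g) {K U : Subgroup G} {p : ℕ} {x : G}
  {N : Subgroup G} (e : Escape M g p x N)

include h e

/-- `M_σ' ≤ O_p(M_σ)'`. -/
theorem derived_sigma_le (hp : p.Prime) (hab : ¬ IsMulCommutative (Cfsg.sigmaCore M)) :
    ⁅Cfsg.sigmaCore M, Cfsg.sigmaCore M⁆ ≤ ⁅part p M, part p M⁆ := by
  haveI := Fact.mk hp
  set H := Cfsg.sigmaCore M with hH
  set S := part p M with hS
  set C := H ⊓ Subgroup.centralizer (H : Set G) with hC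
  have hle : H ≤ S ⊔ C := by
    refine Coprime.le_of_forall_sylow fun q hq => ?_
    haveI := Fact.mk hq
    obtain ⟨P⟩ : Nonempty (Sylow q H) := inferInstance
    refine ⟨P, ?_⟩
    have hP : (P : Subgroup H).map H.subtype ≤ part q M :=
      h.pgroup_le_part (Subgroup.map_subtype_le _) (P.2.map _)
    by_cases hqp : q = p
    · subst hqp
      exact hP.trans le_sup_left
    refine hP.trans (le_trans (le_inf (part_le q M) fun y hy => ?_) le_sup_right)
    refine Fitting.mem_centralizer_of_primary h.sigma_le_fitting_self fun r _ _ m hm => ?_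
    by_cases hqr : q = r
    · subst hqr
      haveI := h.part_cyclic e hp hab hq hqp
      exact congrArg Subtype.val
        ((IsCyclic.commGroup (α := part q M)).mul_comm ⟨y, hy⟩ ⟨m, hm.2⟩)
    · exact (Subgroup.mem_centralizer_iff.1 (h.part_commute hqr hy) m hm.2).symm
  have hCS : C ≤ Subgroup.normalizer (S : Set G) := inf_le_left.trans
    ((sigmaCore_le M).trans (part_normal p M))
  have hdec : ∀ a ∈ H, ∃ s ∈ S, ∃ c ∈ C, a = s * c := fun a ha => by
    obtain ⟨s, hs, c, hc, e'⟩ := Set.mem_mul.1 (by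
      rw [← Subgroup.coe_mul_of_right_le_normalizer_left _ _ hCS]; exact hle ha :
        a ∈ (S : Set G) * (C : Set G))
    exact ⟨s, hs, c, hc, e'.symm⟩
  rw [Subgroup.commutator_le]
  intro a ha b hb
  obtain ⟨s, hs, c, hc, rfl⟩ := hdec a ha
  obtain ⟨t, ht, d, hd, rfl⟩ := hdec b hb
  have hcomm : ∀ w ∈ C, ∀ v ∈ H, Commute w v := fun w hw v hv =>
    (Subgroup.mem_centralizer_iff.1 hw.2 v hv).symm
  have : ⁅s * c, t * d⁆ = ⁅s, t⁆ := by
    have hsH := part_le p M hs
    have htH := part_le p M ht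
    calc ⁅s * c, t * d⁆ = s * ((c * (t * d)) * c⁻¹) * s⁻¹ * d⁻¹ * t⁻¹ := by
          rw [commutatorElement_def]; group
      _ = s * t * (d * s⁻¹) * d⁻¹ * t⁻¹ := by
          rw [((hcomm c hc t htH).mul_right (hcomm c hc d hd.1)).eq]; group
      _ = ⁅s, t⁆ := by
          rw [(hcomm d hd s⁻¹ (inv_mem hsH)).eq, commutatorElement_def]; group
  rw [this]
  exact Subgroup.commutator_mem_commutator hs ht

/-- BG 15.7 (c): the third case. -/
theorem cube (hSN : SylowNotInStar G) (hp : p.Prime)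
    (hab : ¬ IsMulCommutative (Cfsg.sigmaCore M)) (hKU : Cfsg.IsSigmaDecomposition M K U)
    (hU : U = ⊥) {k₀ : G} (hk₀ : k₀ ∈ K) (hk₀p : k₀ ^ (p - 1) ≠ 1) :
    Nat.card (part p M) = p ^ 3 ∧ Nat.card K ∣ p + 1 := by
  haveI := Fact.mk hp
  have hG := h.base.min
  have hM := h.max
  have hp2 : p ≠ 2 := ne_two_of_dvd hG ((h.dvd_meet e).trans (meet M g).card_subgroup_dvd_card)
  have hσ := h.p_sigma e hp
  have hKM := Decomp.K_le hKU
  have hKcop : (Nat.card K).Coprime (Nat.card (Cfsg.sigmaCore M)) :=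
    Decomp.coprime_kappa hKU.hall
  have hdH : p ∣ Nat.card (Cfsg.sigmaCore M) :=
    (h.dvd_meet e).trans (Subgroup.card_dvd_of_le h.meet_le_sigma)
  have hKp : (Nat.card K).Coprime p := hKcop.coprime_dvd_right hdH
  have hK1 : K ≠ ⊥ := fun e0 => hk₀p (by
    rw [Subgroup.mem_bot.1 (e0 ▸ hk₀ : k₀ ∈ (⊥ : Subgroup G)), one_pow])
  set S := part p M with hS
  have hSM : S ≤ M := (part_le p M).trans (sigmaCore_le M)
  have hnab := h.part_not_comm e hp hab
  -- the rank of `S` is at most two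
  have hrk : Cfsg.PRankLE p 2 S := by
    by_contra hr
    obtain ⟨T⟩ : Nonempty (Sylow p M) := inferInstance
    have hTS : S.subgroupOf M = (T : Subgroup M) := T.is_maximal'
      ((part_isPGroup p M).comap_subtype (K := M))
      (fun t ht => h.pgroup_le_part' hσ (Subgroup.map_subtype_le _) (T.2.map M.subtype)
        ⟨t, ht, rfl⟩)
    have hn := OddLocal.NarrowStructure.isNarrow_congr
      (Subgroup.subgroupOfEquivOfLe hSM) (hTS ▸ BetaCore.isNarrow_sylow hG hM (h.not_beta hp) T)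
    exact hk₀p (h.faithful hSN hKU hp hdH (pow_mem hk₀ _)
      (OddLocal.NarrowBig.pow_sub_one_centralizes hp2 (part_isPGroup p M) hn hr
        (part_normal p M (hKM hk₀)) (hKp.coprime_dvd_left (Subgroup.orderOf_dvd_natCard _ hk₀))))
  obtain ⟨P, hSP, hPM, -⟩ := Sigma.exists_sylow_ge hσ (part_isPGroup p M) hSM
  have hPS : (P : Subgroup G) = S := le_antisymm (h.pgroup_le_part' hσ hPM P.2) hSP
  obtain ⟨P₁, P₂, hsup, hcomm, hP₁nc, hP₁c, hP₁e, hP₂c, -⟩ :=
    (SylowNormalizer.structure_rank_two hG (fun X hX => PLengthOne.of_ne_top hG p X hX) P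
      (by rw [hPS]; exact hrk)).resolve_left (by rw [hPS]; exact hnab)
  rw [hPS] at hsup
  have h1S : P₁ ≤ S := hsup ▸ le_sup_left
  have h2S : P₂ ≤ S := hsup ▸ le_sup_right
  have hn21 : P₂ ≤ Subgroup.normalizer (P₁ : Set G) := fun c hc =>
    Subgroup.centralizer_le_normalizer _ (Subgroup.mem_centralizer_iff.2 fun b hb =>
      hcomm b hb c hc)
  have hdec : ∀ y ∈ S, ∃ b ∈ P₁, ∃ c ∈ P₂, b * c = y := fun y hy => by
    rw [← hsup] at hy
    exact Set.mem_mul.1 (by rw [← Subgroup.coe_mul_of_right_le_normalizer_left _ _ hn21]; exact hy)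
  have h2c : ∀ c ∈ P₂, ∀ d ∈ P₂, Commute c d := fun c hc d hd => congrArg Subtype.val
    ((IsCyclic.commGroup (α := P₂)).mul_comm ⟨c, hc⟩ ⟨d, hd⟩)
  set W := S ⊓ Subgroup.centralizer (S : Set G) with hW
  haveI hWc : IsCyclic W := h.center_cyclic e hp hab
  haveI : IsMulCommutative W := ⟨⟨(IsCyclic.commGroup (α := W)).mul_comm⟩⟩
  have hWn : M ≤ Subgroup.normalizer (W : Set G) :=
    Coprime.le_normalizer_inf (part_normal p M)
      ((part_normal p M).trans (Fitting.normalizer_le_normalizer_centralizer _))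
  -- `K` centralizes the centre of `S`
  obtain ⟨z, hzW, hzo, hzn⟩ := h.exists_line e hp hab hp hdH
  have hstar : ∀ k ∈ K, k ≠ 1 → Cfsg.sigmaCore M ⊓ Subgroup.centralizer ({k} : Set G) =
      Cfsg.sigmaCore M ⊓ Subgroup.centralizer (K : Set G) :=
    h.base.prime M K hM hKU.hall hK1
  have hzK : z ∈ Cfsg.sigmaCore M ⊓ Subgroup.centralizer (K : Set G) := by
    rw [← hstar _ (pow_mem hk₀ _) hk₀p]
    exact ⟨part_le p M hzW.1, Subgroup.mem_centralizer_iff.2 fun b hb => by
      rw [Set.mem_singleton_iff.1 hb]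
      exact (pow_sub_one_commute hzo (hzn (hKM hk₀))).eq⟩
  have hKW : ∀ k ∈ K, ∀ v ∈ W, Commute k v := by
    have hle : K ≤ Subgroup.centralizer (W : Set G) := by
      refine Coprime.le_centralizer_of_prime_order (hKM.trans hWn)
        (hKcop.coprime_dvd_right (Subgroup.card_dvd_of_le (inf_le_left.trans (part_le p M)))) ?_
      intro v hv hvo k hk
      obtain ⟨j, hj⟩ := IsPGroup.iff_orderOf.1 (part_isPGroup p M) ⟨v, hv.1⟩
      rw [Subgroup.orderOf_mk] at hj
      rw [hj] at hvo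
      rw [Nat.Prime.eq_one_of_pow hvo, pow_one] at hj
      have hvz : v ∈ Subgroup.zpowers z := (Cyclic.eq_of_card_eq_of_isCyclic (W := W)
        (Subgroup.zpowers_le.2 hv) (Subgroup.zpowers_le.2 hzW)
        (by rw [Nat.card_zpowers, Nat.card_zpowers, hj, hzo])).le (Subgroup.mem_zpowers v)
      obtain ⟨i, rfl⟩ := hvz
      exact ((show Commute k z from Subgroup.mem_centralizer_iff.1 hzK.2 k hk).zpow_right i).eq
    exact fun k hk v hv => (Subgroup.mem_centralizer_iff.1 (hle hk) v hv).symm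
  have hHK : Cfsg.sigmaCore M ⊓ Subgroup.centralizer (K : Set G) ≤
      ⁅Cfsg.sigmaCore M, Cfsg.sigmaCore M⁆ :=
    (Cfsg.Agent.S1426.result hG M hM K (h.compl_of_U_bot hKU hU)).1
  -- `S' ≤ Z(P₁)`
  have hZ1 := SylowNormalizer.derived_eq_center hP₁c hP₁nc
  have hSZ : ⁅S, S⁆ ≤ ⁅P₁, P₁⁆ := by
    rw [Subgroup.commutator_le]
    intro a ha b hb
    obtain ⟨s, hs, c, hc, rfl⟩ := hdec a ha
    obtain ⟨t, ht, d, hd, rfl⟩ := hdec b hb
    have : ⁅s * c, t * d⁆ = ⁅s, t⁆ := by
      calc ⁅s * c, t * d⁆ = s * ((c * (t * d)) * c⁻¹) * s⁻¹ * d⁻¹ * t⁻¹ := by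
            rw [commutatorElement_def]; group
        _ = s * t * (d * s⁻¹) * d⁻¹ * t⁻¹ := by
            rw [((show Commute c t from (hcomm t ht c hc).symm).mul_right (h2c c hc d hd)).eq]
            group
        _ = ⁅s, t⁆ := by
            rw [(show Commute d s⁻¹ from (hcomm _ (inv_mem hs) d hd).symm).eq,
              commutatorElement_def]
            group
    rw [this]
    exact Subgroup.commutator_mem_commutator hs ht
  have hWZ : W ≤ P₁ ⊓ Subgroup.centralizer (P₁ : Set G) := fun v hv => by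
    rw [← hZ1]
    exact hSZ (h.derived_sigma_le e hp hab (hHK ⟨part_le p M hv.1,
      Subgroup.mem_centralizer_iff.2 fun k hk => (hKW k hk v hv).eq⟩))
  have h21 : P₂ ≤ P₁ := fun c hc => (hWZ ⟨h2S hc, Subgroup.mem_centralizer_iff.2 fun y hy => by
    obtain ⟨b, hb, d, hd, rfl⟩ := hdec y hy
    exact ((show Commute b c from hcomm b hb c hc).mul_left (h2c d hd c hc)).eq⟩).1
  have hS1 : P₁ = S := by rw [← hsup, sup_eq_left.2 h21]
  rw [hS1] at hP₁c hP₁e hZ1
  refine ⟨hP₁c, ?_⟩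
  have hSexp : ∀ y ∈ S, y ^ p = 1 := fun y hy => by
    have := Monoid.pow_exponent_eq_one (⟨y, hy⟩ : S)
    rw [hP₁e] at this
    simpa using congrArg Subtype.val this
  have hWexp : ∀ v ∈ W, v ^ p = 1 := fun v hv => hSexp v hv.1
  have hWcard : Nat.card W = p := by
    have h1 : Nat.card W ∣ p := by
      rw [← IsCyclic.exponent_eq_card, Monoid.exponent_dvd_iff_forall_pow_eq_one]
      rintro ⟨v, hv⟩
      exact Subtype.ext (hWexp v hv)
    exact (hp.eq_one_or_self_of_dvd _ h1).resolve_left fun e0 =>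
      h.center_ne_bot hdH (Subgroup.card_eq_one.1 e0)
  have hfix : ∀ k ∈ K, k ≠ 1 → ∀ y ∈ S, Commute k y → y ∈ W := by
    intro k hk hk1 y hy hky
    have h1 : y ∈ Cfsg.sigmaCore M ⊓ Subgroup.centralizer (K : Set G) := by
      rw [← hstar k hk hk1]
      exact ⟨part_le p M hy, Subgroup.mem_centralizer_iff.2 fun b hb => by
        rw [Set.mem_singleton_iff.1 hb]; exact hky.eq⟩
    have h2 := h.derived_sigma_le e hp hab (hHK h1)
    rw [hZ1] at h2
    exact h2
  have hfix' : ∀ y ∈ S, y ∉ W → ∀ k ∈ K, Commute k y → k = 1 := fun y hy hyW k hk hc => by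
    by_contra hk1
    exact hyW (hfix k hk hk1 y hy hc)
  -- lines
  have hSW : ∀ {y : G}, y ∈ S → ∀ v ∈ W, Commute y v := fun {y} hy v hv =>
    Subgroup.mem_centralizer_iff.1 hv.2 y hy
  set Line : G → Subgroup G := fun y => Subgroup.zpowers y ⊔ W with hLine
  have hmem : ∀ {y y' : G}, y ∈ S → y' ∈ Line y → ∃ a : ℕ, ∃ v ∈ W, y' = y ^ a * v := by
    intro y y' hy hy'
    have hn : W ≤ Subgroup.normalizer (Subgroup.zpowers y : Set G) := fun v hv =>
      Subgroup.centralizer_le_normalizer _ (Subgroup.mem_centralizer_iff.2 fun b hb =>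
        hSW (Subgroup.zpowers_le.2 hy hb) v hv)
    obtain ⟨a, ha, v, hv, e'⟩ := Set.mem_mul.1 (by
      rw [← Subgroup.coe_mul_of_right_le_normalizer_left _ _ hn]; exact hy' :
        y' ∈ (Subgroup.zpowers y : Set G) * (W : Set G))
    obtain ⟨n, rfl⟩ := (isOfFinOrder_of_finite y).mem_powers_iff_mem_zpowers.2 ha
    exact ⟨n, v, hv, e'.symm⟩
  have hLS : ∀ {y : G}, y ∈ S → Line y ≤ S := fun {y} hy =>
    sup_le (Subgroup.zpowers_le.2 hy) inf_le_left
  have hLcard : ∀ {y : G}, y ∈ S → y ∉ W → Nat.card (Line y) = p ^ 2 := by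
    intro y hy hyW
    obtain ⟨j, hj⟩ := IsPGroup.iff_card.1 ((part_isPGroup p M).to_le (hLS hy))
    have hle : Nat.card (Line y) ≤ p ^ 2 := by
      refine (Rank.card_sup_le_of_commute fun a ha b hb =>
        (hSW (Subgroup.zpowers_le.2 hy ha) b hb).eq).trans ?_
      rw [hWcard, Nat.card_zpowers, pow_two]
      exact Nat.mul_le_mul_right _ (Nat.le_of_dvd hp.pos (orderOf_dvd_of_pow_eq_one (hSexp y hy)))
    have hlt : p < Nat.card (Line y) := by
      rw [← hWcard]
      refine lt_of_le_of_ne (Subgroup.card_le_of_le le_sup_right) fun e0 => hyW ?_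
      exact (Subgroup.eq_of_le_of_card_ge (le_sup_right : W ≤ Line y) e0.ge).ge
        (Subgroup.mem_sup_left (Subgroup.mem_zpowers y))
    rw [hj] at hle hlt ⊢
    have h3 := (Nat.pow_le_pow_iff_right hp.one_lt).1 hle
    have h4 : 1 < j := (Nat.pow_lt_pow_iff_right hp.one_lt).1 (by rwa [pow_one])
    rw [show j = 2 by omega]
  have hKS : ∀ {k y : G}, k ∈ K → y ∈ S → k * y * k⁻¹ ∈ S := fun {k y} hk hy =>
    (Subgroup.mem_normalizer_iff.1 (part_normal p M (hKM hk)) y).1 hy
  have hKnW : ∀ {k y : G}, k ∈ K → y ∉ W → k * y * k⁻¹ ∉ W := fun {k y} hk hy hc =>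
    hy ((Subgroup.mem_normalizer_iff.1 (hWn (hKM hk)) y).2 hc)
  have hnot : ∀ y ∈ S, y ∉ W → k₀ * y * k₀⁻¹ ∉ Line y := by
    intro y hy hyW hc
    obtain ⟨a, v, hv, he⟩ := hmem hy hc
    obtain ⟨v', hv', he'⟩ := conj_iterate (hKW k₀ hk₀) (hSW hy) hv he (p - 1)
    have ha : ¬ p ∣ a := fun hd => hKnW hk₀ hyW (by
      obtain ⟨c, rfl⟩ := hd
      rw [he, pow_mul, hSexp y hy, one_pow, one_mul]
      exact hv)
    have hya : y ^ a ^ (p - 1) = y := by
      have hmod : a ^ (p - 1) ≡ 1 [MOD p] := by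
        have := Nat.ModEq.pow_totient ((hp.coprime_iff_not_dvd.2 ha).symm)
        rwa [Nat.totient_prime hp] at this
      rw [← pow_mod_orderOf, orderOf_eq_prime (hSexp y hy) fun e0 => hyW (e0 ▸ one_mem W), hmod,
        Nat.mod_eq_of_lt hp.one_lt, pow_one]
    rw [hya] at he'
    exact hk₀p (pow_eq_one_of_shift hKp hKW hWexp (hfix' y hy hyW)
      (pow_mem hk₀ _) hv' he')
  have hfree : ∀ k ∈ K, ∀ y ∈ S, y ∉ W → k * y * k⁻¹ ∈ Line y → k = 1 := by
    intro k hk y hy hyW hc
    obtain ⟨a, v, hv, he⟩ := hmem hy hc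
    set y' := k₀ * y * k₀⁻¹ with hy'
    have hy'S : y' ∈ S := hKS hk₀ hy
    have hy'L : y' ∉ Line y := hnot y hy hyW
    have he2 : k * y' * k⁻¹ = y' ^ a * v := by
      haveI := hKU.cyclic
      have hkk : Commute k k₀ := congrArg Subtype.val
        ((IsCyclic.commGroup (α := K)).mul_comm ⟨k, hk⟩ ⟨k₀, hk₀⟩)
      calc k * y' * k⁻¹ = (k * k₀) * y * (k * k₀)⁻¹ := by rw [hy']; group
        _ = k₀ * (k * y * k⁻¹) * k₀⁻¹ := by rw [hkk.eq]; group
        _ = (k₀ * y ^ a * k₀⁻¹) * (k₀ * v * k₀⁻¹) := by rw [he]; group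
        _ = y' ^ a * v := by
            rw [(hKW k₀ hk₀ v hv).eq, mul_inv_cancel_right, ← conj_pow]
    set c := ⁅y, y'⁆ with hc'
    have hcW : c ∈ W := by
      have := Subgroup.commutator_mem_commutator hy hy'S
      rwa [hZ1] at this
    have hc1 : c ≠ 1 := fun e0 => by
      refine hyW ⟨hy, Subgroup.mem_centralizer_iff.2 fun s hs => ?_⟩
      have hle : Line y ⊔ Subgroup.zpowers y' = S := by
        refine Subgroup.eq_of_le_of_card_ge (sup_le (hLS hy) (Subgroup.zpowers_le.2 hy'S)) ?_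
        obtain ⟨j, hj⟩ := IsPGroup.iff_card.1 ((part_isPGroup p M).to_le
          (sup_le (hLS hy) (Subgroup.zpowers_le.2 hy'S) : Line y ⊔ Subgroup.zpowers y' ≤ S))
        have hlt : Nat.card (Line y) < Nat.card ↥(Line y ⊔ Subgroup.zpowers y') :=
          lt_of_le_of_ne (Subgroup.card_le_of_le le_sup_left) fun e1 => hy'L
            ((Subgroup.eq_of_le_of_card_ge (le_sup_left : Line y ≤ _) e1.ge).ge
              (Subgroup.mem_sup_right (Subgroup.mem_zpowers y')))
        rw [hLcard hy hyW, hj] at hlt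
        rw [hP₁c, hj]
        exact Nat.pow_le_pow_right hp.pos
          (by have := (Nat.pow_lt_pow_iff_right hp.one_lt).1 hlt; omega)
      have hsub : Line y ⊔ Subgroup.zpowers y' ≤ Subgroup.centralizer ({y} : Set G) := by
        refine sup_le (sup_le (Subgroup.zpowers_le.2 ?_) fun v hv => ?_) (Subgroup.zpowers_le.2 ?_)
        · exact Subgroup.mem_centralizer_iff.2 fun b hb => by rw [Set.mem_singleton_iff.1 hb]
        · exact Subgroup.mem_centralizer_iff.2 fun b hb => by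
            rw [Set.mem_singleton_iff.1 hb]; exact (hSW hy v hv).eq
        · exact Subgroup.mem_centralizer_iff.2 fun b hb => by
            rw [Set.mem_singleton_iff.1 hb]; exact commutatorElement_eq_one_iff_mul_comm.1 e0
      exact (Subgroup.mem_centralizer_iff.1 (hsub (hle.ge hs)) y rfl).symm
    have hca : c ^ (a * a) = c := by
      rw [hc', ← commutator_pow (hSW hy c hcW) (hSW hy'S c hcW) a a]
      calc ⁅y ^ a, y' ^ a⁆ = ⁅y ^ a * v, y' ^ a * v⁆ := by
            have h1 := (hSW (pow_mem hy a) v hv)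
            have h2 := (hSW (pow_mem hy'S a) v hv)
            calc ⁅y ^ a, y' ^ a⁆ = y ^ a * y' ^ a * (y ^ a)⁻¹ * (y' ^ a)⁻¹ :=
                  commutatorElement_def _ _
              _ = y ^ a * (y' ^ a * v) * (y ^ a)⁻¹ * (v⁻¹ * (y' ^ a)⁻¹) := by
                  rw [show y ^ a * (y' ^ a * v) * (y ^ a)⁻¹ =
                    y ^ a * y' ^ a * (v * (y ^ a)⁻¹) by group, h1.symm.inv_right.eq]
                  group
              _ = y ^ a * v * (y' ^ a * v) * (y ^ a * v)⁻¹ * (y' ^ a * v)⁻¹ := by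
                  rw [show y ^ a * v * (y' ^ a * v) = y ^ a * (v * (y' ^ a * v)) by group,
                    (h2.symm.mul_right (Commute.refl v)).eq]
                  group
              _ = _ := (commutatorElement_def _ _).symm
        _ = ⁅k * y * k⁻¹, k * y' * k⁻¹⁆ := by rw [he, he2]
        _ = k * c * k⁻¹ := by rw [hc', commutatorElement_def, commutatorElement_def]; group
        _ = c := by rw [(hKW k hk c hcW).eq, mul_inv_cancel_right]
    have hmod : a * a ≡ 1 [MOD p] := by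
      rw [← orderOf_eq_prime (hWexp c hcW) hc1, ← pow_eq_pow_iff_modEq, hca, pow_one]
    have hya : y ^ (a * a) = y := by
      rw [← pow_mod_orderOf, orderOf_eq_prime (hSexp y hy) fun e0 => hyW (e0 ▸ one_mem W), hmod,
        Nat.mod_eq_of_lt hp.one_lt, pow_one]
    obtain ⟨v', hv', he'⟩ := conj_iterate (hKW k hk) (hSW hy) hv he 2
    rw [pow_two a, hya] at he'
    have h2 := pow_eq_one_of_shift hKp hKW hWexp (hfix' y hy hyW)
      (pow_mem hk _) hv' he'
    have hodd : (orderOf k).Coprime 2 := Nat.coprime_two_right.2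
      ((odd_card hG K).of_dvd_nat (Subgroup.orderOf_dvd_natCard _ hk))
    rw [← orderOf_eq_one_iff]
    exact Nat.eq_one_of_dvd_coprimes hodd dvd_rfl (orderOf_dvd_of_pow_eq_one h2)
  -- the action on the lines
  set L : Set (Subgroup G) := {Y | ∃ y ∈ S, y ∉ W ∧ Y = Line y} with hL
  have hconj : ∀ (k : K) (y : G), MulAut.conj (k : G) • Line y = Line ((k : G) * y * (k : G)⁻¹) :=
    fun k y => by
      rw [hLine, Subgroup.smul_sup, Coprime.conj_smul_eq_self_of_mem_normalizer (hWn (hKM k.2)),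
        Coprime.conj_smul_eq_map, MonoidHom.map_zpowers]
      rfl
  have hstab : ∀ (k : K) (Y : L), MulAut.conj (k : G) • (Y : Subgroup G) ∈ L := by
    rintro k ⟨Y, y, hy, hyW, rfl⟩
    exact ⟨_, hKS k.2 hy, hKnW k.2 hyW, hconj k y⟩
  letI act : MulAction K L :=
    { smul := fun k Y => ⟨MulAut.conj (k : G) • (Y : Subgroup G), hstab k Y⟩
      one_smul := fun Y => Subtype.ext (by
        show MulAut.conj ((1 : K) : G) • (Y : Subgroup G) = _
        rw [OneMemClass.coe_one, map_one, one_smul])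
      mul_smul := fun k l Y => Subtype.ext (by
        show MulAut.conj ((k * l : K) : G) • (Y : Subgroup G) = _
        rw [Subgroup.coe_mul, map_mul, mul_smul]
        rfl) }
  have hKL : Nat.card K ∣ Nat.card L := by
    have hst : ∀ Y : L, MulAction.stabilizer K Y = ⊥ := by
      rintro ⟨Y, y, hy, hyW, rfl⟩
      refine (Subgroup.eq_bot_iff_forall _).2 fun k hk => Subtype.ext (hfree k k.2 y hy hyW ?_)
      have h1 : MulAut.conj (k : G) • Line y = Line y := congrArg Subtype.val hk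
      rw [hconj] at h1
      exact h1.le (Subgroup.mem_sup_left (Subgroup.mem_zpowers _))
    rw [Nat.card_congr (MulAction.selfEquivOrbitsQuotientProd hst), Nat.card_prod]
    exact dvd_mul_left _ _
  -- counting
  classical
  haveI : Fintype L := Fintype.ofFinite L
  let f : ↥((S : Set G) \ (W : Set G)) → L := fun y => ⟨Line y, y, y.2.1, y.2.2, rfl⟩
  have hfib : ∀ Y : L, Nat.card {y // f y = Y} = p ^ 2 - p := by
    intro Y
    obtain ⟨y₀, hy₀, hy₀W, hY⟩ := Y.2
    have e1 : {y // f y = Y} ≃ ↥((Line y₀ : Set G) \ (W : Set G)) :=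
      { toFun := fun y => ⟨y.1, by
          refine ⟨?_, y.1.2.2⟩
          have h1 : Line (y.1 : G) = Line y₀ := (congrArg Subtype.val y.2).trans hY
          exact h1.le (Subgroup.mem_sup_left (Subgroup.mem_zpowers _)), ⟩
        invFun := fun y => ⟨⟨y.1, hLS hy₀ y.2.1, y.2.2⟩, Subtype.ext (by
          show Line (y.1 : G) = (Y : Subgroup G)
          rw [hY]
          exact Subgroup.eq_of_le_of_card_ge
            (sup_le (Subgroup.zpowers_le.2 y.2.1) le_sup_right)
            (by rw [hLcard hy₀ hy₀W, hLcard (hLS hy₀ y.2.1) y.2.2]))⟩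
        left_inv := fun y => rfl
        right_inv := fun y => rfl }
    rw [Nat.card_congr e1, Nat.card_coe_set_eq,
      Set.ncard_sdiff (SetLike.coe_subset_coe.2 (le_sup_right : W ≤ Line y₀)) (Set.toFinite _),
      ← Nat.card_coe_set_eq, ← Nat.card_coe_set_eq]
    exact congrArg₂ (· - ·) (hLcard hy₀ hy₀W) hWcard
  have hcount : Nat.card L * (p ^ 2 - p) = p ^ 3 - p := by
    have h1 := Nat.card_congr (Equiv.sigmaFiberEquiv f).symm
    rw [Nat.card_sigma, Finset.sum_congr rfl fun Y _ => hfib Y, Finset.sum_const, Finset.card_univ,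
      ← Nat.card_eq_fintype_card, smul_eq_mul, Nat.card_coe_set_eq,
      Set.ncard_sdiff (SetLike.coe_subset_coe.2 (inf_le_left : W ≤ S)) (Set.toFinite _),
      ← Nat.card_coe_set_eq, ← Nat.card_coe_set_eq] at h1
    rw [← h1]
    exact congrArg₂ (· - ·) hP₁c hWcard
  have hLp : Nat.card L = p + 1 := by
    refine Nat.eq_of_mul_eq_mul_right (show 0 < p ^ 2 - p from ?_) (hcount.trans ?_)
    · have : p ^ 1 < p ^ 2 := Nat.pow_lt_pow_right hp.one_lt (by norm_num)
      rw [pow_one] at this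
      omega
    · rw [Nat.mul_sub, show (p + 1) * p ^ 2 = p ^ 3 + p * p by ring,
        show (p + 1) * p = p * p + p by ring]
      omega
  rwa [hLp] at hKL

end NonTI

end Cfsg.Agent.Lib.OddFitting.Meet
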