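import Cfsg.Agent.Lib.OddFitting.MeetSylow
import Cfsg.Agent.Lib.Coprime.Commutator
import Cfsg.Agent.S1421

/-!
# BG 15.7: the exponent of `M / M_F`
-/

set_option autoImplicit false
set_option linter.style.haveILetI false
set_option linter.unusedSectionVars false

open scoped Pointwise commutatorElement

namespace Cfsg.Agent.Lib.OddFitting.Meet

open Cfsg.Agent.Lib.OddOrder Cfsg.Agent.Lib.OddOrder.MinSimple Cfsg.Agent.Lib.OddTau
  Cfsg.Agent.Lib.OddTau.Basic Cfsg.Agent.Lib.OddFitting.Hyps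
  Cfsg.Agent.Lib.OddFitting.NotNilpotent Cfsg.Agent.Lib.OddOrder.Interface.BG14

universe u

variable {G : Type u} [Group G] [Finite G] {M : Subgroup G} {g : G}

/-- `a ^ (q - 1)` centralizes a normalized element of order `q`. -/
theorem pow_sub_one_commute {q : ℕ} [hq : Fact q.Prime] {z a : G} (hz : orderOf z = q)
    (ha : a ∈ Subgroup.normalizer (Subgroup.zpowers z : Set G)) :
    Commute (a ^ (q - 1)) z := by
  set W := Subgroup.zpowers z with hW
  have hc : Nat.card W = q := by rw [hW, Nat.card_zpowers, hz]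
  haveI : IsCyclic W := isCyclic_of_prime_card hc
  haveI : NeZero (Nat.card W) := ⟨Nat.card_pos.ne'⟩
  have h1 : (W.normalizerMonoidHom ⟨a, ha⟩) ^ (q - 1) = 1 := by
    apply (IsCyclic.mulAutMulEquiv W).injective
    rw [map_pow, map_one, show q - 1 = (Nat.card W).totient by rw [hc, Nat.totient_prime hq.out],
      ← ZMod.card_units_eq_totient]
    exact pow_card_eq_one
  rw [← map_pow] at h1
  have h2 := congrArg Subtype.val (DFunLike.congr_fun h1 (⟨z, Subgroup.mem_zpowers z⟩ : W))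
  exact mul_inv_eq_iff_eq_mul.1 h2

namespace NonTI

variable (h : NonTI M g) {K U : Subgroup G}

include h

theorem part_ne_bot {q : ℕ} [hq : Fact q.Prime] (hd : q ∣ Nat.card (Cfsg.sigmaCore M)) :
    part q M ≠ ⊥ := fun e => hq.out.ne_one (Nat.dvd_one.1 (by
      simpa [e] using h.dvd_part hd))

theorem center_ne_bot {q : ℕ} [hq : Fact q.Prime] (hd : q ∣ Nat.card (Cfsg.sigmaCore M)) :
    part q M ⊓ Subgroup.centralizer (part q M : Set G) ≠ ⊥ := by
  intro e
  set S := part q M with hS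
  haveI : Nontrivial S := (Subgroup.nontrivial_iff_ne_bot _).2 (h.part_ne_bot hd)
  haveI := (part_isPGroup q M).center_nontrivial
  obtain ⟨⟨z, hz⟩, hne⟩ := exists_ne (1 : Subgroup.center S)
  refine hne (Subtype.ext (Subtype.ext ?_))
  have h1 : (z : G) ∈ S ⊓ Subgroup.centralizer (S : Set G) :=
    ⟨z.2, Subgroup.mem_centralizer_iff.2 fun y hy =>
      congrArg Subtype.val (Subgroup.mem_center_iff.1 hz ⟨y, hy⟩)⟩
  rw [e, Subgroup.mem_bot] at h1
  exact h1

variable {p : ℕ} {x : G} {N : Subgroup G} (e : Escape M g p x N)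

include e

theorem center_cyclic (hp : p.Prime) (hab : ¬ IsMulCommutative (Cfsg.sigmaCore M)) :
    IsCyclic ↥(part p M ⊓ Subgroup.centralizer (part p M : Set G)) := by
  haveI := Fact.mk hp
  set S := part p M with hS
  set W := S ⊓ Subgroup.centralizer (S : Set G) with hW
  by_contra hnc
  have hWp : IsPGroup p W := (part_isPGroup p M).to_le inf_le_left
  have hd : p ∣ Nat.card W :=
    SigmaEmbedding.ne_one_of_pgroup hWp fun e0 => hnc (e0 ▸ inferInstance)
  obtain ⟨B, -, hB, hBc⟩ := PGroups.exists_normal_elemAb_sq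
    (ne_two_of_dvd h.base.min (hd.trans W.card_subgroup_dvd_card)) hWp hnc
  set A := B.map W.subtype with hA
  have hAc : Nat.card A = p ^ 2 := by
    rw [hA, Subgroup.card_map_of_injective (Subgroup.subtype_injective _), hBc]
  have hAW : A ≤ W := Subgroup.map_subtype_le _
  have hAN : A ≤ N := fun a ha => e.le (Subgroup.mem_centralizer_iff.2 fun b hb => by
    rw [Set.mem_singleton_iff.1 hb]
    exact Subgroup.mem_centralizer_iff.1 (hAW ha).2 x (h.x_mem_part e hp))
  have hctx : Ctx N p A := ⟨h.base.min, e.max, e.tau, hAN, PGroups.elemAb_map _ hB, hAc⟩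
  refine h.part_not_comm e hp hab (h.comm_of_nilpotent e ?_ (part_isPGroup p M).isNilpotent)
  refine le_inf ((part_le p M).trans (sigmaCore_le M)) (le_trans ?_ hctx.centralizer_le)
  rw [Subgroup.le_centralizer_iff]
  exact hAW.trans inf_le_right

/-- Each prime of `M_σ` has a central subgroup of that order normalized by `M`. -/
theorem exists_line (hp : p.Prime) (hab : ¬ IsMulCommutative (Cfsg.sigmaCore M)) {q : ℕ}
    (hq : q.Prime) (hd : q ∣ Nat.card (Cfsg.sigmaCore M)) :
    ∃ z ∈ part q M ⊓ Subgroup.centralizer (part q M : Set G),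
      orderOf z = q ∧ M ≤ Subgroup.normalizer (Subgroup.zpowers z : Set G) := by
  haveI := Fact.mk hq
  set S := part q M with hS
  set W := S ⊓ Subgroup.centralizer (S : Set G) with hW
  haveI hWc : IsCyclic W := by
    by_cases hqp : q = p
    · subst hqp; exact h.center_cyclic e hp hab
    · haveI := h.part_cyclic e hp hab hq hqp
      exact Subgroup.isCyclic_of_le (inf_le_left : W ≤ S)
  obtain ⟨z, hz⟩ := exists_prime_orderOf_dvd_card' (G := W) q
    (SigmaEmbedding.ne_one_of_pgroup ((part_isPGroup q M).to_le inf_le_left) (h.center_ne_bot hd))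
  have hzo : orderOf (z : G) = q := by rw [Subgroup.orderOf_coe, hz]
  refine ⟨z, z.2, hzo, fun m hm => Coprime.mem_normalizer_of_conj_smul_eq ?_⟩
  have hWn : M ≤ Subgroup.normalizer (W : Set G) :=
    Coprime.le_normalizer_inf (part_normal q M)
      ((part_normal q M).trans (Fitting.normalizer_le_normalizer_centralizer _))
  have hzW : Subgroup.zpowers (z : G) ≤ W := Subgroup.zpowers_le.2 z.2
  exact Cyclic.eq_of_card_eq_of_isCyclic (W := W)
    ((Subgroup.pointwise_smul_le_pointwise_smul_iff.2 hzW).trans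
      (Coprime.conj_smul_eq_self_of_mem_normalizer (hWn hm)).le) hzW
    (Coprime.card_conj_smul m _)

omit e in
theorem compl_of_U_bot (hKU : Cfsg.IsSigmaDecomposition M K U) (hU : U = ⊥) :
    Cfsg.IsComplIn K (Cfsg.sigmaCore M) M := by
  have := Decomp.U_sup_K_compl h.base.min h.max hKU
  rwa [hU, bot_sup_eq] at this

omit e in
theorem fixed_regular (h32 : CentralizingElement G) (hKU : Cfsg.IsSigmaDecomposition M K U)
    (hK : K = ⊥) {E : Subgroup G} (hE : Cfsg.IsComplIn E (Cfsg.sigmaCore M) M) :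
    ∀ a ∈ E, a ≠ 1 → (∀ q : ℕ, q.Prime → q ∣ orderOf a → q ∈ Cfsg.tau1 M ∪ Cfsg.tau3 M) →
      Cfsg.sigmaCore M ⊓ Subgroup.centralizer ({a} : Set G) = ⊥ := by
  intro a ha ha1 hτ
  by_contra hne
  obtain ⟨y, hy, hy1⟩ := (Subgroup.bot_or_exists_ne_one _).resolve_left hne
  obtain ⟨q, hq, hqa⟩ := Nat.exists_prime_and_dvd fun e => ha1 (orderOf_eq_one_iff.1 e)
  have hτq := hτ q hq hqa
  have hκ : ∀ r, r ∉ Cfsg.kappa M := fun r hr => by
    refine hKU.hall.2.2 r hr.1 hr ?_
    rw [hK, Subgroup.relIndex_bot_left]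
    exact hr.2.1
  rcases h32 M h.max y hy.1 hy1 a ⟨hE.1 ha, Subgroup.mem_centralizer_iff.2 fun b hb => by
      rw [Set.mem_singleton_iff.1 hb]
      exact (Subgroup.mem_centralizer_iff.1 hy.2 a rfl).symm⟩ ha1
    (fun r hr hd => (hτ r hr hd).elim (fun h => h.2.1) (fun h => h.2.1)) with hk | h2
  · exact hκ q (hk q hq hqa)
  · exact (h2 q hq hqa).2.2.2 (hτq.elim (fun h => h.2.2.2.2) (fun h => h.2.2.2))

omit e in
/-- A bound on the exponent of a complement bounds that of `M / M_F`. -/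
theorem exponent_dvd_of_compl {E : Subgroup G} (hE : Cfsg.IsComplIn E (Cfsg.sigmaCore M) M) {n : ℕ}
    (hn : ∀ a ∈ E, a ^ n = 1) : Monoid.exponent (↥M ⧸ Cfsg.fittingHall ↥M) ∣ n := by
  rw [Monoid.exponent_dvd_iff_forall_pow_eq_one]
  intro m
  induction m using QuotientGroup.induction_on with
  | H m =>
    obtain ⟨a, ha, b, hb, hab⟩ := hE.2.2.2 m m.2
    rw [← h.fittingHall_eq] at hb
    obtain ⟨b', hb', rfl⟩ := hb
    have hm : m = ⟨a, hE.1 ha⟩ * b' := Subtype.ext hab
    rw [hm, QuotientGroup.mk_mul, (QuotientGroup.eq_one_iff b').2 hb', mul_one, ← QuotientGroup.mk_pow,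
      show (⟨a, hE.1 ha⟩ : M) ^ n = 1 from Subtype.ext (hn a ha), QuotientGroup.mk_one]

/-- `M / M_F` has exponent dividing `q - 1` when `K = 1`. -/
theorem exponent_K_bot (h32 : CentralizingElement G) (hp : p.Prime)
    (hab : ¬ IsMulCommutative (Cfsg.sigmaCore M)) (hKU : Cfsg.IsSigmaDecomposition M K U)
    (hK : K = ⊥) {q : ℕ} (hq : q.Prime) (hd : q ∣ Nat.card (Cfsg.sigmaCore M)) :
    Monoid.exponent (↥M ⧸ Cfsg.fittingHall ↥M) ∣ q - 1 := by
  haveI := Fact.mk hq
  obtain ⟨E, hE⟩ := MaximalBasics.exists_compl h.base.min h.max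
  obtain ⟨-, E₀, hE₀, hexp, hreg⟩ :=
    Cfsg.Agent.S1421.result h.base.min M h.max E hE (h.fixed_regular h32 hKU hK hE)
  obtain ⟨z, hzW, hzo, hzn⟩ := h.exists_line e hp hab hq hd
  have h0 : Monoid.exponent E₀ ∣ q - 1 := by
    rw [Monoid.exponent_dvd_iff_forall_pow_eq_one]
    rintro ⟨a, ha⟩
    refine Subtype.ext ?_
    show a ^ (q - 1) = 1
    by_contra hne
    have hzc : z ∈ Cfsg.sigmaCore M ⊓ Subgroup.centralizer ({a ^ (q - 1)} : Set G) :=
      ⟨part_le q M hzW.1, Subgroup.mem_centralizer_iff.2 fun b hb => by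
        rw [Set.mem_singleton_iff.1 hb]
        exact (pow_sub_one_commute hzo (hzn (hE.1 (hE₀ ha)))).eq⟩
    rw [hreg _ (pow_mem ha _) hne, Subgroup.mem_bot] at hzc
    exact hq.ne_one (by rw [← hzo, hzc, orderOf_one])
  refine h.exponent_dvd_of_compl hE fun a ha => ?_
  have := Monoid.exponent_dvd_iff_forall_pow_eq_one.1 (hexp ▸ h0) (⟨a, ha⟩ : E)
  exact congrArg Subtype.val this

omit e in
/-- `U = 1` when `K ≠ 1`. -/
theorem U_eq_bot (hRU : RegularOnU G) (hRE : RegularExponent G)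
    (hKU : Cfsg.IsSigmaDecomposition M K U) (hK : K ≠ ⊥) : U = ⊥ := by
  have hG := h.base.min
  have hM := h.max
  obtain ⟨U₀, hU₀, hexp, hfix⟩ := hRE M K U hM hKU
  have hc : U ≤ Subgroup.centralizer (Cfsg.sigmaCore M : Set G) :=
    OddOrder.Basic.le_centralizer_of_nilpotent (Cores.fittingOf_isNilpotent M)
      ((Star.U_le_derived hG hRU hM hKU hK).trans h.derived_le_fitting) h.sigma_le_fitting
      (Decomp.coprime_U_sigma hG hM hKU)
  obtain ⟨y, hy, hy1⟩ :=
    (Subgroup.bot_or_exists_ne_one _).resolve_left (Decomp.sigmaCore_ne_bot hG hM)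
  have h1 : U₀ = ⊥ := (Subgroup.eq_bot_iff_forall _).2 fun u hu =>
    hfix u hu ⟨Decomp.U_le hKU (hU₀ hu), y, hy, hy1,
      (Subgroup.mem_centralizer_iff.1 (hc (hU₀ hu)) y hy).symm⟩
  subst h1
  refine (Subgroup.eq_bot_iff_forall _).2 fun u hu => ?_
  have h2 : Monoid.exponent U = 1 := hexp.symm.trans Monoid.exp_eq_one_of_subsingleton
  have h3 := Monoid.pow_exponent_eq_one (⟨u, hu⟩ : U)
  rw [h2, pow_one] at h3
  exact congrArg Subtype.val h3

omit e in
/-- `K` acts faithfully on every primary part of `M_σ`. -/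
theorem faithful (hSN : SylowNotInStar G) (hKU : Cfsg.IsSigmaDecomposition M K U) {q : ℕ}
    (hq : q.Prime) (hd : q ∣ Nat.card (Cfsg.sigmaCore M)) {k : G} (hk : k ∈ K)
    (hc : k ∈ Subgroup.centralizer (part q M : Set G)) : k = 1 := by
  haveI := Fact.mk hq
  by_contra hk1
  have hK : K ≠ ⊥ := fun e0 => hk1 (Subgroup.mem_bot.1 (e0 ▸ hk))
  have hle : part q M ≤ Cfsg.sigmaCore M ⊓ Subgroup.centralizer (K : Set G) := by
    rw [← h.base.prime M K h.max hKU.hall hK k hk hk1]
    refine le_inf (part_le q M) fun y hy => Subgroup.mem_centralizer_iff.2 fun b hb => ?_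
    rw [Set.mem_singleton_iff.1 hb]
    exact (Subgroup.mem_centralizer_iff.1 hc y hy).symm
  obtain ⟨P⟩ : Nonempty (Sylow q (Cfsg.sigmaCore M)) := inferInstance
  exact hSN M K h.max hKU.hall hK q hq ((h.dvd_part hd).trans (Subgroup.card_dvd_of_le hle)) P
    ((h.pgroup_le_part (Subgroup.map_subtype_le _) (P.2.map _)).trans hle)

/-- The exponent bound at the primes other than `p`, when `K ≠ 1`. -/
theorem pow_sub_one_of_ne (hSN : SylowNotInStar G) (hp : p.Prime)
    (hab : ¬ IsMulCommutative (Cfsg.sigmaCore M)) (hKU : Cfsg.IsSigmaDecomposition M K U)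
    {q : ℕ} (hq : q.Prime) (hd : q ∣ Nat.card (Cfsg.sigmaCore M)) (hqp : q ≠ p) :
    ∀ k ∈ K, k ^ (q - 1) = 1 := by
  intro k hk
  haveI := Fact.mk hq
  haveI hc := h.part_cyclic e hp hab hq hqp
  haveI : IsMulCommutative (part q M) := ⟨⟨(IsCyclic.commGroup (α := part q M)).mul_comm⟩⟩
  set a := k ^ (q - 1) with ha
  have haK : a ∈ K := pow_mem hk _
  have hKM := Decomp.K_le hKU
  refine h.faithful hSN hKU hq hd haK (Coprime.le_centralizer_of_prime_order (A := Subgroup.zpowers a)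
    (Subgroup.zpowers_le.2 ((part_normal q M) (hKM haK))) ?_ ?_ (Subgroup.mem_zpowers a))
  · exact Nat.Coprime.coprime_dvd_left (Subgroup.card_dvd_of_le (Subgroup.zpowers_le.2 haK))
      (Nat.Coprime.coprime_dvd_right (Subgroup.card_dvd_of_le (part_le q M))
        (Decomp.coprime_kappa hKU.hall))
  · intro v hv hvo b hb
    have hvq : orderOf v = q := by
      obtain ⟨j, hj⟩ := IsPGroup.iff_orderOf.1 (part_isPGroup q M) ⟨v, hv⟩
      rw [Subgroup.orderOf_mk] at hj
      rw [hj] at hvo ⊢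
      rw [Nat.Prime.eq_one_of_pow hvo, pow_one]
    have hn : k ∈ Subgroup.normalizer (Subgroup.zpowers v : Set G) :=
      Coprime.mem_normalizer_of_conj_smul_eq (Cyclic.eq_of_card_eq_of_isCyclic (W := part q M)
        ((Subgroup.pointwise_smul_le_pointwise_smul_iff.2 (Subgroup.zpowers_le.2 hv)).trans
          (Coprime.conj_smul_eq_self_of_mem_normalizer (part_normal q M (hKM hk))).le)
        (Subgroup.zpowers_le.2 hv) (Coprime.card_conj_smul k _))
    obtain ⟨i, rfl⟩ := hb
    exact ((pow_sub_one_commute hvq hn).zpow_left i).eq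

end NonTI

end Cfsg.Agent.Lib.OddFitting.Meet
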