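import Cfsg.Agent.Lib.OddFitting.Structure
import Cfsg.Agent.Lib.OddOrder.Cyclic

/-!
# BG 15: `K*` inside `M_F` and `M''` (the content of S1364 and S1365)
-/

set_option autoImplicit false
set_option linter.style.haveILetI false
set_option linter.unusedSectionVars false

open scoped Pointwise commutatorElement

namespace Cfsg.Agent.Lib.OddFitting.Star

open Cfsg.Agent.Lib.OddOrder Cfsg.Agent.Lib.OddOrder.MinSimple Cfsg.Agent.Lib.OddTau
  Cfsg.Agent.Lib.OddTau.Basic Cfsg.Agent.Lib.OddFitting.Hyps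
  Cfsg.Agent.Lib.OddFitting.NotNilpotent

universe u

variable {G : Type u} [Group G] [Finite G] {M K U : Subgroup G}

theorem star_le_fittingHall (hG : Cfsg.IsMinSimpleOddOrder G) (h29 : NilpotentOfNonKappa G)
    (hPA : PrimeAction G) (hSP : StarPrime G) (hM : IsCoatom M)
    (hKU : Cfsg.IsSigmaDecomposition M K U) : kStar M K ≤ Cfsg.fittingHallOf M := by
  by_cases hne : Cfsg.fittingHallOf M = Cfsg.sigmaCore M
  · rw [hne]; exact inf_le_left
  · have S := Structure.setup hG h29 hPA hSP hM hKU hne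
    exact S.star_le_sylow.trans S.sylow_le_fittingHall

/-- `M_F` contains a Sylow `r`-subgroup of `M_σ` for some prime `r` dividing `|K*|`. -/
theorem exists_sylow_le (hG : Cfsg.IsMinSimpleOddOrder G) (h29 : NilpotentOfNonKappa G)
    (hPA : PrimeAction G) (hSP : StarPrime G) (hM : IsCoatom M)
    (hKU : Cfsg.IsSigmaDecomposition M K U) (hne : kStar M K ≠ ⊥) :
    ∃ r : ℕ, r.Prime ∧ r ∣ Nat.card (kStar M K) ∧ ∃ S : Sylow r ↥(Cfsg.sigmaCore M),
      (S : Subgroup ↥(Cfsg.sigmaCore M)).map (Cfsg.sigmaCore M).subtype ≤ Cfsg.fittingHallOf M := by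
  by_cases he : Cfsg.fittingHallOf M = Cfsg.sigmaCore M
  · obtain ⟨r, hr, hd⟩ := Nat.exists_prime_and_dvd (mt Subgroup.card_eq_one.1 hne)
    haveI := Fact.mk hr
    obtain ⟨S⟩ : Nonempty (Sylow r ↥(Cfsg.sigmaCore M)) := inferInstance
    exact ⟨r, hr, hd, S, le_of_le_of_eq (Subgroup.map_subtype_le _) he.symm⟩
  · have S := Structure.setup hG h29 hPA hSP hM hKU he
    haveI := Fact.mk S.star_prime
    obtain ⟨P, hP⟩ := Decomp.exists_sylow_eq S.sylow_le_sigma
      (CharP.isPGroup_pCoreOf _ _) S.sylow_hall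
    exact ⟨_, S.star_prime, dvd_rfl, P, hP.le.trans S.sylow_le_fittingHall⟩

theorem not_isCyclic_fittingHall (hG : Cfsg.IsMinSimpleOddOrder G) (h29 : NilpotentOfNonKappa G)
    (hPA : PrimeAction G) (hSP : StarPrime G) (hSN : SylowNotInStar G) (hM : IsCoatom M)
    (hKU : Cfsg.IsSigmaDecomposition M K U) (hK1 : K ≠ ⊥) (hne : kStar M K ≠ ⊥) :
    ¬ IsCyclic (Cfsg.fittingHallOf M) := by
  intro hc
  haveI := hc
  obtain ⟨r, hr, hd, P, hP⟩ := exists_sylow_le hG h29 hPA hSP hM hKU hne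
  haveI := Fact.mk hr
  set F := Cfsg.fittingHallOf M with hF
  set R := (P : Subgroup ↥(Cfsg.sigmaCore M)).map (Cfsg.sigmaCore M).subtype with hR
  have hRp : IsPGroup r R := P.2.map _
  haveI : IsCyclic R := isCyclic_of_injective (Subgroup.inclusion hP) (Subgroup.inclusion_injective hP)
  have hKR : K ≤ Subgroup.normalizer (R : Set G) := fun k hk => by
    refine Coprime.mem_normalizer_of_conj_smul_eq (Cyclic.eq_of_card_eq_of_isCyclic (W := F) ?_ hP
      (Coprime.card_conj_smul k R))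
    exact (Subgroup.pointwise_smul_le_pointwise_smul_iff.2 hP).trans
      (Coprime.conj_smul_eq_self_of_mem_normalizer
        (OddOrder.Basic.fittingHallOf_normal M (hKU.hall.1 hk))).le
  have hcop : (Nat.card K).Coprime (Nat.card R) :=
    (Decomp.coprime_kappa hKU.hall).coprime_dvd_right (Subgroup.card_dvd_of_le (Subgroup.map_subtype_le _))
  refine hSN M K hM hKU.hall hK1 r hr hd P (le_inf (Subgroup.map_subtype_le _)
    (Subgroup.le_centralizer_iff.1 (Coprime.le_centralizer_of_prime_order hKR hcop ?_)))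
  intro v hv hvo a ha
  obtain ⟨z, hz⟩ := exists_prime_orderOf_dvd_card' (G := kStar M K) r hd
  have hzo : orderOf (z : G) = r := by rw [Subgroup.orderOf_coe, hz]
  have hvr : orderOf v = r := by
    obtain ⟨n, hn⟩ := IsPGroup.iff_orderOf.1 hRp ⟨v, hv⟩
    rw [Subgroup.orderOf_mk] at hn
    rw [hn] at hvo ⊢
    rw [hvo.eq_one_of_pow, pow_one]
  have heq : Subgroup.zpowers v = Subgroup.zpowers (z : G) :=
    Cyclic.eq_of_card_eq_of_isCyclic (W := F) (Subgroup.zpowers_le.2 (hP hv))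
      (Subgroup.zpowers_le.2 (star_le_fittingHall hG h29 hPA hSP hM hKU z.2))
      (by rw [Nat.card_zpowers, Nat.card_zpowers, hvr, hzo])
  have hvs : v ∈ kStar M K :=
    Subgroup.zpowers_le.2 z.2 (heq ▸ Subgroup.mem_zpowers v)
  exact Subgroup.mem_centralizer_iff.1 hvs.2 a ha

/-- BG 15.2, S1364. -/
theorem kappa_star (hG : Cfsg.IsMinSimpleOddOrder G) (h29 : NilpotentOfNonKappa G)
    (hPA : PrimeAction G) (hSP : StarPrime G) (hSN : SylowNotInStar G) (hNB : StarNeBot G)
    (hSC : StarCyclic G) (hM : IsCoatom M) (hKU : Cfsg.IsSigmaDecomposition M K U) (hK1 : K ≠ ⊥) :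
    IsCyclic ↥(Cfsg.sigmaCore M ⊓ Subgroup.centralizer (K : Set G)) ∧
      (Cfsg.sigmaCore M ⊓ Subgroup.centralizer (K : Set G)) ≠ ⊥ ∧
      (Cfsg.sigmaCore M ⊓ Subgroup.centralizer (K : Set G)) ≤ Cfsg.fittingHallOf M ∧
      ¬ IsCyclic (Cfsg.fittingHallOf M) := by
  have hne := hNB M K hM hKU.cyclic hKU.hall
  exact ⟨hSC M K U hM hKU hK1, hne, star_le_fittingHall hG h29 hPA hSP hM hKU,
    not_isCyclic_fittingHall hG h29 hPA hSP hSN hM hKU hK1 hne⟩

theorem U_le_derived (hG : Cfsg.IsMinSimpleOddOrder G) (hRU : RegularOnU G) (hM : IsCoatom M)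
    (hKU : Cfsg.IsSigmaDecomposition M K U) (hK1 : K ≠ ⊥) : U ≤ ⁅M, M⁆ := by
  obtain ⟨k, hk, hk1⟩ := (Subgroup.bot_or_exists_ne_one K).resolve_left hK1
  have hfix : U ⊓ Subgroup.centralizer (K : Set G) = ⊥ := le_bot_iff.1
    (le_of_le_of_eq (inf_le_inf_left U (Subgroup.centralizer_le (Set.singleton_subset_iff.2 hk)))
      (hRU M K U hM hKU k hk hk1))
  haveI := hKU.cyclic
  have h := Coprime.commutator_sup_centralizer hKU.normal (Decomp.coprime_K_U hG hM hKU)
    (Or.inl inferInstance)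
  rw [hfix, sup_bot_eq] at h
  exact h.ge.trans (Subgroup.commutator_mono (Decomp.U_le hKU) (Decomp.K_le hKU))

theorem derived_eq (hG : Cfsg.IsMinSimpleOddOrder G) (hRU : RegularOnU G) (hM : IsCoatom M)
    (hKU : Cfsg.IsSigmaDecomposition M K U) (hK1 : K ≠ ⊥) : ⁅M, M⁆ = U ⊔ Cfsg.sigmaCore M :=
  le_antisymm (Decomp.derived_le_U_sup hKU)
    (sup_le (U_le_derived hG hRU hM hKU hK1) (BetaCore.sigmaCore_le_derived hG hM))

/-- `K* ≤ M''`. -/
theorem star_le_second_derived (hG : Cfsg.IsMinSimpleOddOrder G) (hRU : RegularOnU G)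
    (hM : IsCoatom M) (hKU : Cfsg.IsSigmaDecomposition M K U) (hK1 : K ≠ ⊥) :
    kStar M K ≤ ⁅⁅M, M⁆, ⁅M, M⁆⁆ := by
  set T := ⁅⁅M, M⁆, ⁅M, M⁆⁆ with hT
  set N := T ⊓ Cfsg.sigmaCore M with hN
  have hσM := sigmaCore_le M
  have hTn : M ≤ Subgroup.normalizer (T : Set G) :=
    Coprime.left_le_normalizer_commutator M M |> fun h => fun m hm =>
      Subgroup.mem_normalizer_fintype fun x hx => by
        have h1 : T.map (MulAut.conj m).toMonoidHom ≤ T := by
          rw [hT, Subgroup.map_commutator]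
          refine Subgroup.commutator_mono ?_ ?_ <;>
          · rintro _ ⟨y, hy, rfl⟩
            exact (Subgroup.mem_normalizer_iff.1 (h hm) y).1 hy
        exact h1 (Subgroup.mem_map_of_mem _ hx)
  have hNn : M ≤ Subgroup.normalizer (N : Set G) :=
    Coprime.le_normalizer_inf hTn (le_normalizer_sigmaCore M)
  have hNM : N ≤ M := inf_le_right.trans hσM
  haveI : (N.subgroupOf M).Normal := (Subgroup.normal_subgroupOf_iff_le_normalizer hNM).2 hNn
  have hU' := U_le_derived hG hRU hM hKU hK1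
  have hσ' := BetaCore.sigmaCore_le_derived hG hM
  have hUM := Decomp.U_le hKU
  have hKM := Decomp.K_le hKU
  set V := Quot.img M N (Cfsg.sigmaCore M) with hV
  haveI : IsMulCommutative V := by
    rw [← Subgroup.le_centralizer_iff_isMulCommutative]
    exact (Quot.le_centralizer_img_iff hσM hσM).2 (le_inf (Subgroup.commutator_mono hσ' hσ')
      (MaximalBasics.derived_le_self _))
  have hAV : Quot.img M N (U ⊔ K) ≤ Subgroup.normalizer (V : Set _) :=
    Quot.le_normalizer_img ((sup_le hUM hKM).trans (le_normalizer_sigmaCore M))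
  have hcop : (Nat.card (Quot.img M N (U ⊔ K))).Coprime (Nat.card V) := by
    refine ((Nat.Coprime.coprime_dvd_left (Quot.card_img_dvd (sup_le hUM hKM)) ?_)).coprime_dvd_right
      (Quot.card_img_dvd hσM)
    refine Nat.coprime_of_dvd fun q hq a b => ?_
    exact TauTwoAbelian.not_sigma_of_dvd hG hM (Decomp.U_sup_K_compl hG hM hKU) hq a
      (mem_sigma_of_dvd hq b)
  have h0 := Coprime.centralizer_inf_commutator_eq_bot hAV hcop
  have hVA : ⁅V, Quot.img M N (U ⊔ K)⁆ = V := by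
    rw [hV, ← Quot.img_commutator hσM (sup_le hUM hKM),
      (Cfsg.Agent.S1426.result hG M hM _ (Decomp.U_sup_K_compl hG hM hKU)).2.1]
  rw [hVA, inf_eq_left.2 inf_le_left] at h0
  have hle : Quot.img M N (kStar M K) ≤ ⊥ := by
    rw [← h0, Quot.img_sup hUM hKM]
    refine le_inf (Quot.img_mono inf_le_left) (Subgroup.le_centralizer_iff.1 (sup_le ?_ ?_))
    · refine le_trans ((Quot.le_centralizer_img_iff hσM hUM).2 (le_inf
        (Subgroup.commutator_mono hσ' hU')
        (Coprime.commutator_le_of_le_normalizer (hUM.trans (le_normalizer_sigmaCore M)))))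
        (Subgroup.centralizer_le (SetLike.coe_subset_coe.2 (Quot.img_mono inf_le_left)))
    · refine Subgroup.le_centralizer_iff.1 ?_
      rintro _ ⟨x, hx, rfl⟩
      refine Subgroup.mem_centralizer_iff.2 ?_
      rintro _ ⟨y, hy, rfl⟩
      rw [← map_mul, ← map_mul]
      exact congrArg _ (Subtype.ext (Subgroup.mem_centralizer_iff.1 hx.2 y hy))
  exact ((Quot.img_eq_bot_iff (inf_le_left.trans hσM)).1 (le_bot_iff.1 hle)).trans inf_le_left

end Cfsg.Agent.Lib.OddFitting.Star
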