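import Cfsg.Agent.Lib.OddFitting.Meet
import Cfsg.Agent.Lib.OddFitting.Star
import Cfsg.Agent.Lib.OddTau.RegularLocal
import Cfsg.Agent.Lib.OddTau.NonabelianSylow
import Cfsg.Agent.Lib.OddTau.Abelian
import Cfsg.Agent.Lib.OddOrder.CyclicSylow
import Cfsg.Agent.Lib.Transfer.Frobenius

/-!
# BG 15.7: the Sylow subgroups of `M_σ`
-/

set_option autoImplicit false
set_option linter.style.haveILetI false
set_option linter.unusedSectionVars false

open scoped Pointwise commutatorElement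

namespace Cfsg.Agent.Lib.OddFitting.Meet

open Cfsg.Agent.Lib.OddOrder Cfsg.Agent.Lib.OddOrder.MinSimple Cfsg.Agent.Lib.OddTau
  Cfsg.Agent.Lib.OddTau.Basic Cfsg.Agent.Lib.OddFitting.Hyps
  Cfsg.Agent.Lib.OddFitting.NotNilpotent Cfsg.Agent.Lib.OddOrder.Interface.BG14

universe u

variable {G : Type u} [Group G] [Finite G] {M : Subgroup G} {g : G}

/-- The `r`-part of `M_σ`. -/
abbrev part (r : ℕ) (M : Subgroup G) : Subgroup G := Cfsg.pCoreOf r (Cfsg.sigmaCore M)

theorem part_le (r : ℕ) (M : Subgroup G) : part r M ≤ Cfsg.sigmaCore M := CharP.pCoreOf_le _ _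

theorem part_isPGroup (r : ℕ) (M : Subgroup G) : IsPGroup r (part r M) :=
  CharP.isPGroup_pCoreOf _ _

theorem part_normal (r : ℕ) (M : Subgroup G) : M ≤ Subgroup.normalizer (part r M : Set G) :=
  (le_normalizer_sigmaCore M).trans (CharP.normalizer_le_normalizer_map_char _)

namespace NonTI

variable (h : NonTI M g)

include h

theorem nilpotent : Group.IsNilpotent (Cfsg.sigmaCore M) := by
  obtain ⟨p, x, N, hp, e⟩ := h.exists_escape
  exact h.isNilpotent_sigmaCore e hp

theorem fittingHall_eq : Cfsg.fittingHallOf M = Cfsg.sigmaCore M :=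
  Decomp.fittingHallOf_eq_of_isNilpotent h.base.min h.max h.nilpotent

theorem sigma_le_fitting_self : Cfsg.sigmaCore M ≤ Cfsg.fittingOf (Cfsg.sigmaCore M) :=
  Fitting.le_fittingOf le_rfl Subgroup.le_normalizer h.nilpotent

theorem pgroup_le_part {r : ℕ} [Fact r.Prime] {Y : Subgroup G} (hY : Y ≤ Cfsg.sigmaCore M)
    (hYp : IsPGroup r Y) : Y ≤ part r M :=
  Fitting.le_pCoreOf_of_fitting (hY.trans h.sigma_le_fitting_self) hYp

theorem pgroup_le_part' {r : ℕ} [Fact r.Prime] (hr : r ∈ Cfsg.sigma M) {Y : Subgroup G}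
    (hY : Y ≤ M) (hYp : IsPGroup r Y) : Y ≤ part r M :=
  h.pgroup_le_part (pgroup_le_sigmaCore h.base.min h.max hr hYp hY) hYp

theorem part_commute {r q : ℕ} [Fact r.Prime] [Fact q.Prime] (hrq : r ≠ q) :
    part r M ≤ Subgroup.centralizer (part q M : Set G) :=
  Fitting.pCoreOf_commute hrq _

theorem dvd_part {r : ℕ} [Fact r.Prime] (hd : r ∣ Nat.card (Cfsg.sigmaCore M)) :
    r ∣ Nat.card (part r M) := by
  obtain ⟨z, hz⟩ := exists_prime_orderOf_dvd_card' (G := Cfsg.sigmaCore M) r hd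
  have hzo : orderOf (z : G) = r := by rw [Subgroup.orderOf_coe, hz]
  have hle := h.pgroup_le_part (Subgroup.zpowers_le.2 z.2)
    (IsPGroup.of_card (p := r) (n := 1) (by rw [Nat.card_zpowers, hzo, pow_one]))
  exact (dvd_of_eq hzo.symm).trans (Subgroup.orderOf_dvd_natCard _ (hle (Subgroup.mem_zpowers _)))

variable {p : ℕ} {x : G} {N : Subgroup G} (e : Escape M g p x N)

include e

theorem dvd_meet : p ∣ Nat.card (meet M g) := e.order ▸ Subgroup.orderOf_dvd_natCard _ e.mem

theorem p_sigma (hp : p.Prime) : p ∈ Cfsg.sigma M := h.mem_sigma hp (h.dvd_meet e)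

theorem x_mem_part (hp : p.Prime) : x ∈ part p M :=
  haveI := Fact.mk hp
  h.pgroup_le_part (Subgroup.zpowers_le.2 (h.meet_le_sigma e.mem))
    (IsPGroup.of_card (n := 1) (by rw [Nat.card_zpowers, e.order, pow_one]))
    (Subgroup.mem_zpowers x)

/-- The other primary parts of `M_σ` centralize `x`. -/
theorem part_le_inf (hp : p.Prime) {r : ℕ} (hr : r.Prime) (hrp : r ≠ p) :
    part r M ≤ M ⊓ N := by
  haveI := Fact.mk hp
  haveI := Fact.mk hr
  refine h.le_meet_N e ((part_le r M).trans (sigmaCore_le M))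
    ((h.part_commute hrp).trans (Subgroup.centralizer_le ?_))
  exact Set.singleton_subset_iff.2 (h.x_mem_part e hp)

omit e in
theorem not_beta {r : ℕ} (hr : r.Prime) : r ∉ Cfsg.beta M := by
  intro hβ
  have hG := h.base.min
  have hM := h.max
  haveI := Fact.mk hr
  have hσ := AlphaCore.alpha_subset_sigma hG hM hβ.1
  obtain ⟨p, x, N, hp, e⟩ := h.exists_escape
  by_cases hrp : r = p
  · subst hrp
    exact h.meet_props.2.1 r hr (h.dvd_meet e) hβ
  refine hβ.1.2 (Rank.prankLE_subgroup_iff.2 fun E hE he => ?_)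
  by_cases hE1 : E = ⊥
  · rw [hE1, Subgroup.card_bot]
    exact Nat.one_le_pow _ _ hr.pos
  have hEN : E ≤ M ⊓ N := (h.pgroup_le_part' hσ hE (PGroups.elemAb_isPGroup he)).trans
    (h.part_le_inf e hp hr hrp)
  exact Rank.prankLE_subgroup_iff.1 (h.prankLE_N e hr hEN
    (SigmaEmbedding.ne_one_of_pgroup (PGroups.elemAb_isPGroup he) hE1)) E
    (hEN.trans inf_le_right) he

omit e in
/-- `M'` is nilpotent. -/
theorem derived_nilpotent : Group.IsNilpotent (⁅M, M⁆ : Subgroup G) := by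
  obtain ⟨-, -, ⟨L, hL, hLn⟩, -, -⟩ := Cfsg.Agent.S1414.result h.base.min M h.max
  have : L = ⁅M, M⁆ := by
    refine le_antisymm hL.1 (Subgroup.relIndex_eq_one.1 ?_)
    refine Nat.eq_one_iff_not_exists_prime_dvd.2 fun r hr hd => ?_
    exact hL.2.2 r hr ⟨hr, h.not_beta hr⟩ hd
  exact this ▸ hLn

omit e in
theorem derived_le_fitting : ⁅M, M⁆ ≤ Cfsg.fittingOf M :=
  Fitting.le_fittingOf (MaximalBasics.derived_le_self M) (Chain.derived_normal M)
    h.derived_nilpotent

omit e in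
theorem sigma_le_fitting : Cfsg.sigmaCore M ≤ Cfsg.fittingOf M :=
  Fitting.le_fittingOf (sigmaCore_le M) (le_normalizer_sigmaCore M) h.nilpotent

omit e in
theorem fitting_eq : Cfsg.fittingOf M =
    Cfsg.sigmaCore M ⊔ Cfsg.piCoreOf {q | q.Prime ∧ q ∉ Cfsg.sigma M} (Cfsg.fittingOf M) :=
  le_antisymm
    ((SigmaPrimeFitting.spec h.base.min h.max).2.2.le.trans
      (sup_le_sup_right (Cores.fittingOf_le _) _))
    (sup_le h.sigma_le_fitting (piCoreOf_le _ _))

omit e in
/-- An abelian `M_σ` makes `M'` abelian. -/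
theorem second_derived_eq_bot (hab : IsMulCommutative (Cfsg.sigmaCore M)) :
    ⁅⁅M, M⁆, ⁅M, M⁆⁆ = (⊥ : Subgroup G) := by
  have hG := h.base.min
  have hM := h.max
  obtain ⟨hYc, -, -⟩ := SigmaPrimeFitting.spec hG hM
  set Y := Cfsg.piCoreOf {q | q.Prime ∧ q ∉ Cfsg.sigma M} (Cfsg.fittingOf M) with hY
  set H := Cfsg.sigmaCore M with hH
  haveI := hYc
  have hYY : Y ≤ Subgroup.centralizer (Y : Set G) := fun a ha =>
    Subgroup.mem_centralizer_iff.2 fun b hb => congrArg Subtype.val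
      ((IsCyclic.commGroup (α := Y)).mul_comm ⟨b, hb⟩ ⟨a, ha⟩)
  have hHY : H ≤ Subgroup.centralizer (Y : Set G) :=
    OddOrder.Basic.le_centralizer_of_nilpotent (Cores.fittingOf_isNilpotent M) h.sigma_le_fitting
      (piCoreOf_le _ _) (Nat.coprime_of_dvd fun q hq a b =>
        (piCoreOf_isPiGroup _ _ q hq b).2 (mem_sigma_of_dvd hq a))
  have hHH : H ≤ Subgroup.centralizer (H : Set G) :=
    Subgroup.le_centralizer_iff_isMulCommutative.2 hab
  rw [Subgroup.commutator_eq_bot_iff_le_centralizer]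
  refine h.derived_le_fitting.trans ?_
  rw [Subgroup.le_centralizer_iff]
  refine h.derived_le_fitting.trans ?_
  rw [h.fitting_eq]
  refine sup_le ?_ ?_ <;> rw [Subgroup.le_centralizer_iff] <;>
    refine sup_le ?_ ?_
  · exact hHH
  · exact Subgroup.le_centralizer_iff.1 hHY
  · exact hHY
  · exact hYY

omit e in
theorem K_eq_bot (hRU : RegularOnU G) (hNB : StarNeBot G) {K U : Subgroup G}
    (hKU : Cfsg.IsSigmaDecomposition M K U) (hab : IsMulCommutative (Cfsg.sigmaCore M)) :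
    K = ⊥ := by
  by_contra hK
  exact hNB M K h.max hKU.cyclic hKU.hall (le_bot_iff.1
    ((Star.star_le_second_derived h.base.min hRU h.max hKU hK).trans
      (h.second_derived_eq_bot hab).le))

omit e in
/-- An abelian `M_σ` has rank exactly two. -/
theorem rank_two (hab : IsMulCommutative (Cfsg.sigmaCore M)) :
    Cfsg.RankLE 2 (Cfsg.sigmaCore M) ∧ ¬ Cfsg.RankLE 1 (Cfsg.sigmaCore M) := by
  obtain ⟨p, x, N, hp, e⟩ := h.exists_escape
  haveI := Fact.mk hp
  have hHN : Cfsg.sigmaCore M ≤ M ⊓ N := h.le_meet_N e (sigmaCore_le M)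
    ((Subgroup.le_centralizer_iff_isMulCommutative.2 hab).trans
      (Subgroup.centralizer_le (Set.singleton_subset_iff.2 (h.meet_le_sigma e.mem))))
  refine ⟨fun r hr => Rank.prankLE_subgroup_iff.2 fun E hE he => ?_, fun h1 => ?_⟩
  · haveI := Fact.mk hr
    by_cases hE1 : E = ⊥
    · rw [hE1, Subgroup.card_bot]
      exact Nat.one_le_pow _ _ hr.pos
    exact Rank.prankLE_subgroup_iff.1 (h.prankLE_N e hr (hE.trans hHN)
      (SigmaEmbedding.ne_one_of_pgroup (PGroups.elemAb_isPGroup he) hE1)) E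
      (hE.trans (hHN.trans inf_le_right)) he
  · obtain ⟨A, hA, hA'⟩ := TauTwoAbelian.exists_ctx h.base.min e.max e.compl e.tau
    exact Rank.not_prankLE_of_elemAb (pgroup_le_sigmaCore h.base.min h.max (h.p_sigma e hp)
      hA'.isPGroup (hA.trans inf_le_left)) hA'.elem
      (by rw [hA'.card]; exact Nat.pow_lt_pow_right hp.one_lt (by norm_num)) (h1 p hp)

/-- A nonabelian `M_σ` has a nonabelian `p`-part. -/
theorem part_not_comm (hp : p.Prime) (hab : ¬ IsMulCommutative (Cfsg.sigmaCore M)) :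
    ¬ IsMulCommutative (part p M) := by
  intro hc
  refine hab (FiniteGroupStructure.ConjAbelian.comm_of_sylow h.nilpotent fun r hr P => ?_)
  have hP : (P : Subgroup (Cfsg.sigmaCore M)).map (Cfsg.sigmaCore M).subtype ≤ part r M :=
    h.pgroup_le_part (Subgroup.map_subtype_le _) (P.2.map _)
  have hcomm : IsMulCommutative (part r M) := by
    by_cases hrp : r = p
    · subst hrp; exact hc
    · exact h.comm_of_nilpotent e (h.part_le_inf e hp Fact.out hrp)
        (part_isPGroup r M).isNilpotent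
  exact ⟨⟨fun a b => Subtype.ext (Subtype.ext (congrArg Subtype.val
    (hcomm.is_comm.comm ⟨_, hP ⟨a, a.2, rfl⟩⟩ ⟨_, hP ⟨b, b.2, rfl⟩⟩) :))⟩⟩

theorem sylow_not_le (hp : p.Prime) (hab : ¬ IsMulCommutative (Cfsg.sigmaCore M)) (S : Sylow p G) :
    ¬ (S : Subgroup G) ≤ N := by
  haveI := Fact.mk hp
  intro hS
  obtain ⟨A, -, hA⟩ := TauTwoAbelian.exists_ctx h.base.min e.max e.compl e.tau
  have hc := (Abelian.sylow_comm_all hA (S.subtype hS)).is_comm.comm
  obtain ⟨T, hT⟩ := (part_isPGroup p M).exists_le_sylow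
  refine h.part_not_comm e hp hab ⟨⟨fun a b => Subtype.ext ?_⟩⟩
  let i := Sylow.equiv T S
  have key : ∀ c d : T, c * d = d * c := fun c d => i.injective (by
    rw [map_mul, map_mul]
    exact Subtype.ext (congrArg (fun z : (S.subtype hS : Subgroup N) => ((z : N) : G))
      (hc ⟨⟨_, hS (i c).2⟩, (i c).2⟩ ⟨⟨_, hS (i d).2⟩, (i d).2⟩)))
  exact congrArg (fun z : T => (z : G)) (key ⟨a, hT a.2⟩ ⟨b, hT b.2⟩)

theorem meet_eq_prime (hp : p.Prime) (hab : ¬ IsMulCommutative (Cfsg.sigmaCore M)) :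
    Nat.card (meet M g) = p := by
  haveI := Fact.mk hp
  have hG := h.base.min
  have hM := h.max
  have hpow : ∀ {q : ℕ}, q.Prime → q ∣ Nat.card (meet M g) → q = p := by
    intro q hq hd
    haveI := Fact.mk hq
    by_contra hqp
    obtain ⟨z, hz⟩ := exists_prime_orderOf_dvd_card' (G := meet M g) q hd
    obtain ⟨N', e'⟩ := h.exists_escape_of_mem hq z.2 (by rw [Subgroup.orderOf_coe, hz])
    exact h.part_not_comm e hp hab
      (h.comm_of_nilpotent e' (h.part_le_inf e' hq hp (Ne.symm hqp))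
        (part_isPGroup p M).isNilpotent)
  have hcard := Nat.eq_prime_pow_of_unique_prime_dvd (n := Nat.card (meet M g))
    Nat.card_pos.ne' (fun hq hd => hpow hq hd)
  set n := (Nat.card (meet M g)).primeFactorsList.length with hn
  have hn1 : n ≠ 0 := fun e0 => h.ne (Subgroup.card_eq_one.1 (by rw [hcard, e0, pow_zero]))
  by_contra hne
  have hn2 : 2 ≤ n := by
    by_contra hlt
    exact hne (by rw [hcard, show n = 1 by omega, pow_one])
  haveI := h.meet_props.1
  obtain ⟨⟨z, hz⟩, hzgen⟩ := IsCyclic.exists_ofOrder_eq_natCard (α := meet M g)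
  rw [Subgroup.orderOf_mk, hcard] at hzgen
  set y := z ^ p ^ (n - 2) with hy
  have hyo : orderOf y = p ^ 2 := by
    rw [hy, orderOf_pow' _ (pow_ne_zero _ hp.ne_zero), hzgen,
      Nat.gcd_eq_right (Nat.pow_dvd_pow p (by omega : n - 2 ≤ n)),
      Nat.pow_div (by omega) hp.pos]
    congr 1
    omega
  have hyX : y ∈ meet M g := pow_mem hz _
  have hwX : y ^ p ∈ meet M g := pow_mem hyX _
  have hwo : orderOf (y ^ p) = p := by
    rw [orderOf_pow' _ hp.ne_zero, hyo, pow_two, Nat.gcd_mul_left_left, Nat.mul_div_cancel _ hp.pos]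
  obtain ⟨N', e'⟩ := h.exists_escape_of_mem hp hwX hwo
  obtain ⟨A, hA, hA'⟩ := TauTwoAbelian.exists_ctx hG e'.max e'.compl e'.tau
  have hσ := h.p_sigma e hp
  have hyM : y ∈ M := sigmaCore_le M (h.meet_le_sigma hyX)
  have hyN : y ∈ N' := e'.le (Subgroup.mem_centralizer_iff.2 fun a ha => by
    rw [Set.mem_singleton_iff.1 ha, ← pow_succ, ← pow_succ'])
  have hyp : IsPGroup p (Subgroup.zpowers y) :=
    IsPGroup.of_card (n := 2) (by rw [Nat.card_zpowers, hyo])
  set Q := part p M ⊓ N' with hQ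
  have hAQ : A ≤ Q := le_inf (h.pgroup_le_part' hσ (hA.trans inf_le_left) hA'.isPGroup) hA'.le
  have hyQ : y ∈ Q := ⟨h.pgroup_le_part' hσ (Subgroup.zpowers_le.2 hyM) hyp
    (Subgroup.mem_zpowers y), hyN⟩
  obtain ⟨P, hP⟩ := ((part_isPGroup p M).to_le (inf_le_left : Q ≤ _)).comap_subtype
    (K := N') |>.exists_le_sylow
  have hQP : Q ≤ (P : Subgroup N').map N'.subtype := fun q hq => ⟨⟨q, hq.2⟩, hP hq, rfl⟩
  obtain ⟨S, hS⟩ := (P.2.map N'.subtype).exists_le_sylow
  have hc := NonabelianSylow.socle_mem_centralizer hA' P (hAQ.trans hQP) S hS (x := y) (hQP hyQ)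
    (j := 0) (by rw [zero_add, pow_one, ← pow_mul, ← pow_two, ← hyo, pow_orderOf_eq_one])
  rw [zero_add, pow_one] at hc
  refine h.sylow_not_le e' hp hab S ((?_ : (S : Subgroup G) ≤ _).trans e'.le)
  exact fun s hs => Subgroup.mem_centralizer_iff.2 fun a ha => by
    rw [Set.mem_singleton_iff.1 ha]
    exact (Subgroup.mem_centralizer_iff.1 hc s hs).symm

theorem part_cyclic (hp : p.Prime) (hab : ¬ IsMulCommutative (Cfsg.sigmaCore M)) {r : ℕ}
    (hr : r.Prime) (hrp : r ≠ p) : IsCyclic (part r M) := by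
  haveI := Fact.mk hp
  haveI := Fact.mk hr
  have hG := h.base.min
  by_contra hnc
  have hRN := h.part_le_inf e hp hr hrp
  have hd : r ∣ Nat.card (part r M) :=
    SigmaEmbedding.ne_one_of_pgroup (part_isPGroup r M) fun e0 => hnc (e0 ▸ inferInstance)
  obtain ⟨B, -, hB, hBc⟩ := PGroups.exists_normal_elemAb_sq
    (ne_two_of_dvd hG (hd.trans (part r M).card_subgroup_dvd_card)) (part_isPGroup r M) hnc
  set A := B.map (part r M).subtype with hA
  have hAc : Nat.card A = r ^ 2 := by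
    rw [hA, Subgroup.card_map_of_injective (Subgroup.subtype_injective _), hBc]
  have hAN : A ≤ M ⊓ N := (Subgroup.map_subtype_le _).trans hRN
  have hctx : Ctx N r A := ⟨hG, e.max, ⟨hr, h.not_sigma_N e hr hRN hd, h.prankLE_N e hr hRN hd,
    Rank.not_prankLE_of_elemAb (hAN.trans inf_le_right) (PGroups.elemAb_map _ hB)
      (by rw [hAc]; exact Nat.pow_lt_pow_right hr.one_lt (by norm_num))⟩,
    hAN.trans inf_le_right, PGroups.elemAb_map _ hB, hAc⟩
  refine h.part_not_comm e hp hab (h.comm_of_nilpotent e ?_ (part_isPGroup p M).isNilpotent)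
  exact le_inf ((part_le p M).trans (sigmaCore_le M))
    (((h.part_commute (Ne.symm hrp)).trans
      (Subgroup.centralizer_le (SetLike.coe_subset_coe.2 (Subgroup.map_subtype_le B)))).trans
      hctx.centralizer_le)

theorem pPrimeCore_cyclic (hp : p.Prime) (hab : ¬ IsMulCommutative (Cfsg.sigmaCore M)) :
    IsCyclic (Cfsg.pPrimeCore p (Cfsg.sigmaCore M)) := by
  haveI := h.nilpotent
  haveI : Group.IsNilpotent (Cfsg.pPrimeCore p (Cfsg.sigmaCore M)) := inferInstance
  refine CyclicSylow.isCyclic_of_sylow_cyclic fun q hq Q => ?_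
  haveI := Fact.mk hq
  set Q₁ : Subgroup (Cfsg.pPrimeCore p (Cfsg.sigmaCore M)) := Q.toSubgroup with hQ₁
  set Q₀ := (Q₁.map (Cfsg.pPrimeCore p (Cfsg.sigmaCore M)).subtype) with hQ₀
  show IsCyclic Q₁
  by_cases hQ : Q₁ = ⊥
  · rw [hQ]; exact inferInstance
  have hqp : q ≠ p := by
    intro he
    subst he
    exact (Nat.Prime.coprime_iff_not_dvd hq).1 (Cores.pPrimeCore_coprime q).symm
      ((SigmaEmbedding.ne_one_of_pgroup Q.2 hQ).trans (Subgroup.card_subgroup_dvd_card _))
  haveI := h.part_cyclic e hp hab hq hqp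
  haveI : IsCyclic ↥(Q₀.map (Cfsg.sigmaCore M).subtype) := Subgroup.isCyclic_of_le
    (h.pgroup_le_part (Subgroup.map_subtype_le _) ((Q.2.map _).map _))
  exact (Q₁.equivMapOfInjective _ (Subgroup.subtype_injective _) |>.trans
    (Q₀.equivMapOfInjective _ (Subgroup.subtype_injective _))).symm.isCyclic.1 inferInstance

theorem pCore_not_comm (hp : p.Prime) (hab : ¬ IsMulCommutative (Cfsg.sigmaCore M)) :
    ¬ IsMulCommutative (Cfsg.pCore p (Cfsg.sigmaCore M)) := fun hc =>
  h.part_not_comm e hp hab (haveI := hc; Subgroup.map_isMulCommutative _ _)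

end NonTI

end Cfsg.Agent.Lib.OddFitting.Meet
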