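import Cfsg.Agent.Lib.OddFitting.Decomp
import Cfsg.Agent.S1414
import Cfsg.Agent.S1426
import Cfsg.Agent.S1445

/-!
# BG 15.2: `M_σ` not nilpotent, the normal Sylow subgroup
-/

set_option autoImplicit false
set_option linter.style.haveILetI false
set_option linter.unusedSectionVars false

open scoped Pointwise commutatorElement

namespace Cfsg.Agent.Lib.OddFitting.NotNilpotent

open Cfsg.Agent.Lib.OddOrder Cfsg.Agent.Lib.OddOrder.MinSimple Cfsg.Agent.Lib.OddTau
  Cfsg.Agent.Lib.OddTau.Basic Cfsg.Agent.Lib.OddFitting.Hyps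

universe u

variable {G : Type u} [Group G] [Finite G] {M K : Subgroup G}

/-- The hypotheses of BG 15.2. -/
structure Setup (M K : Subgroup G) : Prop where
  min : Cfsg.IsMinSimpleOddOrder G
  max : IsCoatom M
  notNil : ¬ Group.IsNilpotent (Cfsg.sigmaCore M)
  hall : Cfsg.IsPiHallOf (Cfsg.kappa M) K M
  cyclic : IsCyclic K
  nonKappa : NilpotentOfNonKappa G
  prime : PrimeAction G
  starPrime : StarPrime G

theorem tau2_empty (hG : Cfsg.IsMinSimpleOddOrder G) (hM : IsCoatom M)
    (hn : ¬ Group.IsNilpotent (Cfsg.sigmaCore M)) : Cfsg.tau2 M = ∅ := by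
  rw [Set.eq_empty_iff_forall_notMem]
  intro p hp
  haveI := Fact.mk hp.1
  obtain ⟨A, hAM, hA, hAc⟩ := RankTwoPrime.exists_elemAb_sq hp.2.2.1 hp.2.2.2
  exact hn (Exceptional.isNilpotent_sigmaCore (A := A) ⟨hG, hM, hp, hAM, hA, hAc⟩)

/-- `K*`. -/
abbrev kStar (M K : Subgroup G) : Subgroup G :=
  Cfsg.sigmaCore M ⊓ Subgroup.centralizer (K : Set G)

/-- `O_q(M_σ)`, `q = |K*|`. -/
noncomputable abbrev coreQ (M K : Subgroup G) : Subgroup G :=
  Cfsg.pCoreOf (Nat.card (kStar M K)) (Cfsg.sigmaCore M)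

namespace Setup

variable (S : Setup M K)

include S

theorem kappa_all {q : ℕ} (hq : q.Prime) (hd : q ∣ Nat.card M) (hs : q ∉ Cfsg.sigma M) :
    q ∈ Cfsg.kappa M := by
  by_contra hk
  exact S.notNil (S.nonKappa M S.max fun h => hk (h q hq hd hs))

theorem compl : Cfsg.IsComplIn K (Cfsg.sigmaCore M) M := by
  have hσ := SigmaHall.sigmaCore_isPiHallOf S.min S.max
  refine OddOrder.Basic.isComplIn_of_card S.hall.1 hσ.1 (Decomp.K_inf_sigma S.hall)
    (Nat.dvd_antisymm ?_ ((Decomp.coprime_kappa S.hall).mul_dvd_of_dvd_of_dvd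
      (Subgroup.card_dvd_of_le S.hall.1) (Subgroup.card_dvd_of_le hσ.1)))
  rw [← Decomp.card_mul_relIndex S.hall.1]
  refine Nat.mul_dvd_mul_left _ ?_
  have hc : (K.relIndex M).Coprime ((Cfsg.sigmaCore M).relIndex M) := by
    refine Nat.coprime_of_dvd fun q hq a b => ?_
    by_cases hs : q ∈ Cfsg.sigma M
    · exact hσ.2.2 q hq hs b
    · exact S.hall.2.2 q hq (S.kappa_all hq (b.trans (Subgroup.relIndex_dvd_card _ _)) hs) a
  refine hc.dvd_of_dvd_mul_right ?_
  rw [Decomp.card_mul_relIndex hσ.1, ← Decomp.card_mul_relIndex S.hall.1]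
  exact dvd_mul_left _ _

theorem decomposition : Cfsg.IsSigmaDecomposition M K ⊥ :=
  Decomp.decomposition_bot S.cyclic S.hall S.compl

theorem U_eq_bot {U : Subgroup G} (h : Cfsg.IsSigmaDecomposition M K U) : U = ⊥ := by
  have h1 := h.compl.2.2.1
  rwa [OddOrder.Basic.isComplIn_sup S.compl, inf_eq_left.2 h.compl.1] at h1

theorem derived_eq : Cfsg.sigmaCore M = ⁅M, M⁆ := by
  refine le_antisymm (BetaCore.sigmaCore_le_derived S.min S.max) ?_
  simpa using Decomp.derived_le_U_sup S.decomposition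

theorem K_ne_bot : K ≠ ⊥ := by
  intro e
  have h := OddOrder.Basic.isComplIn_sup S.compl
  rw [e, bot_sup_eq, S.derived_eq] at h
  exact (Decomp.derived_lt S.min S.max).ne h

theorem star_prime : (Nat.card (kStar M K)).Prime :=
  S.starPrime M K ⊥ S.max S.decomposition S.K_ne_bot rfl

theorem fixed_eq_star {k : G} (hk : k ∈ K) (hk1 : k ≠ 1) :
    Cfsg.sigmaCore M ⊓ Subgroup.centralizer ({k} : Set G) = (kStar M K) :=
  S.prime M K S.max S.hall S.K_ne_bot k hk hk1

theorem star_isPGroup : IsPGroup (Nat.card (kStar M K)) (kStar M K) :=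
  IsPGroup.of_card (n := 1) (pow_one _).symm

/-- `K*` lies in `F(M_σ)`. -/
theorem star_le_fitting : (kStar M K) ≤ Cfsg.fittingOf (Cfsg.sigmaCore M) := by
  haveI := solvable_of_ne_top S.min S.max.1
  have hM := sigmaCore_le M
  set X := (Cfsg.sigmaCore M).subgroupOf M with hX
  haveI : X.Normal := (Subgroup.normal_subgroupOf_iff_le_normalizer hM).2 (le_normalizer_sigmaCore M)
  set R := K.subgroupOf M with hR
  have hF : (Cfsg.fittingOf X).map M.subtype ≤ Cfsg.fittingOf (Cfsg.sigmaCore M) := by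
    haveI : (Cfsg.fittingOf X).Normal := Cores.normal_map_subtype X _
    refine Fitting.le_fittingOf ?_
      (hM.trans (OddOrder.Basic.le_normalizer_map_subtype M (Cfsg.fittingOf X)))
      (Cores.isNilpotent_map _ (Cores.fittingOf_isNilpotent X))
    exact (Subgroup.map_mono (Cores.fittingOf_le X)).trans
      (Subgroup.map_subgroupOf_eq_of_le hM).le
  have hC : ∀ z : M, z ∈ Subgroup.centralizer (R : Set M) → (z : G) ∈ Subgroup.centralizer (K : Set G) :=
    fun z hz => Subgroup.mem_centralizer_iff.2 fun y hy =>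
      congrArg Subtype.val (Subgroup.mem_centralizer_iff.1 hz ⟨y, S.hall.1 hy⟩ hy)
  have hne : Cfsg.fittingOf X ⊓ Subgroup.centralizer (R : Set M) ≠ ⊥ := by
    intro hF0
    have h45 := Cfsg.Agent.S1445.result (G := M) (odd_card S.min M) X R (by
        rw [hX, hR, ← Subgroup.subgroupOf_sup hM S.hall.1, sup_comm,
          OddOrder.Basic.isComplIn_sup S.compl, Subgroup.subgroupOf_self])
      (by
        rw [Nat.card_congr (Subgroup.subgroupOfEquivOfLe hM).toEquiv,
          Nat.card_congr (Subgroup.subgroupOfEquivOfLe S.hall.1).toEquiv]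
        exact (Decomp.coprime_kappa S.hall).symm)
      (fun x hx hx1 => le_antisymm (fun z hz => ⟨hz.1, Subgroup.mem_centralizer_iff.2 fun y hy =>
          Subtype.ext (Subgroup.mem_centralizer_iff.1 (show (z : G) ∈ (kStar M K) from
            S.fixed_eq_star hx (fun e => hx1 (Subtype.ext e)) ▸ ⟨hz.1,
              Subgroup.mem_centralizer_singleton_iff.2 (congrArg Subtype.val
                (Subgroup.mem_centralizer_singleton_iff.1 hz.2))⟩).2 y hy)⟩)
        (inf_le_inf_left _ (Subgroup.centralizer_le (Set.singleton_subset_iff.2 hx))))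
      hF0
    refine S.notNil (Cores.isNilpotent_of_le ?_
      (Cores.fittingOf_isNilpotent (Cfsg.sigmaCore M)))
    refine le_trans ?_ hF
    calc Cfsg.sigmaCore M = ⁅Cfsg.sigmaCore M, K⁆ :=
          (Cfsg.Agent.S1426.result S.min M S.max K S.compl).2.1.symm
      _ = ⁅X, R⁆.map M.subtype := by
          rw [Subgroup.map_commutator, Subgroup.map_subgroupOf_eq_of_le hM,
            Subgroup.map_subgroupOf_eq_of_le S.hall.1]
      _ ≤ _ := Subgroup.map_mono h45
  obtain ⟨z, hz, hz1⟩ := (Subgroup.bot_or_exists_ne_one _).resolve_left hne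
  have hzF : (z : G) ∈ Cfsg.fittingOf (Cfsg.sigmaCore M) := hF (Subgroup.mem_map_of_mem _ hz.1)
  have hzs : (z : G) ∈ (kStar M K) := ⟨Cores.fittingOf_le _ hzF, hC z hz.2⟩
  haveI := Fact.mk S.star_prime
  have hgen : (kStar M K) = Subgroup.zpowers (z : G) := by
    refine (Subgroup.eq_of_le_of_card_ge (Subgroup.zpowers_le.2 hzs) ?_).symm
    rw [Nat.card_zpowers]
    refine ((S.star_prime.eq_one_or_self_of_dvd _ (Subgroup.orderOf_dvd_natCard _ hzs)).resolve_left
      fun e => hz1 (Subtype.ext (orderOf_eq_one_iff.1 e))).ge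
  rw [hgen]
  exact Subgroup.zpowers_le.2 hzF

theorem star_le_sylow : (kStar M K) ≤ (coreQ M K) :=
  haveI := Fact.mk S.star_prime
  Fitting.le_pCoreOf_of_fitting S.star_le_fitting S.star_isPGroup

theorem sylow_le_sigma : (coreQ M K) ≤ Cfsg.sigmaCore M := CharP.pCoreOf_le _ _

theorem sylow_le : (coreQ M K) ≤ M := S.sylow_le_sigma.trans (sigmaCore_le M)

theorem sylow_normal : M ≤ Subgroup.normalizer ((coreQ M K) : Set G) :=
  (le_normalizer_sigmaCore M).trans (CharP.normalizer_le_normalizer_map_char _)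

/-- `M_σ / N` is nilpotent for a normal `N` containing `K*`. -/
theorem isNilpotent_img {N : Subgroup G} [(N.subgroupOf M).Normal]
    (hN : N ≤ Cfsg.sigmaCore M) (hs : (kStar M K) ≤ N) :
    Group.IsNilpotent (Quot.img M N (Cfsg.sigmaCore M)) := by
  obtain ⟨p, hp, hd⟩ := Nat.exists_prime_and_dvd (mt Subgroup.card_eq_one.1 S.K_ne_bot)
  haveI := Fact.mk hp
  obtain ⟨k, hk⟩ := exists_prime_orderOf_dvd_card' (G := K) p hd
  have hko : orderOf (k : G) = p := by rw [Subgroup.orderOf_coe, hk]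
  have hk1 : (k : G) ≠ 1 := fun e => hp.ne_one (by rw [← hko, e, orderOf_one])
  have hM := sigmaCore_le M
  have hNM := hN.trans hM
  set k' : M := ⟨k, S.hall.1 k.2⟩ with hk'
  have hcop : (Nat.card (Subgroup.zpowers (k : G))).Coprime (Nat.card N) :=
    ((Decomp.coprime_kappa S.hall).coprime_dvd_left
      (Subgroup.card_dvd_of_le (Subgroup.zpowers_le.2 k.2))).coprime_dvd_right
      (Subgroup.card_dvd_of_le hN)
  refine isNilpotent_of_fpf (p := p) (a := Quot.proj M N k')
    (Quot.isSolvable_img hM (isSolvable_sigmaCore S.min S.max)) ?_ ?_ ?_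
  · exact Quot.le_normalizer_img (le_normalizer_sigmaCore M) (Quot.mem_img_of_mem k'.2)
  · rw [← map_pow, show k' ^ p = 1 from Subtype.ext (by
      show (k : G) ^ p = 1
      rw [← hko, pow_orderOf_eq_one]), map_one]
  · rw [← Quot.centralizer_img_zpowers k', Quot.img_inf_centralizer hNM hN
      (Subgroup.zpowers_le.2 k'.2) hcop (Or.inl (Coprime.isSolvable_zpowers _)),
      Quot.img_eq_bot_iff (inf_le_left.trans hM)]
    refine le_trans (le_of_eq ?_) hs
    rw [Subgroup.zpowers_eq_closure, Subgroup.centralizer_closure]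
    exact S.fixed_eq_star k.2 hk1

theorem sylow_hall : ¬ Nat.card (kStar M K) ∣ (coreQ M K).relIndex (Cfsg.sigmaCore M) := by
  haveI := Fact.mk S.star_prime
  set q := Nat.card (kStar M K) with hq
  set Q := (coreQ M K) with hQ
  haveI hQn : (Q.subgroupOf M).Normal :=
    (Subgroup.normal_subgroupOf_iff_le_normalizer S.sylow_le).2 S.sylow_normal
  set L := Quot.img M Q (Cfsg.sigmaCore M) with hL
  haveI : Group.IsNilpotent L := S.isNilpotent_img S.sylow_le_sigma S.star_le_sylow
  haveI : L.Normal := Quot.normal_img (le_normalizer_sigmaCore M)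
  set O := Cfsg.pCoreOf q L with hO
  haveI : O.Normal := Cores.normal_map_subtype L _
  set W := (O.comap (Quot.proj M Q)).map M.subtype with hW
  have hWs : W ≤ Cfsg.sigmaCore M := by
    rintro _ ⟨x, hx, rfl⟩
    exact (Quot.mem_img_iff S.sylow_le_sigma).1 (CharP.pCoreOf_le q L hx)
  have hWp : IsPGroup q W := by
    refine IsPGroup.map (IsPGroup.comap_of_ker_isPGroup (CharP.isPGroup_pCoreOf q L) _ ?_) _
    rw [QuotientGroup.ker_mk']
    exact (CharP.isPGroup_pCoreOf q _).comap_subtype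
  have hWQ : W ≤ Q := CharP.le_pCoreOf hWp hWs
    ((sigmaCore_le M).trans (OddOrder.Basic.le_normalizer_map_subtype M _))
  obtain ⟨T⟩ : Nonempty (Sylow q ↥(Cfsg.sigmaCore M)) := inferInstance
  set T₀ := (T : Subgroup ↥(Cfsg.sigmaCore M)).map (Cfsg.sigmaCore M).subtype with hT₀
  have hTW : T₀ ≤ W := by
    intro t ht
    have htM : t ∈ M := sigmaCore_le M (Subgroup.map_subtype_le _ ht)
    have htX : T₀ ≤ M := (Subgroup.map_subtype_le _).trans (sigmaCore_le M)
    refine ⟨⟨t, htM⟩, ?_, rfl⟩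
    have hY : Quot.img M Q T₀ ≤ Cfsg.fittingOf L :=
      (Quot.img_mono (Subgroup.map_subtype_le _)).trans
        (Fitting.le_fittingOf le_rfl Subgroup.le_normalizer inferInstance)
    exact Fitting.le_pCoreOf_of_fitting hY (((T.2.map _).comap_subtype).map _)
      (Quot.mem_img_of_mem ht)
  intro h
  have hTQ := hTW.trans hWQ
  have h2 : T₀.relIndex (Cfsg.sigmaCore M) = T₀.relIndex Q * Q.relIndex (Cfsg.sigmaCore M) :=
    (Subgroup.relIndex_mul_relIndex _ _ _ hTQ S.sylow_le_sigma).symm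
  refine T.not_dvd_index ?_
  rw [← OddOrder.Basic.relIndex_map_subtype, ← hT₀, h2]
  exact h.mul_left _

theorem sylow_ne_bot : (coreQ M K) ≠ ⊥ := fun e =>
  S.star_prime.ne_one (Subgroup.card_eq_one.2 (le_bot_iff.1 (e ▸ S.star_le_sylow)))

theorem sylow_le_fittingHall : (coreQ M K) ≤ Cfsg.fittingHallOf M := by
  haveI := Fact.mk S.star_prime
  refine OddOrder.Basic.le_fittingHallOf S.sylow_le S.sylow_normal
    (CharP.isPGroup_pCoreOf _ _).isNilpotent (Nat.coprime_of_dvd fun r hr a b => ?_)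
  obtain rfl := Hall.prime_dvd_pgroup S.star_prime hr (CharP.isPGroup_pCoreOf _ _) a
  rw [← Subgroup.relIndex_mul_relIndex _ _ _ S.sylow_le_sigma (sigmaCore_le M)] at b
  rcases hr.dvd_mul.1 b with h | h
  · exact S.sylow_hall h
  · exact (SigmaHall.sigmaCore_isPiHallOf S.min S.max).2.2 _ hr
      (mem_sigma_of_dvd hr (a.trans (Subgroup.card_dvd_of_le S.sylow_le_sigma))) h

theorem star_dvd_fittingHall : Nat.card (kStar M K) ∣ Nat.card (Cfsg.fittingHallOf M) :=
  Subgroup.card_dvd_of_le (S.star_le_sylow.trans S.sylow_le_fittingHall)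

end Setup

end Cfsg.Agent.Lib.OddFitting.NotNilpotent
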