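import Cfsg.Agent.Lib.OddFitting.Chief

/-!
# BG 15.2 as a whole (the content of S1437)
-/

set_option autoImplicit false
set_option linter.style.haveILetI false
set_option linter.unusedSectionVars false

open scoped commutatorElement

namespace Cfsg.Agent.Lib.OddFitting.Structure

open Cfsg.Agent.Lib.OddFitting.NotNilpotent Cfsg.Agent.Lib.OddFitting.Hyps

universe u

variable {G : Type u} [Group G] [Finite G] {M K U : Subgroup G}

theorem setup (hG : Cfsg.IsMinSimpleOddOrder G) (h29 : NilpotentOfNonKappa G) (hPA : PrimeAction G)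
    (hSP : StarPrime G) (hM : IsCoatom M) (hKU : Cfsg.IsSigmaDecomposition M K U)
    (hne : Cfsg.fittingHallOf M ≠ Cfsg.sigmaCore M) : Setup M K :=
  ⟨hG, hM, fun h => hne (Decomp.fittingHallOf_eq_of_isNilpotent hG hM h), hKU.hall, hKU.cyclic,
    h29, hPA, hSP⟩

theorem K_prime (S : Setup M K) : (Nat.card K).Prime :=
  let ⟨_, hD, hKD⟩ := Chief.exists_invariant_compl S
  (Chief.props_invariant S hD hKD).prime

/-- BG 15.2. -/
theorem fitting_hall_ne (hG : Cfsg.IsMinSimpleOddOrder G) (h29 : NilpotentOfNonKappa G)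
    (hPA : PrimeAction G) (hSP : StarPrime G)
    (hM : IsCoatom M) (hKU : Cfsg.IsSigmaDecomposition M K U) (hne : Cfsg.fittingHallOf M ≠ Cfsg.sigmaCore M) :
    U = ⊥ ∧ Cfsg.sigmaCore M = ⁅M, M⁆ ∧ (Nat.card K).Prime ∧ (Nat.card ↥(Cfsg.sigmaCore M ⊓ Subgroup.centralizer (K : Set G))).Prime ∧
      Nat.card ↥(Cfsg.sigmaCore M ⊓ Subgroup.centralizer (K : Set G)) ∣ Nat.card (Cfsg.fittingHallOf M) ∧ Nat.card ↥(Cfsg.sigmaCore M ⊓ Subgroup.centralizer (K : Set G)) ∈ Cfsg.beta M ∧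
      ∃ Q : Subgroup G, Q ≤ Cfsg.fittingHallOf M ∧ M ≤ Subgroup.normalizer (Q : Set G) ∧ IsPGroup (Nat.card ↥(Cfsg.sigmaCore M ⊓ Subgroup.centralizer (K : Set G))) Q ∧
        ¬ Nat.card ↥(Cfsg.sigmaCore M ⊓ Subgroup.centralizer (K : Set G)) ∣ Q.relIndex (Cfsg.sigmaCore M) ∧
        ∀ D : Subgroup G, Cfsg.IsComplIn Q D (Cfsg.sigmaCore M) →
          Group.IsNilpotent D ∧ M ≤ Subgroup.normalizer ((Q ⊓ Subgroup.centralizer (D : Set G) : Subgroup G) : Set G) ∧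
          Q ⊓ Subgroup.centralizer (D : Set G) < Q ∧
          Nat.card Q = Nat.card ↥(Q ⊓ Subgroup.centralizer (D : Set G)) * Nat.card ↥(Cfsg.sigmaCore M ⊓ Subgroup.centralizer (K : Set G)) ^ Nat.card K ∧
          (∀ a ∈ Q, ∀ b ∈ Q, a ^ Nat.card ↥(Cfsg.sigmaCore M ⊓ Subgroup.centralizer (K : Set G)) ∈ Q ⊓ Subgroup.centralizer (D : Set G) ∧
            a * b * a⁻¹ * b⁻¹ ∈ Q ⊓ Subgroup.centralizer (D : Set G)) ∧
          ∀ N : Subgroup G, Q ⊓ Subgroup.centralizer (D : Set G) < N → N < Q → ¬ M ≤ Subgroup.normalizer (N : Set G) := by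
  have S := setup hG h29 hPA hSP hM hKU hne
  refine ⟨S.U_eq_bot hKU, S.derived_eq, K_prime S, S.star_prime, S.star_dvd_fittingHall,
    Chief.mem_beta S, coreQ M K, S.sylow_le_fittingHall, S.sylow_normal,
    CharP.isPGroup_pCoreOf _ _, S.sylow_hall, fun D hD => ?_⟩
  have P := Chief.props S hD
  exact ⟨P.nilpotent, P.normal, P.lt, P.card,
    fun a ha b hb => ⟨⟨(coreQ M K).pow_mem ha _, P.pow_mem a ha⟩,
      ⟨(coreQ M K).mul_mem ((coreQ M K).mul_mem ((coreQ M K).mul_mem ha hb)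
        ((coreQ M K).inv_mem ha)) ((coreQ M K).inv_mem hb), P.comm_mem a ha b hb⟩⟩, P.chief⟩

end Cfsg.Agent.Lib.OddFitting.Structure
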