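import Cfsg.Agent.Lib.OddFitting.MeetCube
import Cfsg.Agent.Lib.OddFitting.Structure

/-!
# BG 15.7 and 15.8: when `F(M)` is not a TI-subgroup (the cores of S1440 and S1357)
-/

set_option autoImplicit false
set_option linter.style.haveILetI false
set_option linter.unusedSectionVars false

open scoped Pointwise commutatorElement

namespace Cfsg.Agent.Lib.OddFitting.NotTI

open Cfsg.Agent.Lib.OddOrder Cfsg.Agent.Lib.OddOrder.MinSimple Cfsg.Agent.Lib.OddTau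
  Cfsg.Agent.Lib.OddTau.Basic Cfsg.Agent.Lib.OddFitting.Hyps
  Cfsg.Agent.Lib.OddFitting.NotNilpotent Cfsg.Agent.Lib.OddFitting.Meet

universe u

variable {G : Type u} [Group G] [Finite G] {M K U : Subgroup G} {g : G}

/-- `F(M) = M' = M_σ` when `F(M)` is not TI and `K ≠ 1`. -/
theorem derived_eq_fitting (h : NonTI M g) (hRU : RegularOnU G) (hRE : RegularExponent G)
    (hKU : Cfsg.IsSigmaDecomposition M K U) (hK : K ≠ ⊥) : ⁅M, M⁆ = Cfsg.fittingOf M := by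
  have hG := h.base.min
  have hM := h.max
  refine le_antisymm h.derived_le_fitting ?_
  set Y := Cfsg.piCoreOf {q | q.Prime ∧ q ∉ Cfsg.sigma M} (Cfsg.fittingOf M) with hY
  have hE := h.compl_of_U_bot hKU (h.U_eq_bot hRU hRE hKU hK)
  have hY1 : Y = ⊥ := by
    refine Subgroup.card_eq_one.1 (Nat.eq_one_iff_not_exists_prime_dvd.2 fun q hq hd => ?_)
    have hτ := (SigmaPrimeFitting.spec hG hM).2.1 q hq hd
    have hqM : q ∣ Nat.card M :=
      hd.trans (Subgroup.card_dvd_of_le ((piCoreOf_le _ _).trans (Cores.fittingOf_le M)))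
    rw [← OddOrder.Basic.isComplIn_card hE] at hqM
    rcases hq.dvd_mul.1 hqM with h' | h'
    · exact CentralizerHall.not_kappa_of_tau2 hG hM hτ (hKU.hall.2.1 q hq h')
    · exact hτ.2.1 (mem_sigma_of_dvd hq h')
  rw [h.fitting_eq, ← hY, hY1, sup_bot_eq]
  exact BetaCore.sigmaCore_le_derived hG hM

/-- BG 15.7 (the content of S1440; there `M' = F(M)`, here only `M' ≤ F(M)` when `K = 1`). -/
theorem structure_of_not_ti (hB : Base G) (h32 : CentralizingElement G) (hSN : SylowNotInStar G)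
    (hRU : RegularOnU G) (hNB : StarNeBot G) (hRE : RegularExponent G) (hM : IsCoatom M)
    (hKU : Cfsg.IsSigmaDecomposition M K U) (hg : g ∉ M)
    (hX : Cfsg.fittingOf M ⊓ (Cfsg.fittingOf M).map (MulAut.conj g).toMonoidHom ≠ ⊥) :
    (Cfsg.fittingOf M ⊓ (Cfsg.fittingOf M).map (MulAut.conj g).toMonoidHom ≤
        Cfsg.fittingHallOf M ∧
      IsCyclic ↥(Cfsg.fittingOf M ⊓ (Cfsg.fittingOf M).map (MulAut.conj g).toMonoidHom)) ∧
    (⁅M, M⁆ ≤ Cfsg.fittingOf M ∧ (K ≠ ⊥ → ⁅M, M⁆ = Cfsg.fittingOf M) ∧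
      Cfsg.fittingOf M = Cfsg.sigmaCore M ⊔
        Cfsg.piCoreOf {q | q.Prime ∧ q ∉ Cfsg.sigma M} (Cfsg.fittingOf M)) ∧
    ((K = ⊥ ∧ IsMulCommutative (Cfsg.fittingHallOf M) ∧ Cfsg.RankLE 2 (Cfsg.fittingHallOf M) ∧
        ¬ Cfsg.RankLE 1 (Cfsg.fittingHallOf M)) ∨
      (∃ p : ℕ, p.Prime ∧
        Nat.card ↥(Cfsg.fittingOf M ⊓ (Cfsg.fittingOf M).map (MulAut.conj g).toMonoidHom) = p ∧
        p ∈ Cfsg.sigma M ∧ p ∉ Cfsg.beta M ∧
        ¬ IsMulCommutative (Cfsg.pCore p ↥(Cfsg.fittingHallOf M)) ∧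
        IsCyclic (Cfsg.pPrimeCore p ↥(Cfsg.fittingHallOf M)) ∧
        ∀ q : ℕ, q.Prime → q ∣ Nat.card (Cfsg.fittingHallOf M) →
          Monoid.exponent (↥M ⧸ Cfsg.fittingHall ↥M) ∣ q - 1) ∨
      (∃ p : ℕ, p.Prime ∧
        Nat.card ↥(Cfsg.fittingOf M ⊓ (Cfsg.fittingOf M).map (MulAut.conj g).toMonoidHom) = p ∧
        p ∈ Cfsg.sigma M ∧ p ∉ Cfsg.beta M ∧
        IsCyclic (Cfsg.pPrimeCore p ↥(Cfsg.fittingHallOf M)) ∧
        Nat.card (Cfsg.pCore p ↥(Cfsg.fittingHallOf M)) = p ^ 3 ∧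
        ¬ IsMulCommutative (Cfsg.pCore p ↥(Cfsg.fittingHallOf M)) ∧ K ≠ ⊥ ∧ U = ⊥ ∧
        (Cfsg.fittingHallOf M).relIndex M ∣ p + 1)) := by
  have h : NonTI M g := ⟨hB, hM, hg, hX⟩
  have hHF := h.fittingHall_eq
  refine ⟨⟨by rw [hHF]; exact h.meet_le_sigma, h.meet_props.1⟩,
    ⟨h.derived_le_fitting, derived_eq_fitting h hRU hRE hKU, h.fitting_eq⟩, ?_⟩
  rw [hHF]
  by_cases hab : IsMulCommutative (Cfsg.sigmaCore M)
  · exact Or.inl ⟨h.K_eq_bot hRU hNB hKU hab, hab, h.rank_two hab⟩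
  right
  obtain ⟨p, x, N, hp, e⟩ := h.exists_escape
  have hX' := h.meet_eq_prime e hp hab
  have hσ := h.p_sigma e hp
  have hβ := h.not_beta hp
  have hnc := h.pCore_not_comm e hp hab
  have hcyc := h.pPrimeCore_cyclic e hp hab
  by_cases hK : K = ⊥
  · exact Or.inl ⟨p, hp, hX', hσ, hβ, hnc, hcyc, fun q hq hd =>
      h.exponent_K_bot e h32 hp hab hKU hK hq hd⟩
  have hU := h.U_eq_bot hRU hRE hKU hK
  have hE := h.compl_of_U_bot hKU hU
  by_cases hall : ∀ k ∈ K, k ^ (p - 1) = 1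
  · refine Or.inl ⟨p, hp, hX', hσ, hβ, hnc, hcyc, fun q hq hd =>
      h.exponent_dvd_of_compl hE ?_⟩
    by_cases hqp : q = p
    · exact hqp ▸ hall
    · exact h.pow_sub_one_of_ne e hSN hp hab hKU hq hd hqp
  push Not at hall
  obtain ⟨k₀, hk₀, hk₀p⟩ := hall
  obtain ⟨hc, hd⟩ := h.cube e hSN hp hab hKU hU hk₀ hk₀p
  refine Or.inr ⟨p, hp, hX', hσ, hβ, hcyc, ?_, hnc, hK, hU, ?_⟩
  · rw [← hc, part, Cfsg.pCoreOf, Subgroup.card_map_of_injective (Subgroup.subtype_injective _)]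
  · rwa [OddOrder.Basic.isComplIn_relIndex (OddOrder.Basic.isComplIn_symm hE)]

/-- `F(M)` is TI unless some conjugate of it outside `M` meets it. -/
theorem isTI_of_no_meet (h : ∀ g : G, g ∉ M → meet M g = ⊥) :
    Cfsg.IsTISubset (Cfsg.fittingOf M : Set G) := by
  intro g hg x hx hgx
  have hgM : g ∉ M := fun hm => hg (OddOrder.Basic.fittingOf_normal M hm)
  have h1 : g * x * g⁻¹ ∈ meet M g := ⟨hgx, ⟨x, hx, rfl⟩⟩
  rw [h g hgM, Subgroup.mem_bot] at h1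
  simpa using h1

/-- `F(M)` is TI when `M_σ` is not nilpotent. -/
theorem isTI_of_not_nilpotent (hB : Base G) (hM : IsCoatom M)
    (hn : ¬ Group.IsNilpotent (Cfsg.sigmaCore M)) :
    Cfsg.IsTISubset (Cfsg.fittingOf M : Set G) :=
  isTI_of_no_meet fun _ hg => by_contra fun hne => hn (NonTI.nilpotent ⟨hB, hM, hg, hne⟩)

/-- `F(M)` is TI when neither `K` nor `U` is trivial. -/
theorem isTI_of_ne_bot (hB : Base G) (hRU : RegularOnU G) (hRE : RegularExponent G)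
    (hM : IsCoatom M) (hKU : Cfsg.IsSigmaDecomposition M K U) (hK : K ≠ ⊥) (hU : U ≠ ⊥) :
    Cfsg.IsTISubset (Cfsg.fittingOf M : Set G) :=
  isTI_of_no_meet fun g hg => by_contra fun hne =>
    hU (NonTI.U_eq_bot (⟨hB, hM, hg, hne⟩ : NonTI M g) hRU hRE hKU hK)

/-- BG 15.8 (the content of S1357). -/
theorem fitting_hall_ne_sigma (hB : Base G) (hM : IsCoatom M)
    (hKU : Cfsg.IsSigmaDecomposition M K U)
    (hne : Cfsg.fittingHallOf M ≠ Cfsg.sigmaCore M) :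
    U = ⊥ ∧ Cfsg.IsTISubset (Cfsg.fittingOf M : Set G) ∧ (Nat.card K).Prime := by
  have S := Structure.setup hB.min hB.nonKappa hB.prime hB.starPrime hM hKU hne
  exact ⟨S.U_eq_bot hKU, isTI_of_not_nilpotent hB hM S.notNil, Structure.K_prime S⟩

end Cfsg.Agent.Lib.OddFitting.NotTI
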