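import Cfsg.Agent.Lib.OddOrder.Basic
import Cfsg.Agent.Lib.Coprime.Commutator

/-!
# Sections of a subgroup: images in `M ⧸ N`
-/

set_option autoImplicit false
set_option linter.style.haveILetI false
set_option linter.unusedSectionVars false

namespace Cfsg.Agent.Lib.OddFitting.Quot

universe u

variable {G : Type u} [Group G] (M N : Subgroup G) [hN : (N.subgroupOf M).Normal]

/-- The quotient map `M → M ⧸ N`. -/
abbrev proj : M →* M ⧸ N.subgroupOf M := QuotientGroup.mk' (N.subgroupOf M)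

/-- The image of `X ∩ M` in `M ⧸ N`. -/
abbrev img (X : Subgroup G) : Subgroup (M ⧸ N.subgroupOf M) :=
  (X.subgroupOf M).map (proj M N)

variable {M N}

theorem proj_eq_one {x : M} : proj M N x = 1 ↔ (x : G) ∈ N := by
  rw [QuotientGroup.mk'_apply, QuotientGroup.eq_one_iff, Subgroup.mem_subgroupOf]

theorem mem_img_of_mem {X : Subgroup G} {x : M} (hx : (x : G) ∈ X) : proj M N x ∈ img M N X :=
  Subgroup.mem_map_of_mem _ (Subgroup.mem_subgroupOf.2 hx)

theorem exists_of_mem_img {X : Subgroup G} {x : M} (h : proj M N x ∈ img M N X) :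
    ∃ y ∈ X, y ∈ M ∧ y⁻¹ * (x : G) ∈ N := by
  obtain ⟨y, hy, e⟩ := h
  refine ⟨y, Subgroup.mem_subgroupOf.1 hy, y.2, ?_⟩
  exact proj_eq_one (M := M) (N := N) (x := y⁻¹ * x) |>.1 (by rw [map_mul, map_inv, e, inv_mul_cancel])

theorem mem_img_iff {X : Subgroup G} (hNX : N ≤ X) {x : M} :
    proj M N x ∈ img M N X ↔ (x : G) ∈ X := by
  refine ⟨fun h => ?_, mem_img_of_mem⟩
  obtain ⟨y, hy, -, hn⟩ := exists_of_mem_img h
  rw [← mul_inv_cancel_left y (x : G)]
  exact mul_mem hy (hNX hn)

theorem img_mono {X Y : Subgroup G} (h : X ≤ Y) : img M N X ≤ img M N Y :=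
  Subgroup.map_mono (Subgroup.comap_mono h)

theorem img_eq_bot_iff {X : Subgroup G} (hX : X ≤ M) : img M N X = ⊥ ↔ X ≤ N := by
  rw [Subgroup.map_eq_bot_iff, QuotientGroup.ker_mk']
  exact ⟨fun h x hx => h (show (⟨x, hX hx⟩ : M) ∈ X.subgroupOf M from hx), fun h => Subgroup.comap_mono h⟩

theorem img_self (hNM : N ≤ M) : img M N N = ⊥ := (img_eq_bot_iff hNM).2 le_rfl

theorem img_top : img M N M = ⊤ := by
  rw [img, Subgroup.subgroupOf_self, Subgroup.map_top_of_surjective _ (QuotientGroup.mk'_surjective _)]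

theorem img_sup {X Y : Subgroup G} (hX : X ≤ M) (hY : Y ≤ M) :
    img M N (X ⊔ Y) = img M N X ⊔ img M N Y := by
  rw [img, Subgroup.subgroupOf_sup hX hY, Subgroup.map_sup]

theorem img_commutator {X Y : Subgroup G} (hX : X ≤ M) (hY : Y ≤ M) :
    img M N ⁅X, Y⁆ = ⁅img M N X, img M N Y⁆ := by
  rw [← Subgroup.map_commutator]
  refine congrArg _ (Subgroup.map_injective M.subtype_injective ?_)
  rw [Subgroup.map_commutator, Subgroup.map_subgroupOf_eq_of_le hX,
    Subgroup.map_subgroupOf_eq_of_le hY, Subgroup.map_subgroupOf_eq_of_le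
      ((Subgroup.commutator_mono hX hY).trans
        (Subgroup.map_subtype_commutator M ▸ Subgroup.map_subtype_le _))]

theorem le_normalizer_img {X A : Subgroup G} (hA : A ≤ Subgroup.normalizer (X : Set G)) :
    img M N A ≤ Subgroup.normalizer ((img M N X : Subgroup (M ⧸ N.subgroupOf M)) :
      Set (M ⧸ N.subgroupOf M)) := by
  rintro _ ⟨a, ha, rfl⟩
  refine Subgroup.le_normalizer_map _ (Subgroup.mem_map_of_mem _ ?_)
  refine Subgroup.mem_normalizer_iff.2 fun y => ?_
  exact Subgroup.mem_normalizer_iff.1 (hA ha) (y : G)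

theorem normal_img {X : Subgroup G} (hX : M ≤ Subgroup.normalizer (X : Set G)) :
    (img M N X).Normal := by
  rw [← Subgroup.normalizer_eq_top_iff, ← top_le_iff, ← img_top (M := M) (N := N)]
  exact le_normalizer_img hX

theorem le_centralizer_img_iff {X A : Subgroup G} (hX : X ≤ M) (hA : A ≤ M) :
    img M N A ≤ Subgroup.centralizer (img M N X : Set (M ⧸ N.subgroupOf M)) ↔ ⁅X, A⁆ ≤ N := by
  rw [← img_eq_bot_iff (N := N) ((Subgroup.commutator_mono hX hA).trans
      (Subgroup.map_subtype_commutator M ▸ Subgroup.map_subtype_le _)), img_commutator hX hA,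
    Subgroup.commutator_eq_bot_iff_le_centralizer, Subgroup.le_centralizer_iff]

/-- Surjection onto an image, as a homomorphism. -/
noncomputable def toImg {X : Subgroup G} (hX : X ≤ M) : X →* img M N X :=
  ((proj M N).comp (Subgroup.inclusion hX)).codRestrict _ fun x => mem_img_of_mem x.2

theorem toImg_surjective {X : Subgroup G} (hX : X ≤ M) :
    Function.Surjective (toImg (N := N) hX) := by
  rintro ⟨_, y, hy, rfl⟩
  exact ⟨⟨y, Subgroup.mem_subgroupOf.1 hy⟩, Subtype.ext rfl⟩

theorem isNilpotent_img {X : Subgroup G} (hX : X ≤ M) (h : Group.IsNilpotent X) :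
    Group.IsNilpotent (img M N X) := by
  haveI := h
  exact Group.nilpotent_of_surjective _ (toImg_surjective hX)

theorem isSolvable_img {X : Subgroup G} (hX : X ≤ M) (h : Group.IsSolvable X) :
    Group.IsSolvable (img M N X) := by
  haveI := h
  exact Group.isSolvable_of_surjective (toImg_surjective hX)

theorem isCyclic_img {X : Subgroup G} (hX : X ≤ M) (h : IsCyclic X) :
    IsCyclic (img M N X) := by
  haveI := h
  exact isCyclic_of_surjective _ (toImg_surjective hX)

theorem card_img_dvd {X : Subgroup G} (hX : X ≤ M) : Nat.card (img M N X) ∣ Nat.card X :=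
  Subgroup.card_dvd_of_surjective _ (toImg_surjective hX)

theorem toImg_injective {X : Subgroup G} (hX : X ≤ M) (hd : X ⊓ N = ⊥) :
    Function.Injective (toImg (N := N) hX) := by
  rw [← MonoidHom.ker_eq_bot_iff, Subgroup.eq_bot_iff_forall]
  intro x hx
  have h1 : (x : G) ∈ X ⊓ N :=
    ⟨x.2, (proj_eq_one (M := M) (x := Subgroup.inclusion hX x)).1
      (congrArg Subtype.val (MonoidHom.mem_ker.1 hx))⟩
  rw [hd, Subgroup.mem_bot] at h1
  exact Subtype.ext h1

theorem card_img_of_disjoint {X : Subgroup G} (hX : X ≤ M) (hd : X ⊓ N = ⊥) :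
    Nat.card (img M N X) = Nat.card X :=
  (Nat.card_congr (MulEquiv.ofBijective (toImg hX) ⟨toImg_injective hX hd, toImg_surjective hX⟩).toEquiv).symm

theorem card_img {X : Subgroup G} (hX : X ≤ M) : Nat.card (img M N X) = N.relIndex X := by
  have h : (toImg (N := N) hX).ker = N.subgroupOf X := by
    ext x
    rw [MonoidHom.mem_ker, Subgroup.mem_subgroupOf]
    exact ⟨fun e => (proj_eq_one (M := M) (x := Subgroup.inclusion hX x)).1
      (congrArg Subtype.val e), fun e => Subtype.ext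
        ((proj_eq_one (M := M) (x := Subgroup.inclusion hX x)).2 e)⟩
  rw [Subgroup.relIndex, ← h, Subgroup.index_ker,
    MonoidHom.range_eq_top.2 (toImg_surjective hX), Nat.card_congr Subgroup.topEquiv.toEquiv]

variable [Finite G]

/-- Fixed points lift to `M ⧸ N` for a coprime operator group. -/
theorem img_inf_centralizer {X A : Subgroup G} (hNM : N ≤ M) (hNX : N ≤ X)
    (hA : A ≤ M) (hcop : (Nat.card A).Coprime (Nat.card N))
    (hsolv : Group.IsSolvable A ∨ Group.IsSolvable N) :
    img M N X ⊓ Subgroup.centralizer (img M N A : Set (M ⧸ N.subgroupOf M)) =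
      img M N (X ⊓ Subgroup.centralizer (A : Set G)) := by
  refine le_antisymm ?_ ?_
  · intro z hz
    obtain ⟨x, rfl⟩ := QuotientGroup.mk'_surjective _ z
    have hxX : (x : G) ∈ X := (mem_img_iff hNX).1 hz.1
    have hAN : A ≤ Subgroup.normalizer (N : Set G) :=
      hA.trans ((Subgroup.normal_subgroupOf_iff_le_normalizer hNM).1 hN)
    obtain ⟨n, hn, hc⟩ := Coprime.exists_mul_fixed hAN hcop hsolv (k := (x : G)) fun a ha => by
      refine (proj_eq_one (N := N) (x := x⁻¹ * (⟨a, hA ha⟩ * x * (⟨a, hA ha⟩)⁻¹))).1 ?_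
      rw [map_mul, map_mul, map_mul, map_inv, map_inv,
        Subgroup.mem_centralizer_iff.1 hz.2 _ (mem_img_of_mem (x := ⟨a, hA ha⟩) ha),
        mul_inv_cancel_right, inv_mul_cancel]
    refine ⟨⟨(x : G) * n, mul_mem x.2 (hNM hn)⟩, ⟨mul_mem hxX (hNX hn), hc⟩, ?_⟩
    rw [show (⟨(x : G) * n, mul_mem x.2 (hNM hn)⟩ : M) = x * ⟨n, hNM hn⟩ from rfl, map_mul,
      proj_eq_one.2 (show ((⟨n, hNM hn⟩ : M) : G) ∈ N from hn), mul_one]
  · rintro _ ⟨x, hx, rfl⟩
    refine ⟨mem_img_of_mem hx.1, Subgroup.mem_centralizer_iff.2 ?_⟩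
    rintro _ ⟨a, ha, rfl⟩
    rw [← map_mul, ← map_mul]
    exact congrArg _ (Subtype.ext (Subgroup.mem_centralizer_iff.1 hx.2 a ha))

theorem centralizer_img_zpowers (k : M) :
    Subgroup.centralizer (img M N (Subgroup.zpowers (k : G)) : Set (M ⧸ N.subgroupOf M)) =
      Subgroup.centralizer ({proj M N k} : Set (M ⧸ N.subgroupOf M)) := by
  have h : img M N (Subgroup.zpowers (k : G)) = Subgroup.zpowers (proj M N k) := by
    rw [← MonoidHom.map_zpowers]
    refine congrArg _ (Subgroup.map_injective M.subtype_injective ?_)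
    rw [Subgroup.map_subgroupOf_eq_of_le (Subgroup.zpowers_le.2 k.2), MonoidHom.map_zpowers,
      Subgroup.subtype_apply]
  rw [h, Subgroup.zpowers_eq_closure, Subgroup.centralizer_closure]

end Cfsg.Agent.Lib.OddFitting.Quot
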