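import Cfsg.Agent.Lib.OddFitting.NotTI
import Cfsg.Agent.Lib.OddFitting.BaseHyps

/-!
# BG 15.7 as printed (the row `Types.Rows.r1440` of the chain)
-/

set_option autoImplicit false

namespace Cfsg.Agent.Lib.OddFitting.NotTI

universe u

variable {G : Type u} [Group G] [Finite G]

/-- BG 15.7: `M' ≤ F(M)`, with equality when `K ≠ 1`, and the three cases. -/
theorem row1440 (hG : Cfsg.IsMinSimpleOddOrder G) (M : Subgroup G) (hM : IsCoatom M)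
    (K U : Subgroup G) (hKU : Cfsg.IsSigmaDecomposition M K U) (g : G) (hg : g ∉ M)
    (hX : Cfsg.fittingOf M ⊓ (Cfsg.fittingOf M).map (MulAut.conj g).toMonoidHom ≠ ⊥) :
    (Cfsg.fittingOf M ⊓ (Cfsg.fittingOf M).map (MulAut.conj g).toMonoidHom ≤
        Cfsg.fittingHallOf M ∧
      IsCyclic ↥(Cfsg.fittingOf M ⊓ (Cfsg.fittingOf M).map (MulAut.conj g).toMonoidHom)) ∧
    (⁅M, M⁆ ≤ Cfsg.fittingOf M ∧ (K ≠ ⊥ → ⁅M, M⁆ = Cfsg.fittingOf M) ∧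
      Cfsg.fittingOf M = Cfsg.sigmaCore M ⊔
        Cfsg.piCoreOf {q | q.Prime ∧ q ∉ Cfsg.sigma M} (Cfsg.fittingOf M)) ∧
    ((K = ⊥ ∧ IsMulCommutative (Cfsg.fittingHallOf M) ∧ Cfsg.RankLE 2 (Cfsg.fittingHallOf M) ∧
        ¬ Cfsg.RankLE 1 (Cfsg.fittingHallOf M)) ∨
      (∃ p : ℕ, p.Prime ∧
        Nat.card ↥(Cfsg.fittingOf M ⊓ (Cfsg.fittingOf M).map (MulAut.conj g).toMonoidHom) = p ∧
        p ∈ Cfsg.sigma M ∧ p ∉ Cfsg.beta M ∧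
        ¬ IsMulCommutative (Cfsg.pCore p ↥(Cfsg.fittingHallOf M)) ∧
        IsCyclic (Cfsg.pPrimeCore p ↥(Cfsg.fittingHallOf M)) ∧
        ∀ q : ℕ, q.Prime → q ∣ Nat.card (Cfsg.fittingHallOf M) →
          Monoid.exponent (↥M ⧸ Cfsg.fittingHall ↥M) ∣ q - 1) ∨
      (∃ p : ℕ, p.Prime ∧
        Nat.card ↥(Cfsg.fittingOf M ⊓ (Cfsg.fittingOf M).map (MulAut.conj g).toMonoidHom) = p ∧
        p ∈ Cfsg.sigma M ∧ p ∉ Cfsg.beta M ∧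
        IsCyclic (Cfsg.pPrimeCore p ↥(Cfsg.fittingHallOf M)) ∧
        Nat.card (Cfsg.pCore p ↥(Cfsg.fittingHallOf M)) = p ^ 3 ∧
        ¬ IsMulCommutative (Cfsg.pCore p ↥(Cfsg.fittingHallOf M)) ∧ K ≠ ⊥ ∧ U = ⊥ ∧
        (Cfsg.fittingHallOf M).relIndex M ∣ p + 1)) :=
  structure_of_not_ti (Meet.base hG) (Hyps.centralizingElement hG) (Hyps.sylowNotInStar hG)
    (Hyps.regularOnU hG) (Hyps.starNeBot hG) (Hyps.regularExponent hG) hM hKU hg hX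

end Cfsg.Agent.Lib.OddFitting.NotTI
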